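import Cfsg.Agent.Lib.CharDeep.Clifford
import Cfsg.Agent.Lib.CharDeep.Relative
import Cfsg.Agent.Lib.DegreeTools.Basic
import Cfsg.Agent.Lib.Char.Quotient
import Cfsg.Prelude.Def_BlockLocal

/-!
# Counting characters over a character of a subgroup

`Over j χ ν` says that `ν` occurs in the pullback of `χ` along `j`; `count p j ν` is the number of
irreducible characters of degree prime to `p` with this property and `num j ν` the number of all of
them.
-/

set_option autoImplicit false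

open scoped ComplexConjugate

namespace CfsgLib.CharDeep.RelMcKay

open CfsgLib

variable {G G' L L' K : Type*} [Group G] [Group G'] [Group L] [Group L'] [Group K]

/-- `ν` is a constituent of the pullback of `χ`. -/
def Over (j : L →* G) (χ : G → ℂ) (ν : L → ℂ) : Prop :=
  (∑ᶠ l : L, χ (j l) * conj (ν l)) ≠ 0

theorem over_iff [Fintype L] {j : L →* G} {χ : G → ℂ} {ν : L → ℂ} :
    Over j χ ν ↔ Cfsg.classInner (χ ∘ j) ν ≠ 0 := by
  rw [Over, finsum_eq_sum_of_fintype, Cfsg.classInner, mul_ne_zero_iff]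
  simp [Function.comp_apply]

/-- The number of irreducible characters of degree prime to `p` over `ν`. -/
noncomputable def count (p : ℕ) (j : L →* G) (ν : L → ℂ) : ℕ :=
  Nat.card {χ : Cfsg.IrrCharacter G // ¬ p ∣ Cfsg.charDegree (χ : G → ℂ) ∧ Over j χ ν}

/-- The number of irreducible characters over `ν`. -/
noncomputable def num (j : L →* G) (ν : L → ℂ) : ℕ :=
  Nat.card {χ : Cfsg.IrrCharacter G // Over j χ ν}

/-- Irreducible characters of isomorphic groups. -/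
def irrEquiv (e : G ≃* G') : Cfsg.IrrCharacter G' ≃ Cfsg.IrrCharacter G where
  toFun χ := ⟨(χ : G' → ℂ) ∘ e, Char.IsIrrCharacter.comp_equiv χ.2 e⟩
  invFun χ := ⟨(χ : G → ℂ) ∘ e.symm, Char.IsIrrCharacter.comp_equiv χ.2 e.symm⟩
  left_inv χ := Subtype.ext (funext fun g => by simp)
  right_inv χ := Subtype.ext (funext fun g => by simp)

theorem irrEquiv_apply (e : G ≃* G') (χ : Cfsg.IrrCharacter G') (g : G) :
    ((irrEquiv e χ : Cfsg.IrrCharacter G) : G → ℂ) g = (χ : G' → ℂ) (e g) := rfl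

theorem charDegree_comp (f : G →* G') (χ : G' → ℂ) :
    Cfsg.charDegree (χ ∘ f) = Cfsg.charDegree χ := by
  simp [Cfsg.charDegree]

theorem over_congr {j : L →* G} {j' : L' →* G'} (e : G ≃* G') (f : L ≃* L')
    (hj : ∀ l, e (j l) = j' (f l)) {ν : L → ℂ} {ν' : L' → ℂ} (hν : ∀ l, ν l = ν' (f l))
    (χ : G' → ℂ) : Over j (χ ∘ e) ν ↔ Over j' χ ν' := by
  simp only [Over, Function.comp_apply, hj, hν]
  exact not_congr (by rw [← finsum_comp_equiv f.toEquiv]; rfl)

theorem count_congr (p : ℕ) {j : L →* G} {j' : L' →* G'} (e : G ≃* G') (f : L ≃* L')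
    (hj : ∀ l, e (j l) = j' (f l)) {ν : L → ℂ} {ν' : L' → ℂ} (hν : ∀ l, ν l = ν' (f l)) :
    count p j ν = count p j' ν' :=
  (Nat.card_congr ((irrEquiv e).subtypeEquiv fun χ => by
    show _ ↔ ¬ p ∣ Cfsg.charDegree ((χ : G' → ℂ) ∘ e) ∧ Over j ((χ : G' → ℂ) ∘ e) ν
    rw [over_congr e f hj hν, show Cfsg.charDegree ((χ : G' → ℂ) ∘ e) = Cfsg.charDegree (χ : G' → ℂ)
      from charDegree_comp e.toMonoidHom χ])).symm

theorem num_congr {j : L →* G} {j' : L' →* G'} (e : G ≃* G') (f : L ≃* L')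
    (hj : ∀ l, e (j l) = j' (f l)) {ν : L → ℂ} {ν' : L' → ℂ} (hν : ∀ l, ν l = ν' (f l)) :
    num j ν = num j' ν' :=
  (Nat.card_congr ((irrEquiv e).subtypeEquiv fun χ => (over_congr e f hj hν (χ : G' → ℂ)).symm)).symm

/-- The degree condition is void when all the characters over `ν` satisfy it. -/
theorem count_eq_num (p : ℕ) (j : L →* G) (ν : L → ℂ)
    (h : ∀ χ : Cfsg.IrrCharacter G, Over j χ ν → ¬ p ∣ Cfsg.charDegree (χ : G → ℂ)) :
    count p j ν = num j ν :=
  Nat.card_congr (Equiv.subtypeEquivRight fun χ => ⟨And.right, fun hχ => ⟨h χ hχ, hχ⟩⟩)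

theorem over_trans [Fintype G] [Fintype K] [Fintype L] {jK : K →* G} {i : L →* K} {j : L →* G}
    (hj : ∀ l, j l = jK (i l)) {χ : G → ℂ} (hχ : Cfsg.IsCharacter G χ) {θ : K → ℂ}
    (hθ : Cfsg.IsIrrCharacter K θ) {ν : L → ℂ} (hν : Cfsg.IsCharacter L ν)
    (h1 : Over jK χ θ) (h2 : Over i θ ν) : Over j χ ν := by
  rw [over_iff] at h1 h2 ⊢
  rw [show χ ∘ j = (χ ∘ jK) ∘ i from funext fun l => congrArg χ (hj l)]
  exact Clifford.classInner_ne_zero_trans (Char.IsCharacter.comp hχ jK) hθ h1 i hν h2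

theorem exists_middle [Fintype K] [Fintype L] {jK : K →* G} {i : L →* K} {j : L →* G}
    (hj : ∀ l, j l = jK (i l)) {χ : G → ℂ} (hχ : Cfsg.IsCharacter G χ) {ν : L → ℂ}
    (h : Over j χ ν) : ∃ θ : Cfsg.IrrCharacter K, Over jK χ θ ∧ Over i θ ν := by
  classical
  rw [over_iff] at h
  have hc := Char.IsCharacter.isClassFunction (Char.IsCharacter.comp hχ jK)
  have h1 : χ ∘ j = ∑ θ : Cfsg.IrrCharacter K,
      Cfsg.classInner (χ ∘ jK) (θ : K → ℂ) • ((θ : K → ℂ) ∘ i) := funext fun l => by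
    have h2 := congrFun (Char.IsClassFunction.eq_sum_irr hc) (i l)
    rw [Finset.sum_apply] at h2 ⊢
    simp only [Function.comp_apply, Pi.smul_apply] at h2 ⊢
    rw [hj]
    exact h2
  rw [h1, Char.classInner_sum_left] at h
  obtain ⟨θ, -, hθ⟩ := Finset.exists_ne_zero_of_sum_ne_zero h
  rw [Char.classInner_smul_left] at hθ
  exact ⟨θ, over_iff.mpr (left_ne_zero_of_mul hθ), over_iff.mpr (right_ne_zero_of_mul hθ)⟩

/-- A character has a constituent in every restriction. -/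
theorem exists_over [Fintype K] (j : K →* G) {χ : G → ℂ} (hχ : Cfsg.IsIrrCharacter G χ) :
    ∃ θ : Cfsg.IrrCharacter K, Over j χ θ := by
  obtain ⟨θ, hθ, hne⟩ := Char.IsCharacter.exists_constituent
    (Char.IsCharacter.comp (Char.IsIrrCharacter.isCharacter hχ) j) fun h0 =>
    Char.IsIrrCharacter.apply_one_ne_zero hχ (by simpa using congrFun h0 1)
  exact ⟨⟨θ, hθ⟩, over_iff.mpr hne⟩

section Normal

variable {Γ : Type*} [Group Γ] [Finite Γ]

/-- The ratio of degrees over a normal subgroup divides the index. -/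
theorem degree_over {N : Subgroup Γ} [N.Normal] {χ : Cfsg.IrrCharacter Γ}
    {θ : Cfsg.IrrCharacter N} (h : Over N.subtype (χ : Γ → ℂ) θ) :
    ∃ d : ℕ, Cfsg.charDegree (χ : Γ → ℂ) = d * Cfsg.charDegree (θ : N → ℂ) ∧ d ∣ N.index := by
  cases nonempty_fintype Γ
  cases nonempty_fintype N
  have h' : Cfsg.classInner (fun n : N => (χ : Γ → ℂ) n) (θ : N → ℂ) ≠ 0 :=
    (over_iff (j := N.subtype) (χ := (χ : Γ → ℂ)) (ν := (θ : N → ℂ))).mp h
  obtain ⟨d, hd, hdvd⟩ := Relative.degree_ratio_dvd χ.2 N θ.2 h'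
  refine ⟨d, ?_, hdvd⟩
  rw [← DegreeTools.deg_cast, ← DegreeTools.deg_cast] at hd
  exact_mod_cast hd

theorem not_dvd_over {p : ℕ} {N : Subgroup Γ} [N.Normal] {χ : Cfsg.IrrCharacter Γ}
    {θ : Cfsg.IrrCharacter N} (h : Over N.subtype (χ : Γ → ℂ) θ)
    (hp : ¬ p ∣ Cfsg.charDegree (χ : Γ → ℂ)) : ¬ p ∣ Cfsg.charDegree (θ : N → ℂ) := by
  obtain ⟨d, hd, -⟩ := degree_over h
  exact fun hh => hp (hd ▸ hh.mul_left d)

theorem not_dvd_of_index {p : ℕ} (hp : p.Prime) {N : Subgroup Γ} [N.Normal]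
    {χ : Cfsg.IrrCharacter Γ} {θ : Cfsg.IrrCharacter N} (h : Over N.subtype (χ : Γ → ℂ) θ)
    (hθ : ¬ p ∣ Cfsg.charDegree (θ : N → ℂ)) (hN : ¬ p ∣ N.index) :
    ¬ p ∣ Cfsg.charDegree (χ : Γ → ℂ) := by
  obtain ⟨d, hd, hdvd⟩ := degree_over h
  rw [hd]
  exact fun hh => (hp.dvd_mul.mp hh).elim (fun h1 => hN (h1.trans hdvd)) hθ

/-- The character of the subgroup `L` of `H` given by a character of `L`. -/
noncomputable def subIrr {L H : Subgroup Γ} (h : L ≤ H) (ν : Cfsg.IrrCharacter L) :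
    Cfsg.IrrCharacter (L.subgroupOf H) :=
  irrEquiv (Subgroup.subgroupOfEquivOfLe h) ν

omit [Finite Γ] in
theorem over_subIrr {L H : Subgroup Γ} (h : L ≤ H) (ν : Cfsg.IrrCharacter L) (χ : H → ℂ) :
    Over (L.subgroupOf H).subtype χ (subIrr h ν : L.subgroupOf H → ℂ) ↔
      Over (Subgroup.inclusion h) χ (ν : L → ℂ) :=
  over_congr (MulEquiv.refl H) (Subgroup.subgroupOfEquivOfLe h)
    (fun _ => Subtype.ext rfl) (fun _ => rfl) χ

omit [Finite Γ] in
theorem count_subIrr (p : ℕ) {L H : Subgroup Γ} (h : L ≤ H) (ν : Cfsg.IrrCharacter L) :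
    count p (L.subgroupOf H).subtype (subIrr h ν : L.subgroupOf H → ℂ) =
      count p (Subgroup.inclusion h) (ν : L → ℂ) :=
  count_congr p (MulEquiv.refl H) (Subgroup.subgroupOfEquivOfLe h)
    (fun _ => Subtype.ext rfl) (fun _ => rfl)

omit [Finite Γ] in
theorem num_subIrr {L H : Subgroup Γ} (h : L ≤ H) (ν : Cfsg.IrrCharacter L) :
    num (L.subgroupOf H).subtype (subIrr h ν : L.subgroupOf H → ℂ) =
      num (Subgroup.inclusion h) (ν : L → ℂ) :=
  num_congr (MulEquiv.refl H) (Subgroup.subgroupOfEquivOfLe h)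
    (fun _ => Subtype.ext rfl) (fun _ => rfl)

omit [Finite Γ] in
theorem deg_subIrr {L H : Subgroup Γ} (h : L ≤ H) (ν : Cfsg.IrrCharacter L) :
    Cfsg.charDegree (subIrr h ν : L.subgroupOf H → ℂ) = Cfsg.charDegree (ν : L → ℂ) :=
  charDegree_comp (Subgroup.subgroupOfEquivOfLe h).toMonoidHom _

/-- No characters of degree prime to `p` lie over a character of degree divisible by `p`. -/
theorem count_eq_zero (p : ℕ) {L H : Subgroup Γ} [L.Normal] (h : L ≤ H)
    (ν : Cfsg.IrrCharacter L) (hν : p ∣ Cfsg.charDegree (ν : L → ℂ)) :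
    count p (Subgroup.inclusion h) (ν : L → ℂ) = 0 := by
  haveI : (L.subgroupOf H).Normal := Subgroup.Normal.subgroupOf inferInstance H
  rw [← count_subIrr p h ν]
  refine Nat.card_eq_zero.mpr (Or.inl ⟨fun χ => ?_⟩)
  exact not_dvd_over χ.2.2 χ.2.1 (by rwa [deg_subIrr])

omit [Finite Γ] in
/-- Fixed by conjugation means equal to the conjugate. -/
theorem fix_iff {L : Subgroup Γ} [hL : L.Normal] {ν : L → ℂ} {g : Γ} :
    Cfsg.IsConjCharOf L g ν ν ↔ g ∈ Char.stab ν := by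
  rw [Char.mem_stab]
  constructor
  · exact fun h => funext fun l => h l _ rfl
  · intro h k k' e
    rw [show k' = ⟨g * k * g⁻¹, hL.conj_mem k k.2 g⟩ from Subtype.ext e]
    exact congrFun h k

end Normal

end CfsgLib.CharDeep.RelMcKay
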