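import Cfsg.Agent.Lib.CharDeep.RelMcKay.Semi

/-!
# Characters over a linear character of a central subgroup
-/

set_option autoImplicit false

open scoped ComplexConjugate

namespace CfsgLib.CharDeep.RelMcKay

open CfsgLib

variable {G L : Type*} [Group G] [Finite G] [Group L] [Finite L]

/-- On a central subgroup an irreducible character is a multiple of one linear character. -/
theorem exists_central_char {j : L →* G} (hj : ∀ l g, g * j l = j l * g)
    (χ : Cfsg.IrrCharacter G) :
    ∃ c : L →* ℂˣ, (∀ l, (χ : G → ℂ) (j l) = (χ : G → ℂ) 1 * (c l : ℂ)) ∧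
      ∀ lam : L →* ℂˣ, Over j (χ : G → ℂ) (fun l => (lam l : ℂ)) ↔ c = lam := by
  classical
  cases nonempty_fintype L
  choose f hf hdet hpow using fun l => central_scalar χ (hj l)
  have h1 : (χ : G → ℂ) 1 ≠ 0 := Char.IsIrrCharacter.apply_one_ne_zero χ.2
  obtain ⟨n, ρ, hρ, he⟩ := id χ.2
  haveI := hρ
  have hsc : ∀ l, ρ (j l) = f l • (1 : Module.End ℂ (Fin n → ℂ)) := by
    intro l
    obtain ⟨c, hc⟩ := IrrTools.exists_smul_of_commute ρ (ρ (j l)) fun g => by
      rw [← map_mul, ← map_mul, hj]
    have h2 : (χ : G → ℂ) (j l) = (χ : G → ℂ) 1 * c := by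
      rw [← he]
      show LinearMap.trace ℂ _ (ρ (j l)) = LinearMap.trace ℂ _ (ρ 1) * c
      rw [hc, map_one ρ, map_smul, smul_eq_mul, mul_comm]
    rw [hc, mul_left_cancel₀ h1 ((hf l).symm.trans h2)]
  have hmul : ∀ a b, f (a * b) = f a * f b := fun a b => by
    have h2 := hsc (a * b)
    rw [map_mul, map_mul, hsc a, hsc b, smul_mul_smul_comm, one_mul] at h2
    haveI := IrrTools.apply_ne_zero_of_isIrreducible ρ
    exact smul_left_injective ℂ (one_ne_zero (α := Module.End ℂ (Fin n → ℂ))) h2.symm
  have hone : f 1 = 1 := by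
    have h2 := hf 1
    rw [map_one] at h2
    exact mul_left_cancel₀ h1 (h2.symm.trans (mul_one _).symm)
  let F : L →* ℂ := { toFun := f, map_one' := hone, map_mul' := hmul }
  refine ⟨F.toHomUnits, fun l => hf l, fun lam => ?_⟩
  rw [over_iff, show (χ : G → ℂ) ∘ j = (χ : G → ℂ) 1 • fun l => ((F.toHomUnits l : ℂˣ) : ℂ) from
    funext fun l => hf l, Char.classInner_smul_left,
    Char.classInner_irr (Char.isIrrCharacter_hom _) (Char.isIrrCharacter_hom lam)]
  constructor
  · intro h
    split_ifs at h with e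
    · exact MonoidHom.ext fun l => Units.ext (congrFun e l)
    · exact absurd (mul_zero _) h
  · intro e
    rw [if_pos (by rw [e]), mul_one]
    exact h1

end CfsgLib.CharDeep.RelMcKay
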