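import Cfsg.Agent.Lib.CharDeep.RelMcKay.Basic

/-!
# Restriction to a subgroup covering the quotient

If `G = N H`, and the invariant character `ξ` of `N` stays irreducible on `D = N ∩ H`, then
restriction is a bijection from the characters of `G` over `ξ` to those of `H` over `ξ_D`.
-/

set_option autoImplicit false

open scoped ComplexConjugate

namespace CfsgLib.CharDeep.RelMcKay

open CfsgLib

variable {G : Type*} [Group G] [Fintype G]

/-- The squares of the multiplicities over an invariant character sum to the index. -/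
theorem sum_mult_sq (N : Subgroup G) [hN : N.Normal] [Fintype N] (ξ : Cfsg.IrrCharacter N)
    (hξ : ∀ g : G, Char.conjG (ξ : N → ℂ) g = (ξ : N → ℂ)) :
    ∑ χ : Cfsg.IrrCharacter G, Cfsg.classInner (fun n : N => (χ : G → ℂ) n) (ξ : N → ℂ) *
      Cfsg.classInner (fun n : N => (χ : G → ℂ) n) (ξ : N → ℂ) = (N.index : ℂ) := by
  classical
  have hI := Char.IsCharacter.indFun N (Char.isCharacter_irr ξ)
  have h1 : Cfsg.classInner (Cfsg.indFun N (ξ : N → ℂ)) (Cfsg.indFun N (ξ : N → ℂ)) =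
      (N.index : ℂ) := by
    rw [Char.classInner_indFun_irr ξ.2 ξ.2, Nat.card_congr (Equiv.subtypeUnivEquiv hξ),
      ← N.card_mul_index, Nat.cast_mul]
    field_simp [Char.card_ne_zero (G := N)]
  rw [← h1, Char.classInner_eq_sum_irr (Char.IsCharacter.isClassFunction hI)]
  refine Finset.sum_congr rfl fun χ _ => ?_
  have h2 : Cfsg.classInner (Cfsg.indFun N (ξ : N → ℂ)) (χ : G → ℂ) =
      Cfsg.classInner (fun n : N => (χ : G → ℂ) n) (ξ : N → ℂ) := by
    rw [Char.classInner_indFun N _ (Char.IsIrrCharacter.isClassFunction χ.2),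
      Char.IsCharacter.classInner_comm (Char.isCharacter_irr ξ)
        (Char.IsCharacter.restrict (Char.isCharacter_irr χ) N)]
  rw [h2, Char.classInner_indFun_right N _ (Char.IsIrrCharacter.isClassFunction χ.2)]

variable {N H D : Subgroup G} [hN : N.Normal] [Fintype N] [Fintype H] [Fintype D] (hDN : D ≤ N)
  (hDH : D ≤ H) (hgen : H ⊔ N = ⊤)

include hDN hDH hgen

/-- A character with as many fixed points on `D` as on `N` has as many on `H` as on `G`. -/
theorem fixed_eq {F : G → ℂ} (hF : Cfsg.IsCharacter G F)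
    (heq : Cfsg.classInner (fun d : D => F d) (fun _ => 1) =
      Cfsg.classInner (fun n : N => F n) (fun _ => 1)) :
    Cfsg.classInner (fun h : H => F h) (fun _ => 1) = Cfsg.classInner F (fun _ => 1) := by
  classical
  obtain ⟨m, -, hexp⟩ := Char.IsCharacter.exists_multiplicity hF
  have hlin : ∀ (K : Subgroup G) [Fintype K], Cfsg.classInner (fun k : K => F k) (fun _ => 1) =
      ∑ ζ : Cfsg.IrrCharacter G,
        (m ζ : ℂ) * Cfsg.classInner (fun k : K => (ζ : G → ℂ) k) (fun _ => 1) := fun K _ => by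
    simp only [Cfsg.classInner, hexp, Finset.mul_sum, Finset.sum_mul]
    rw [Finset.sum_comm]
    exact Finset.sum_congr rfl fun ζ _ => Finset.sum_congr rfl fun k _ => by ring
  have hlinG : Cfsg.classInner F (fun _ => 1) =
      ∑ ζ : Cfsg.IrrCharacter G, (m ζ : ℂ) * Cfsg.classInner (ζ : G → ℂ) (fun _ => 1) := by
    simp only [Cfsg.classInner, hexp, Finset.mul_sum, Finset.sum_mul]
    rw [Finset.sum_comm]
    exact Finset.sum_congr rfl fun ζ _ => Finset.sum_congr rfl fun k _ => by ring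
  have h1c : ∀ (K : Subgroup G) [Fintype K], Cfsg.IsCharacter K (fun _ => 1 : K → ℂ) :=
    fun K _ => Char.isCharacter_one
  choose a ha using fun ζ : Cfsg.IrrCharacter G => Char.IsCharacter.classInner_nat
    (Char.IsCharacter.restrict (Char.isCharacter_irr ζ) N) (h1c N)
  choose b hb using fun ζ : Cfsg.IrrCharacter G => Char.IsCharacter.classInner_nat
    (Char.IsCharacter.restrict (Char.isCharacter_irr ζ) D) (h1c D)
  -- a character with a fixed point on `N` is trivial on `N`
  have hker : ∀ ζ : Cfsg.IrrCharacter G, a ζ ≠ 0 → ∀ n : N, (ζ : G → ℂ) n = (ζ : G → ℂ) 1 := by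
    intro ζ hζ n
    obtain ⟨e, -, -, hr⟩ := Clifford.restrict_eq_smul N ζ.2 (Char.isIrrCharacter_one (G := N))
      (by rw [ha]; exact Nat.cast_ne_zero.mpr hζ) (fun g n => rfl)
    have h2 := congrFun hr n
    have h3 := congrFun hr 1
    simp only [Pi.smul_apply] at h2 h3
    rw [h2, ← OneMemClass.coe_one N, h3]
  have hab : ∀ ζ, a ζ ≤ b ζ := by
    intro ζ
    rcases Nat.eq_zero_or_pos (a ζ) with h | h
    · rw [h]; exact Nat.zero_le _
    refine le_of_eq (Nat.cast_injective (R := ℂ) ?_)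
    rw [← ha, ← hb]
    have hk := hker ζ h.ne'
    have hk' : ∀ d : D, (ζ : G → ℂ) d = (ζ : G → ℂ) 1 := fun d => hk ⟨d, hDN d.2⟩
    simp only [Cfsg.classInner, hk, hk', Finset.sum_const, Finset.card_univ, nsmul_eq_mul,
      ← Nat.card_eq_fintype_card, ← mul_assoc, inv_mul_cancel₀ Char.card_ne_zero]
  have hmab : ∀ ζ, m ζ * a ζ = m ζ * b ζ := by
    rw [hlin D, hlin N] at heq
    simp only [ha, hb, ← Nat.cast_mul, ← Nat.cast_sum, Nat.cast_inj] at heq
    intro ζ
    exact (Finset.sum_eq_sum_iff_of_le fun ζ _ => Nat.mul_le_mul_left _ (hab ζ)).mp heq.symm ζ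
      (Finset.mem_univ _)
  rw [hlin H, hlinG]
  refine Finset.sum_congr rfl fun ζ _ => ?_
  rcases eq_or_ne (m ζ) 0 with hm0 | hm0
  · rw [hm0, Nat.cast_zero, zero_mul, zero_mul]
  congr 1
  have hEq : a ζ = b ζ := Nat.eq_of_mul_eq_mul_left (Nat.pos_of_ne_zero hm0) (hmab ζ)
  by_cases h0 : a ζ = 0
  · have hH : Cfsg.classInner (fun h : H => (ζ : G → ℂ) h) (fun _ => 1) = 0 := by
      by_contra hne
      have h4 := Clifford.classInner_ne_zero_trans
        (Char.IsCharacter.restrict (Char.isCharacter_irr ζ) H) (Char.isIrrCharacter_one (G := H))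
        hne (Subgroup.inclusion hDH) (h1c D) (by
          show Cfsg.classInner (fun _ : D => (1 : ℂ)) (fun _ => 1) ≠ 0
          rw [Char.classInner_irr_self Char.isIrrCharacter_one]
          exact one_ne_zero)
      refine h4 (Eq.trans ?_ (show Cfsg.classInner (fun d : D => (ζ : G → ℂ) d) (fun _ => 1) = 0
        by rw [hb, ← hEq, h0, Nat.cast_zero]))
      rfl
    rw [hH, Char.classInner_irr_ne ζ.2 Char.isIrrCharacter_one]
    intro h1
    have h5 := ha ζ
    rw [h0, h1, Char.classInner_irr_self Char.isIrrCharacter_one, Nat.cast_zero] at h5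
    exact one_ne_zero h5
  · obtain ⟨ψ, hψ, he⟩ := Char.IsIrrCharacter.exists_deflate ζ.2 N fun n hn => hker ζ h0 ⟨n, hn⟩
    have hsurj : Function.Surjective ((QuotientGroup.mk' N).comp H.subtype) := fun q => by
      obtain ⟨g, rfl⟩ := QuotientGroup.mk'_surjective N q
      obtain ⟨h, hh, n, hn, rfl⟩ := Subgroup.mem_sup_of_normal_right.mp
        (hgen ▸ Subgroup.mem_top g : g ∈ H ⊔ N)
      refine ⟨⟨h, hh⟩, ?_⟩
      show QuotientGroup.mk' N h = QuotientGroup.mk' N (h * n)
      rw [map_mul, show QuotientGroup.mk' N n = 1 from (QuotientGroup.eq_one_iff n).mpr hn, mul_one]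
    have hirr : Cfsg.IsIrrCharacter H fun h : H => (ζ : G → ℂ) h := by
      rw [he]
      exact Char.IsIrrCharacter.comp_surjective hψ _ hsurj
    rw [Char.classInner_irr hirr Char.isIrrCharacter_one,
      Char.classInner_irr ζ.2 Char.isIrrCharacter_one]
    refine if_congr ⟨fun h => funext fun g => ?_, fun h => funext fun x => congrFun h x⟩ rfl rfl
    rw [he]
    obtain ⟨x, hx⟩ := hsurj (QuotientGroup.mk' N g)
    rw [Function.comp_apply, ← hx]
    exact (congrFun he _).symm.trans (congrFun h x)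

variable (hinf : N ⊓ H ≤ D) (ξ : Cfsg.IrrCharacter N)
  (hξ : ∀ g : G, Char.conjG (ξ : N → ℂ) g = (ξ : N → ℂ)) (ξD : Cfsg.IrrCharacter D)
  (hres : ∀ d : D, (ξ : N → ℂ) ⟨d, hDN d.2⟩ = (ξD : D → ℂ) d)

include hinf hξ hres

/-- Restriction is a bijection between the characters over `ξ` and those over `ξ_D`. -/
theorem num_down : num N.subtype (ξ : N → ℂ) = num (Subgroup.inclusion hDH) (ξD : D → ℂ) := by
  classical
  have hDeq : D = N ⊓ H := le_antisymm (le_inf hDN hDH) hinf
  haveI hDn : (D.subgroupOf H).Normal := by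
    rw [hDeq, Subgroup.inf_subgroupOf_right]
    exact Subgroup.Normal.subgroupOf inferInstance H
  have hresmult : ∀ χ : Cfsg.IrrCharacter G, Over N.subtype (χ : G → ℂ) (ξ : N → ℂ) →
      ∃ e : ℕ, e ≠ 0 ∧ Cfsg.classInner (fun n : N => (χ : G → ℂ) n) (ξ : N → ℂ) = e ∧
        (fun n : N => (χ : G → ℂ) n) = (e : ℂ) • (ξ : N → ℂ) := fun χ hχ =>
    Clifford.restrict_eq_smul N χ.2 ξ.2
      ((over_iff (j := N.subtype) (χ := (χ : G → ℂ)) (ν := (ξ : N → ℂ))).mp hχ)
      fun g n => congrFun (hξ g) n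
  have hresD : ∀ (χ : Cfsg.IrrCharacter G) (e : ℕ),
      (fun n : N => (χ : G → ℂ) n) = (e : ℂ) • (ξ : N → ℂ) →
      ∀ d : D, (χ : G → ℂ) d = (e : ℂ) * (ξD : D → ℂ) d := by
    intro χ e he d
    rw [← hres]
    exact congrFun he ⟨d, hDN d.2⟩
  have hinner : ∀ χ χ' : Cfsg.IrrCharacter G, Over N.subtype (χ : G → ℂ) (ξ : N → ℂ) →
      Over N.subtype (χ' : G → ℂ) (ξ : N → ℂ) →
      Cfsg.classInner (fun h : H => (χ : G → ℂ) h) (fun h : H => (χ' : G → ℂ) h) =
        Cfsg.classInner (χ : G → ℂ) (χ' : G → ℂ) := by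
    intro χ χ' hχ hχ'
    obtain ⟨e, -, -, hr⟩ := hresmult χ hχ
    obtain ⟨e', -, -, hr'⟩ := hresmult χ' hχ'
    let F : G → ℂ := (χ : G → ℂ) * fun g => conj ((χ' : G → ℂ) g)
    have hF : Cfsg.IsCharacter G F :=
      Char.IsCharacter.mul (Char.isCharacter_irr χ) (Char.IsCharacter.conj' (Char.isCharacter_irr χ'))
    have key := fixed_eq hDN hDH hgen hF (by
      have hN' : Cfsg.classInner (fun n : N => F n) (fun _ => 1) =
          (e : ℂ) * e' * Cfsg.classInner (ξ : N → ℂ) (ξ : N → ℂ) := by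
        simp only [Cfsg.classInner, Finset.mul_sum]
        refine Finset.sum_congr rfl fun n _ => ?_
        show _ * ((χ : G → ℂ) n * conj ((χ' : G → ℂ) n) * conj 1) = _
        rw [show (χ : G → ℂ) n = (e : ℂ) * (ξ : N → ℂ) n from congrFun hr n,
          show (χ' : G → ℂ) n = (e' : ℂ) * (ξ : N → ℂ) n from congrFun hr' n, map_mul,
          Complex.conj_natCast, map_one]
        ring
      have hD' : Cfsg.classInner (fun d : D => F d) (fun _ => 1) =
          (e : ℂ) * e' * Cfsg.classInner (ξD : D → ℂ) (ξD : D → ℂ) := by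
        simp only [Cfsg.classInner, Finset.mul_sum]
        refine Finset.sum_congr rfl fun d _ => ?_
        show _ * ((χ : G → ℂ) d * conj ((χ' : G → ℂ) d) * conj 1) = _
        rw [hresD χ e hr d, hresD χ' e' hr' d, map_mul, Complex.conj_natCast, map_one]
        ring
      rw [hN', hD', Char.classInner_irr_self ξ.2, Char.classInner_irr_self ξD.2])
    refine Eq.trans ?_ (key.trans ?_)
    · simp only [Cfsg.classInner, F, Pi.mul_apply, map_one, mul_one]
    · simp only [Cfsg.classInner, F, Pi.mul_apply, map_one, mul_one]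
  have hirr : ∀ χ : Cfsg.IrrCharacter G, Over N.subtype (χ : G → ℂ) (ξ : N → ℂ) →
      Cfsg.IsIrrCharacter H fun h : H => (χ : G → ℂ) h := fun χ hχ =>
    Char.IsCharacter.isIrrCharacter_of_norm_one
      (Char.IsCharacter.restrict (Char.isCharacter_irr χ) H)
      (by rw [hinner χ χ hχ hχ, Char.classInner_irr_self χ.2])
  have hmultD : ∀ χ : Cfsg.IrrCharacter G, Over N.subtype (χ : G → ℂ) (ξ : N → ℂ) →
      Cfsg.classInner (fun d : D => (χ : G → ℂ) d) (ξD : D → ℂ) =
        Cfsg.classInner (fun n : N => (χ : G → ℂ) n) (ξ : N → ℂ) := by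
    intro χ hχ
    obtain ⟨e, -, hem, hr⟩ := hresmult χ hχ
    rw [hem, show (fun d : D => (χ : G → ℂ) d) = (e : ℂ) • (ξD : D → ℂ) from
      funext (hresD χ e hr), Char.classInner_smul_left, Char.classInner_irr_self ξD.2, mul_one]
  let R : {χ : Cfsg.IrrCharacter G // Over N.subtype (χ : G → ℂ) (ξ : N → ℂ)} →
      Cfsg.IrrCharacter H := fun χ => ⟨_, hirr χ.1 χ.2⟩
  have hRinj : Function.Injective R := fun χ χ' h => by
    by_contra hne
    have h1 := hinner χ.1 χ'.1 χ.2 χ'.2
    rw [show (fun h : H => (χ'.1 : G → ℂ) h) = fun h : H => (χ.1 : G → ℂ) h from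
      (congrArg Subtype.val h).symm, Char.classInner_irr_self (hirr χ.1 χ.2),
      Char.classInner_irr_ne χ.1.2 χ'.1.2 fun e => hne (Subtype.ext (Subtype.ext e))] at h1
    exact one_ne_zero h1
  -- the multiplicities on both sides
  let e' : D.subgroupOf H ≃* D := Subgroup.subgroupOfEquivOfLe hDH
  let μ : Cfsg.IrrCharacter H → ℂ := fun η =>
    Cfsg.classInner (fun d : D => (η : H → ℂ) ⟨d, hDH d.2⟩) (ξD : D → ℂ)
  have hμ : ∀ η, μ η = Cfsg.classInner (fun x : D.subgroupOf H => (η : H → ℂ) x)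
      (subIrr hDH ξD : D.subgroupOf H → ℂ) := fun η =>
    (Char.classInner_reindex e' (fun d : D => (η : H → ℂ) ⟨d, hDH d.2⟩) (ξD : D → ℂ)).symm
  have hμover : ∀ η, Over (Subgroup.inclusion hDH) (η : Cfsg.IrrCharacter H).1 (ξD : D → ℂ) ↔
      μ η ≠ 0 := fun η => over_iff
  choose k hk using fun η : Cfsg.IrrCharacter H => Char.IsCharacter.classInner_nat
    (Char.IsCharacter.comp (Char.isCharacter_irr η) (Subgroup.inclusion hDH))
    (Char.isCharacter_irr ξD)
  have hμk : ∀ η, μ η = (k η : ℂ) := hk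
  have hidx : (D.subgroupOf H).index = N.index := by
    show D.relIndex H = N.index
    rw [hDeq, Subgroup.inf_relIndex_right, ← Subgroup.relIndex_sup_right, hgen,
      Subgroup.relIndex_top_right]
  have hinvD : ∀ h : H, Char.conjG (subIrr hDH ξD : D.subgroupOf H → ℂ) h =
      (subIrr hDH ξD : D.subgroupOf H → ℂ) := by
    intro h
    funext x
    rw [Char.conjG_apply]
    show (ξD : D → ℂ) _ = (ξD : D → ℂ) _
    rw [← hres, ← hres]
    exact congrFun (hξ h) ⟨((x : H) : G), hDN (Subgroup.mem_subgroupOf.mp x.2)⟩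
  have hsumH := sum_mult_sq (D.subgroupOf H) (subIrr hDH ξD) hinvD
  simp only [← hμ, hμk] at hsumH
  have hsumG : ∑ χ : {χ : Cfsg.IrrCharacter G // Over N.subtype (χ : G → ℂ) (ξ : N → ℂ)},
      (k (R χ) : ℂ) * k (R χ) = (N.index : ℂ) := by
    rw [← sum_mult_sq N ξ hξ]
    have h1 : ∑ χ ∈ Finset.univ.filter (fun χ : Cfsg.IrrCharacter G =>
        Over N.subtype (χ : G → ℂ) (ξ : N → ℂ)),
        Cfsg.classInner (fun n : N => (χ : G → ℂ) n) (ξ : N → ℂ) *
          Cfsg.classInner (fun n : N => (χ : G → ℂ) n) (ξ : N → ℂ) =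
        ∑ χ : Cfsg.IrrCharacter G, Cfsg.classInner (fun n : N => (χ : G → ℂ) n) (ξ : N → ℂ) *
          Cfsg.classInner (fun n : N => (χ : G → ℂ) n) (ξ : N → ℂ) :=
      Finset.sum_filter_of_ne fun χ _ h => over_iff.mpr (left_ne_zero_of_mul h)
    rw [← h1, Finset.sum_subtype (p := fun χ : Cfsg.IrrCharacter G =>
      Over N.subtype (χ : G → ℂ) (ξ : N → ℂ)) (Finset.univ.filter fun χ : Cfsg.IrrCharacter G =>
      Over N.subtype (χ : G → ℂ) (ξ : N → ℂ)) (fun χ => by simp)]
    refine Finset.sum_congr rfl fun χ _ => ?_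
    rw [← hμk, ← hmultD χ.1 χ.2]
  rw [hidx] at hsumH
  simp only [← Nat.cast_mul, ← Nat.cast_sum, Nat.cast_inj] at hsumH hsumG
  have himage : ∀ η, k η ≠ 0 → η ∈ Finset.univ.image R := by
    intro η hη
    by_contra hnot
    have h1 : ∑ x ∈ insert η (Finset.univ.image R), k x * k x ≤ ∑ x, k x * k x :=
      Finset.sum_le_sum_of_subset (Finset.subset_univ _)
    rw [Finset.sum_insert hnot, Finset.sum_image fun a _ b _ h => hRinj h, hsumG, hsumH] at h1
    have : 0 < k η * k η := Nat.mul_pos (Nat.pos_of_ne_zero hη) (Nat.pos_of_ne_zero hη)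
    omega
  refine Nat.card_congr (Equiv.ofBijective (fun χ => ⟨R χ, (hμover _).mpr ?_⟩) ⟨?_, ?_⟩)
  · show Cfsg.classInner (fun d : D => (χ.1 : G → ℂ) d) (ξD : D → ℂ) ≠ 0
    rw [hmultD χ.1 χ.2]
    exact (over_iff (j := N.subtype) (χ := (χ.1 : G → ℂ)) (ν := (ξ : N → ℂ))).mp χ.2
  · exact fun a b h => hRinj (congrArg Subtype.val h)
  · intro η
    obtain ⟨χ, -, hχ⟩ := Finset.mem_image.mp (himage η.1 (by
      have h1 := (hμover η.1).mp η.2
      rw [hμk] at h1
      exact_mod_cast h1))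
    exact ⟨χ, Subtype.ext hχ⟩

end CfsgLib.CharDeep.RelMcKay
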