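import Cfsg.Agent.Lib.CharDeep.RelMcKay.GoodCount
import Cfsg.Agent.Lib.CharDeep.RelMcKay.Down

/-!
# Comparing the characters over Glauberman correspondents

`K` is a `p'`-group acted on by the `p`-group `S` with fixed points `C`, and `H` is a `p'`-group
normalising `S` and fixing corresponding characters `θ` and `φ`.  Then `K H` has as many characters
over `θ` as `H` has over `φ`.
-/

set_option autoImplicit false

open scoped ComplexConjugate Pointwise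

namespace CfsgLib.CharDeep.RelMcKay

open CfsgLib

variable {Γ : Type*} [Group Γ]

/-- Extendibility is insensitive to injective homomorphisms. -/
theorem extTo_map {G : Type*} [Group G] (f : G →* Γ) (hf : Function.Injective f)
    {K V : Subgroup G} {K' : Subgroup Γ} (hK : K.map f = K') (θ : K → ℂ) (θ' : K' → ℂ)
    (hθ : ∀ (k : K) (k' : K'), (k' : Γ) = f k → θ' k' = θ k) :
    ExtTo (V.map f) θ' ↔ ExtTo V θ := by
  let e : V ≃* V.map f := V.equivMapOfInjective f hf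
  constructor
  · rintro ⟨χ, hχ, hχK⟩
    refine ⟨χ ∘ e, Char.IsIrrCharacter.comp_equiv hχ e, fun k v hv => ?_⟩
    have h1 : f k ∈ K' := hK ▸ ⟨k, k.2, rfl⟩
    rw [Function.comp_apply, hχK ⟨f k, h1⟩ (e v) (by simp [e, hv]), hθ k ⟨f k, h1⟩ rfl]
  · rintro ⟨χ, hχ, hχK⟩
    refine ⟨χ ∘ e.symm, Char.IsIrrCharacter.comp_equiv hχ e.symm, fun k' v hv => ?_⟩
    obtain ⟨k, hk, hke⟩ := hK.ge k'.2
    rw [Function.comp_apply, hθ ⟨k, hk⟩ k' hke.symm]
    refine hχK ⟨k, hk⟩ _ (hf ?_)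
    show f (e.symm v : G) = f k
    rw [hke, ← hv]
    conv_rhs => rw [← e.apply_symm_apply v]
    rfl

variable [Finite Γ]

/-- The count over `θ` inside a subgroup, as a sum over pairs extending `θ`. -/
theorem num_in_eq_sum {K J : Subgroup Γ} [Fintype J] (hKJ : K ≤ J) (θ : Cfsg.IrrCharacter K)
    (hfix : J ≤ fixer K (θ : K → ℂ))
    [DecidablePred fun a : J => ∀ b : J, (b : Γ) * a * (b : Γ)⁻¹ * (a : Γ)⁻¹ ∈ K →
      ExtTo (K ⊔ (Subgroup.zpowers (a : Γ) ⊔ Subgroup.zpowers (b : Γ))) (θ : K → ℂ)] :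
    num (Subgroup.inclusion hKJ) (θ : K → ℂ) * (Nat.card J * Nat.card K) =
      ∑ a : J, if ∀ b : J, (b : Γ) * a * (b : Γ)⁻¹ * (a : Γ)⁻¹ ∈ K →
          ExtTo (K ⊔ (Subgroup.zpowers (a : Γ) ⊔ Subgroup.zpowers (b : Γ))) (θ : K → ℂ)
        then Nat.card {b : J // (b : Γ) * a * (b : Γ)⁻¹ * (a : Γ)⁻¹ ∈ K} else 0 := by
  classical
  cases nonempty_fintype Γ
  have : (K.subgroupOf J).Normal :=
    Subgroup.normal_subgroupOf_of_le_normalizer fun g hg => (hfix hg).1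
  have hinv : ∀ g : J, g ∈ fixer (K.subgroupOf J) (subIrr hKJ θ : K.subgroupOf J → ℂ) := fun g =>
    ⟨by rw [Subgroup.normalizer_eq_top]; exact Subgroup.mem_top g, fun k k' e =>
      (hfix g.2).2 ⟨_, Subgroup.mem_subgroupOf.mp k.2⟩ ⟨_, Subgroup.mem_subgroupOf.mp k'.2⟩
        (congrArg Subtype.val e)⟩
  rw [← num_subIrr hKJ θ,
    ← Nat.card_congr (Subgroup.subgroupOfEquivOfLe hKJ).toEquiv,
    num_eq_sum_good (subIrr hKJ θ) hinv]
  refine Finset.sum_congr rfl fun a _ => ?_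
  have hmem : ∀ b : J, b ∈ commMod (K.subgroupOf J) a ↔
      (b : Γ) * a * (b : Γ)⁻¹ * (a : Γ)⁻¹ ∈ K := fun b => by
    rw [mem_commMod, Subgroup.mem_subgroupOf]
    rfl
  refine if_congr ?_ (Nat.card_congr (Equiv.subtypeEquivRight hmem)) rfl
  refine forall_congr' fun b => ?_
  rw [hmem b]
  refine imp_congr_right fun _ => ?_
  have key := extTo_map J.subtype Subtype.val_injective
    (V := K.subgroupOf J ⊔ Subgroup.zpowers a ⊔ Subgroup.zpowers b)
    (Subgroup.map_subgroupOf_eq_of_le hKJ) (subIrr hKJ θ : K.subgroupOf J → ℂ) (θ : K → ℂ)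
    fun k k' e => congrArg (θ : K → ℂ) (Subtype.ext e)
  rw [← key, Subgroup.map_sup, Subgroup.map_sup, MonoidHom.map_zpowers, MonoidHom.map_zpowers,
    Subgroup.map_subgroupOf_eq_of_le hKJ, sup_assoc]
  rfl

variable {p : ℕ} {K S C H J : Subgroup Γ}

/-- Sums over `K H` through the multiplication map. -/
theorem sum_prod {M : Type*} [AddCommMonoid M] [Fintype K] [Fintype H] [Fintype J]
    (hHn : H ≤ Subgroup.normalizer (K : Set Γ)) (hC : C = K ⊓ H) (hJ : J = K ⊔ H) (F : J → M) :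
    Nat.card C • ∑ a : J, F a =
      ∑ x : K × H, F ⟨(x.1 : Γ) * x.2, hJ ▸ Subgroup.mul_mem_sup x.1.2 x.2.2⟩ := by
  classical
  subst hC hJ
  cases nonempty_fintype ↥(K ⊓ H)
  let m : K × H → ↥(K ⊔ H) := fun x => ⟨(x.1 : Γ) * x.2, Subgroup.mul_mem_sup x.1.2 x.2.2⟩
  show _ = ∑ x : K × H, F (m x)
  rw [← Finset.sum_fiberwise Finset.univ m (fun x => F (m x)), Finset.smul_sum]
  refine Finset.sum_congr rfl fun a _ => ?_
  rw [Finset.sum_congr rfl (g := fun _ => F a) fun x hx => by rw [(Finset.mem_filter.mp hx).2],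
    Finset.sum_const]
  congr 1
  have ha : (a : Γ) ∈ ((K ⊔ H : Subgroup Γ) : Set Γ) := a.2
  rw [Subgroup.coe_mul_of_right_le_normalizer_left K H hHn] at ha
  obtain ⟨k₀, hk₀, h₀, hh₀, e⟩ := ha
  replace hk₀ : k₀ ∈ K := hk₀
  replace hh₀ : h₀ ∈ H := hh₀
  rw [← Fintype.card_subtype, ← Nat.card_eq_fintype_card]
  refine Nat.card_congr
    { toFun := fun c => ⟨(⟨k₀ * c, mul_mem hk₀ (Subgroup.mem_inf.mp c.2).1⟩, ⟨(c : Γ)⁻¹ * h₀, mul_mem (inv_mem (Subgroup.mem_inf.mp c.2).2) hh₀⟩),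
        Subtype.ext (by
          show k₀ * (c : Γ) * ((c : Γ)⁻¹ * h₀) = (a : Γ)
          rw [← e]; group)⟩
      invFun := fun x => ⟨k₀⁻¹ * (x.1.1 : Γ), Subgroup.mem_inf.mpr ⟨mul_mem (inv_mem hk₀) x.1.1.2, by
          have h1 : (x.1.1 : Γ) * x.1.2 = k₀ * h₀ := (congrArg Subtype.val x.2).trans e.symm
          rw [show k₀⁻¹ * (x.1.1 : Γ) = h₀ * (x.1.2 : Γ)⁻¹ by
            rw [inv_mul_eq_iff_eq_mul, ← mul_assoc, ← h1, mul_inv_cancel_right]]
          exact mul_mem hh₀ (inv_mem x.1.2.2)⟩⟩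
      left_inv := fun c => Subtype.ext (inv_mul_cancel_left k₀ (c : Γ))
      right_inv := fun x => by
        have h1 : (x.1.1 : Γ) * x.1.2 = k₀ * h₀ := (congrArg Subtype.val x.2).trans e.symm
        refine Subtype.ext (Prod.ext (Subtype.ext (mul_inv_cancel_left k₀ _)) (Subtype.ext ?_))
        show (k₀⁻¹ * (x.1.1 : Γ))⁻¹ * h₀ = (x.1.2 : Γ)
        rw [mul_inv_rev, inv_inv, mul_assoc, ← h1, inv_mul_cancel_left] }

/-- **The comparison.** -/
theorem num_eq_num (hG : GConf p K S C) (hHS : H ≤ Subgroup.normalizer (S : Set Γ))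
    {θ : Cfsg.IrrCharacter K} {φ : Cfsg.IrrCharacter C} (hθ : S ≤ fixer K (θ : K → ℂ))
    (hHθ : H ≤ fixer K (θ : K → ℂ)) (hc : Corr p hG.le θ φ) (hC : C = K ⊓ H) (hCH : C ≤ H)
    (hnd : ¬ p ∣ Nat.card H) (hJ : J = K ⊔ H) (hKJ : K ≤ J) :
    num (Subgroup.inclusion hKJ) (θ : K → ℂ) = num (Subgroup.inclusion hCH) (φ : C → ℂ) := by
  classical
  cases nonempty_fintype Γ
  have hHn : H ≤ Subgroup.normalizer (K : Set Γ) := fun h hh => (hHθ hh).1
  have hHφ : H ≤ fixer C (φ : C → ℂ) := fun h hh =>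
    (hG.fix_iff_fix hθ hc (hHn hh) (hHS hh)).mp (hHθ hh)
  have hJθ : J ≤ fixer K (θ : K → ℂ) :=
    hJ ▸ sup_le (le_fixer (Char.IsIrrCharacter.isClassFunction θ.2)) hHθ
  have hHJ : H ≤ J := hJ ▸ le_sup_right
  have hcardJ : Nat.card J * Nat.card C = Nat.card K * Nat.card H := by
    have h := sum_prod (M := ℕ) hHn hC hJ fun _ => 1
    simp only [Finset.sum_const, Finset.card_univ, smul_eq_mul, mul_one, Fintype.card_prod,
      ← Nat.card_eq_fintype_card] at h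
    rw [mul_comm, h, Nat.card_prod]
  have hJnd : ¬ p ∣ Nat.card J := fun hd =>
    (hG.prime.dvd_mul.mp (hcardJ ▸ hd.mul_right (Nat.card C))).elim hG.nd hnd
  -- commuting with a translate
  have hconj : ∀ (k : Γ), k ∈ K → ∀ x ∈ J, x * k * x⁻¹ ∈ K := fun k hk x hx =>
    (Subgroup.mem_normalizer_iff.mp (hJθ hx).1 k).mp hk
  have htrans : ∀ (k : Γ), k ∈ K → ∀ a ∈ J, ∀ b ∈ J,
      (b * (k * a) * b⁻¹ * (k * a)⁻¹ ∈ K ↔ b * a * b⁻¹ * a⁻¹ ∈ K) := by
    intro k hk a ha b hb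
    rw [show b * (k * a) * b⁻¹ * (k * a)⁻¹ = b * k * b⁻¹ * (b * a * b⁻¹ * a⁻¹) * k⁻¹ by group,
      Subgroup.mul_mem_cancel_right _ (inv_mem hk),
      Subgroup.mul_mem_cancel_left _ (hconj k hk b hb)]
  have htrans' : ∀ (k : Γ), k ∈ K → ∀ a ∈ J, ∀ b ∈ J,
      ((k * b) * a * (k * b)⁻¹ * a⁻¹ ∈ K ↔ b * a * b⁻¹ * a⁻¹ ∈ K) := by
    intro k hk a ha b hb
    rw [show (k * b) * a * (k * b)⁻¹ * a⁻¹ =
      k * (b * a * b⁻¹ * a⁻¹) * (a * k⁻¹ * a⁻¹) by group,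
      Subgroup.mul_mem_cancel_right _ (hconj _ (inv_mem hk) a ha),
      Subgroup.mul_mem_cancel_left _ hk]
  have hsup : ∀ (k a : Γ), k ∈ K →
      K ⊔ Subgroup.zpowers (k * a) = K ⊔ Subgroup.zpowers a := fun k a hk =>
    le_antisymm
      (sup_le le_sup_left (Subgroup.zpowers_le.mpr
        (mul_mem (Subgroup.mem_sup_left hk) (Subgroup.mem_sup_right (Subgroup.mem_zpowers a)))))
      (sup_le le_sup_left (Subgroup.zpowers_le.mpr (by
        simpa using mul_mem (Subgroup.mem_sup_left (T := Subgroup.zpowers (k * a)) (inv_mem hk))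
          (Subgroup.mem_sup_right (S := K) (Subgroup.mem_zpowers (k * a))))))
  have hCK : ∀ x ∈ H, (x ∈ C ↔ x ∈ K) := fun x hx => by
    rw [hC, Subgroup.mem_inf]
    exact ⟨And.left, fun h => ⟨h, hx⟩⟩
  have hcommH : ∀ a b : H, ((b : Γ) * a * (b : Γ)⁻¹ * (a : Γ)⁻¹ ∈ C ↔
      (b : Γ) * a * (b : Γ)⁻¹ * (a : Γ)⁻¹ ∈ K) := fun a b =>
    hCK _ (mul_mem (mul_mem (mul_mem b.2 a.2) (inv_mem b.2)) (inv_mem a.2))
  have hdecJ : ∀ b : J, ∃ (k : K) (h : H), (b : Γ) = k * h := fun b => by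
    have hb : (b : Γ) ∈ ((K ⊔ H : Subgroup Γ) : Set Γ) := hJ.le b.2
    rw [Subgroup.coe_mul_of_right_le_normalizer_left K H hHn] at hb
    obtain ⟨k, hk, h, hh, e⟩ := hb
    exact ⟨⟨k, hk⟩, ⟨h, hh⟩, e.symm⟩
  let P : Γ → Prop := fun a => ∀ b : J, (b : Γ) * a * (b : Γ)⁻¹ * a⁻¹ ∈ K →
    ExtTo (K ⊔ (Subgroup.zpowers a ⊔ Subgroup.zpowers (b : Γ))) (θ : K → ℂ)
  let Q : Γ → Prop := fun a => ∀ b : H, (b : Γ) * a * (b : Γ)⁻¹ * a⁻¹ ∈ C →
    ExtTo (C ⊔ (Subgroup.zpowers a ⊔ Subgroup.zpowers (b : Γ))) (φ : C → ℂ)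
  let cJ : Γ → ℕ := fun a => Nat.card {b : J // (b : Γ) * a * (b : Γ)⁻¹ * a⁻¹ ∈ K}
  let cH : Γ → ℕ := fun a => Nat.card {b : H // (b : Γ) * a * (b : Γ)⁻¹ * a⁻¹ ∈ C}
  have hPQ : ∀ a : H, P a ↔ Q a := by
    intro a
    have key : ∀ b : H, (b : Γ) * a * (b : Γ)⁻¹ * (a : Γ)⁻¹ ∈ C →
        (ExtTo (K ⊔ (Subgroup.zpowers (a : Γ) ⊔ Subgroup.zpowers (b : Γ))) (θ : K → ℂ) ↔
        ExtTo (C ⊔ (Subgroup.zpowers (a : Γ) ⊔ Subgroup.zpowers (b : Γ))) (φ : C → ℂ)) := fun b hb =>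
      ext_iff_ext hG (hHS a.2) (hHS b.2) hb
        (fun hd => hJnd (hd.trans (Subgroup.card_dvd_of_le (sup_le hKJ
          (sup_le (Subgroup.zpowers_le.mpr (hHJ a.2)) (Subgroup.zpowers_le.mpr (hHJ b.2)))))))
        hθ (hHθ a.2) (hHθ b.2) hc
    refine ⟨fun h b hb => (key b hb).mp (h ⟨b, hHJ b.2⟩ ((hcommH a b).mp hb)), fun h b hb => ?_⟩
    obtain ⟨k, b', e⟩ := hdecJ b
    have hb' : (b' : Γ) * a * (b' : Γ)⁻¹ * (a : Γ)⁻¹ ∈ K := by
      rw [e] at hb
      exact (htrans' k k.2 a (hHJ a.2) b' (hHJ b'.2)).mp hb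
    have h1 := (key b' ((hcommH a b').mpr hb')).mpr (h b' ((hcommH a b').mpr hb'))
    rw [sup_left_comm, e, hsup k b' k.2, sup_left_comm]
    exact h1
  have hPinv : ∀ (k : K) (a : J), P ((k : Γ) * a) ↔ P a := by
    intro k a
    refine forall_congr' fun b => imp_congr (htrans k k.2 a a.2 b b.2) ?_
    rw [← sup_assoc, hsup k a k.2, sup_assoc]
  have hcinv : ∀ (k : K) (a : J), cJ ((k : Γ) * a) = cJ a := fun k a =>
    Nat.card_congr (Equiv.subtypeEquivRight fun b => htrans k k.2 a a.2 b b.2)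
  have hcc : ∀ a : H, Nat.card C * cJ a = Nat.card K * cH a := by
    intro a
    have h := sum_prod (M := ℕ) hHn hC hJ fun b =>
      if (b : Γ) * a * (b : Γ)⁻¹ * (a : Γ)⁻¹ ∈ K then 1 else 0
    simp only [Finset.sum_boole, smul_eq_mul, Nat.cast_id] at h
    rw [← Fintype.card_subtype, ← Nat.card_eq_fintype_card, ← Fintype.card_subtype,
      ← Nat.card_eq_fintype_card] at h
    refine h.trans ?_
    rw [← Nat.card_prod]
    exact Nat.card_congr
      { toFun := fun x => (x.1.1, ⟨x.1.2, (hcommH a x.1.2).mpr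
          ((htrans' _ x.1.1.2 a (hHJ a.2) _ (hHJ x.1.2.2)).mp x.2)⟩)
        invFun := fun x => ⟨(x.1, x.2.1), (htrans' _ x.1.2 a (hHJ a.2) _ (hHJ x.2.1.2)).mpr
          ((hcommH a x.2.1).mp x.2.2)⟩
        left_inv := fun x => rfl
        right_inv := fun x => rfl }
  have hJsum : num (Subgroup.inclusion hKJ) (θ : K → ℂ) * (Nat.card J * Nat.card K) =
      ∑ a : J, if P a then cJ a else 0 := num_in_eq_sum hKJ θ hJθ
  have hHsum : num (Subgroup.inclusion hCH) (φ : C → ℂ) * (Nat.card H * Nat.card C) =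
      ∑ a : H, if Q a then cH a else 0 := num_in_eq_sum hCH φ hHφ
  have hs := sum_prod hHn hC hJ fun a : J => if P a then cJ a else 0
  have hs' : ∑ x : K × H, (if P ((x.1 : Γ) * x.2) then cJ ((x.1 : Γ) * x.2) else 0) =
      Nat.card K * ∑ a : H, if P a then cJ a else 0 := by
    rw [Fintype.sum_prod_type, Finset.sum_congr rfl (g := fun _ : K => ∑ a : H,
      if P a then cJ a else 0) fun k _ => Finset.sum_congr rfl fun a _ => by
        rw [hcinv k ⟨a, hHJ a.2⟩]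
        exact if_congr (hPinv k ⟨a, hHJ a.2⟩) rfl rfl,
      Finset.sum_const, Finset.card_univ, smul_eq_mul, Nat.card_eq_fintype_card]
  have hs'' : Nat.card C * ∑ a : H, (if P a then cJ a else 0) =
      Nat.card K * ∑ a : H, if Q a then cH a else 0 := by
    rw [Finset.mul_sum, Finset.mul_sum]
    refine Finset.sum_congr rfl fun a _ => ?_
    by_cases hq : Q a
    · rw [if_pos hq, if_pos ((hPQ a).mpr hq), hcc]
    · rw [if_neg hq, if_neg (fun h => hq ((hPQ a).mp h)), mul_zero, mul_zero]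
  rw [smul_eq_mul, ← hJsum] at hs
  have hs3 : Nat.card C * (num (Subgroup.inclusion hKJ) (θ : K → ℂ) * (Nat.card J * Nat.card K)) =
      Nat.card K * ∑ a : H, if P a then cJ a else 0 := hs.trans hs'
  have e : (Nat.card K * Nat.card K * (Nat.card H * Nat.card C)) *
      num (Subgroup.inclusion hKJ) (θ : K → ℂ) =
      (Nat.card K * Nat.card K * (Nat.card H * Nat.card C)) *
      num (Subgroup.inclusion hCH) (φ : C → ℂ) := by
    calc _ = Nat.card K * (Nat.card K * Nat.card H) * Nat.card C *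
          num (Subgroup.inclusion hKJ) (θ : K → ℂ) := by ring
      _ = Nat.card C * (Nat.card C *
          (num (Subgroup.inclusion hKJ) (θ : K → ℂ) * (Nat.card J * Nat.card K))) := by
        rw [← hcardJ]; ring
      _ = Nat.card K * (Nat.card C * ∑ a : H, if P a then cJ a else 0) := by rw [hs3]; ring
      _ = Nat.card K * Nat.card K * (num (Subgroup.inclusion hCH) (φ : C → ℂ) *
          (Nat.card H * Nat.card C)) := by rw [hs'', hHsum]; ring
      _ = _ := by ring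
  exact Nat.eq_of_mul_eq_mul_left (Nat.mul_pos (Nat.mul_pos Nat.card_pos Nat.card_pos)
    (Nat.mul_pos Nat.card_pos Nat.card_pos)) e

/-- Restriction to a subgroup covering the quotient, inside a subgroup. -/
theorem num_down_in {T N H D : Subgroup Γ} (hNT : N ≤ T) (hHT : H ≤ T) (hDN : D ≤ N)
    (hDH : D ≤ H) (hgen : T ≤ H ⊔ N) (hinf : N ⊓ H ≤ D) (ξ : Cfsg.IrrCharacter N)
    (hT : T ≤ fixer N (ξ : N → ℂ)) (ξD : Cfsg.IrrCharacter D)
    (hres : ∀ d : D, (ξ : N → ℂ) ⟨d, hDN d.2⟩ = (ξD : D → ℂ) d) :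
    num (Subgroup.inclusion hNT) (ξ : N → ℂ) = num (Subgroup.inclusion hDH) (ξD : D → ℂ) := by
  cases nonempty_fintype Γ
  classical
  have : (N.subgroupOf T).Normal :=
    Subgroup.normal_subgroupOf_of_le_normalizer fun g hg => (hT hg).1
  cases nonempty_fintype T
  have hDT : D ≤ T := hDH.trans hHT
  rw [← num_subIrr hNT ξ, num_down (D := D.subgroupOf T) (H := H.subgroupOf T)
    (fun x hx => hDN hx) (fun x hx => hDH hx) ?_ (fun x hx => hinf ⟨hx.1, hx.2⟩) (subIrr hNT ξ)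
    (conjG_subIrr hNT ξ hT) (subIrr hDT ξD) fun d => ?_]
  · exact num_congr (Subgroup.subgroupOfEquivOfLe hHT) (Subgroup.subgroupOfEquivOfLe hDT)
      (fun _ => Subtype.ext rfl) (fun _ => rfl)
  · rw [← Subgroup.subgroupOf_sup hHT hNT]
    exact eq_top_iff.mpr fun x _ => Subgroup.mem_subgroupOf.mpr (hgen x.2)
  · exact hres ⟨_, Subgroup.mem_subgroupOf.mp d.2⟩

end CfsgLib.CharDeep.RelMcKay
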