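import Cfsg.Agent.Lib.CharDeep.RelMcKay.Basic
import Cfsg.Agent.Lib.Char.CliffordCorr
import Mathlib.GroupTheory.GroupAction.Quotient

/-!
# Partition by constituents and the Clifford correspondence for degrees prime to `p`
-/

set_option autoImplicit false

open scoped ComplexConjugate

namespace CfsgLib.CharDeep.RelMcKay

open CfsgLib

/-- If every `c` is related to exactly one orbit, the stabiliser orders sum to the group order. -/
theorem partition {A C N : Type*} [Group N] [Finite N] [Fintype A] [Finite C]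
    (act : N →* Equiv.Perm A) (r : C → A → Prop) (hinv : ∀ n c a, r c a → r c (act n a))
    (hex : ∀ c, ∃ a, r c a) (horb : ∀ c a b, r c a → r c b → ∃ n, act n a = b) :
    ∑ a, Nat.card {n : N // act n a = a} * Nat.card {c : C // r c a} =
      Nat.card N * Nat.card C := by
  classical
  cases nonempty_fintype C
  cases nonempty_fintype N
  letI : MulAction N A := MulAction.compHom A act
  have hsmul : ∀ (n : N) (a : A), n • a = act n a := fun _ _ => rfl
  have h1 : ∀ a, Nat.card {n : N // act n a = a} * Nat.card {c : C // r c a} =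
      ∑ c, if r c a then Nat.card {n : N // act n a = a} else 0 := fun a => by
    rw [← Finset.sum_filter, Finset.sum_const, smul_eq_mul, mul_comm,
      Nat.card_eq_fintype_card (α := {c : C // r c a}), Fintype.card_subtype]
  simp only [h1]
  rw [Finset.sum_comm, ← Finset.sum_congr rfl (g := fun c : C => ∑ a, if r c a then
    Nat.card {n : N // act n a = a} else 0) fun c _ => rfl]
  rw [Finset.sum_eq_card_nsmul (b := Nat.card N) fun c _ => ?_, smul_eq_mul, mul_comm,
    Finset.card_univ, Nat.card_eq_fintype_card (α := C)]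
  obtain ⟨a₀, ha₀⟩ := hex c
  rw [← Finset.sum_filter]
  have horbit : ∀ a, r c a ↔ a ∈ MulAction.orbit N a₀ := fun a =>
    ⟨fun ha => horb c a₀ a ha₀ ha, fun ⟨n, hn⟩ => hn ▸ hinv n c a₀ ha₀⟩
  have hconst : ∀ a ∈ Finset.univ.filter (r c), Nat.card {n : N // act n a = a} =
      Nat.card (MulAction.stabilizer N a₀) := fun a ha => by
    obtain ⟨n, rfl⟩ := (horbit a).mp (Finset.mem_filter.mp ha).2
    exact (Nat.card_congr (MulAction.stabilizerEquivStabilizer (g := n) (a := a₀) rfl).toEquiv).symm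
  rw [Finset.sum_congr rfl hconst, Finset.sum_const, smul_eq_mul, ← Fintype.card_subtype,
    ← Nat.card_eq_fintype_card, Nat.card_congr (Equiv.subtypeEquivRight horbit),
    Nat.card_eq_fintype_card, Nat.card_eq_fintype_card, Nat.card_eq_fintype_card]
  exact MulAction.card_orbit_mul_card_stabilizer_eq_card_group N a₀

variable {G : Type*} [Group G] [Finite G]

/-- The Clifford correspondence on degrees prime to `p`. -/
theorem count_inertia {p : ℕ} (hp : p.Prime) {L T : Subgroup G} [L.Normal] (hLT : L ≤ T)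
    (θ : Cfsg.IrrCharacter L) (hT : Char.IsInertia (θ : L → ℂ) T) (hidx : ¬ p ∣ T.index) :
    count p L.subtype (θ : L → ℂ) = count p (Subgroup.inclusion hLT) (θ : L → ℂ) := by
  classical
  cases nonempty_fintype G
  have h0 : ∀ ψ : T → ℂ, Over (Subgroup.inclusion hLT) ψ (θ : L → ℂ) ↔
      Cfsg.classInner (Char.resLe hLT ψ) (θ : L → ℂ) ≠ 0 := fun ψ => over_iff
  have hdeg : ∀ ψ : Cfsg.IrrCharacter T,
      Cfsg.charDegree (Cfsg.indFun T (ψ : T → ℂ)) = T.index * Cfsg.charDegree (ψ : T → ℂ) :=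
    fun ψ => Nat.cast_injective (R := ℂ) (by
      rw [DegreeTools.charDegree_cast (Char.IsCharacter.indFun T (Char.isCharacter_irr ψ)),
        Char.indFun_one, Nat.cast_mul, DegreeTools.deg_cast])
  let F : {ψ : Cfsg.IrrCharacter T // ¬ p ∣ Cfsg.charDegree (ψ : T → ℂ) ∧
      Over (Subgroup.inclusion hLT) (ψ : T → ℂ) (θ : L → ℂ)} →
      {χ : Cfsg.IrrCharacter G // ¬ p ∣ Cfsg.charDegree (χ : G → ℂ) ∧
      Over L.subtype (χ : G → ℂ) (θ : L → ℂ)} := fun ψ =>
    ⟨⟨Cfsg.indFun T (ψ.1 : T → ℂ),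
      (Char.indFun_inertia hLT θ.2 hT ψ.1.2 ((h0 _).mp ψ.2.2)).1⟩, by
      show ¬ p ∣ Cfsg.charDegree (Cfsg.indFun T (ψ.1 : T → ℂ))
      rw [hdeg]
      exact fun h => (hp.dvd_mul.mp h).elim hidx ψ.2.1, over_iff.mpr (by
        show Cfsg.classInner (fun l : L => Cfsg.indFun T (ψ.1 : T → ℂ) l) (θ : L → ℂ) ≠ 0
        rw [(Char.indFun_inertia hLT θ.2 hT ψ.1.2 ((h0 _).mp ψ.2.2)).2]
        exact (h0 _).mp ψ.2.2)⟩
  refine (Nat.card_congr (Equiv.ofBijective F ⟨fun a b h => ?_, fun χ => ?_⟩)).symm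
  · exact Subtype.ext (Subtype.ext (Char.indFun_inertia_inj hLT θ.2 hT a.1.2 ((h0 _).mp a.2.2)
      b.1.2 ((h0 _).mp b.2.2) (congrArg (fun x => ((x.1 : Cfsg.IrrCharacter G) : G → ℂ)) h)))
  · have hc : Cfsg.classInner (fun h : L => (χ.1 : G → ℂ) h) (θ : L → ℂ) ≠ 0 :=
      (over_iff (j := L.subtype) (χ := (χ.1 : G → ℂ)) (ν := (θ : L → ℂ))).mp χ.2.2
    obtain ⟨ψ, hψ, hψc, he⟩ := Char.exists_eq_indFun_inertia hLT θ.2 hT χ.1.2 hc
    refine ⟨⟨⟨ψ, hψ⟩, fun h => χ.2.1 ?_, (h0 _).mpr hψc⟩, Subtype.ext (Subtype.ext he.symm)⟩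
    rw [he, hdeg ⟨ψ, hψ⟩]
    exact h.mul_left _

/-- The Clifford correspondence inside a subgroup. -/
theorem count_inertia_in {p : ℕ} (hp : p.Prime) {L T V : Subgroup G} [L.Normal] (hLT : L ≤ T)
    (hTV : T ≤ V) (θ : Cfsg.IrrCharacter L)
    (hT : ∀ g ∈ V, g ∈ T ↔ g ∈ Char.stab (θ : L → ℂ)) (hidx : ¬ p ∣ T.relIndex V) :
    count p (Subgroup.inclusion (hLT.trans hTV)) (θ : L → ℂ) =
      count p (Subgroup.inclusion hLT) (θ : L → ℂ) := by
  haveI : (L.subgroupOf V).Normal := Subgroup.Normal.subgroupOf inferInstance V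
  rw [← count_subIrr p (hLT.trans hTV) θ, count_inertia hp (T := T.subgroupOf V)
    (fun x hx => hLT hx) (subIrr (hLT.trans hTV) θ) ?_ hidx]
  · exact count_congr p (Subgroup.subgroupOfEquivOfLe hTV)
      (Subgroup.subgroupOfEquivOfLe (hLT.trans hTV)) (fun _ => Subtype.ext rfl) (fun _ => rfl)
  · intro g
    rw [Subgroup.mem_subgroupOf, hT g g.2, Char.mem_stab]
    refine ⟨fun h l => ?_, fun h => funext fun l => ?_⟩
    · exact congrFun h ⟨((l : V) : G), Subgroup.mem_subgroupOf.mp l.2⟩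
    · exact h ⟨⟨(l : G), hLT.trans hTV l.2⟩, Subgroup.mem_subgroupOf.mpr l.2⟩

theorem count_inclusion_top (p : ℕ) {L T : Subgroup G} (h : L ≤ T) (hT : T = ⊤) (θ : L → ℂ) :
    count p (Subgroup.inclusion h) θ = count p L.subtype θ := by
  subst hT
  exact count_congr p Subgroup.topEquiv (MulEquiv.refl L) (fun _ => rfl) (fun _ => rfl)

end CfsgLib.CharDeep.RelMcKay
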