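import Cfsg.Agent.Lib.CharDeep.RelMcKay.Central
import Cfsg.Agent.Lib.CharDeep.RelMcKay.Compare
import Cfsg.Agent.Lib.CharDeep.RelMcKay.Partition
import Mathlib.GroupTheory.Sylow
import Mathlib.GroupTheory.SchurZassenhaus

/-!
# The count when a `p'`-group times a Sylow subgroup is normal

`K` is a normal `p'`-subgroup of `X` with `K S` normal, `Z` is central and contained in `K S`, and
`lam` is a linear character of `Z`.  The characters of degree prime to `p` over `lam` of `X` and of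
the normalizer of `S` are equal in number.
-/

set_option autoImplicit false

open scoped ComplexConjugate Pointwise

namespace CfsgLib.CharDeep.RelMcKay

open CfsgLib

variable {X : Type*} [Group X] [Finite X] {p : ℕ}

/-- Conjugation by a normalising subgroup on the characters. -/
noncomputable def nAct {N V : Subgroup X} (h : N ≤ Subgroup.normalizer (V : Set X)) :
    N →* Equiv.Perm (Cfsg.IrrCharacter V) :=
  Glauberman.irrPerm (Coprime.conjHom h)

theorem nAct_eq {N V : Subgroup X} (h : N ≤ Subgroup.normalizer (V : Set X)) (n : N)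
    (ψ : Cfsg.IrrCharacter V) :
    nAct h n ψ = conjIrrOn V (n : X)⁻¹ (inv_mem (h n.2)) ψ := by
  refine Subtype.ext (funext fun v => ?_)
  show (ψ : V → ℂ) ((Coprime.conjHom h n).symm v) = _
  refine congrArg (ψ : V → ℂ) ?_
  rw [MulEquiv.symm_apply_eq]
  refine Subtype.ext ?_
  rw [Coprime.conjHom_apply, conjOn_apply]
  group

theorem deg_conjIrrOn (V : Subgroup X) (g : X) (hg : g ∈ Subgroup.normalizer (V : Set X))
    (ψ : Cfsg.IrrCharacter V) :
    Cfsg.charDegree (conjIrrOn V g hg ψ : V → ℂ) = Cfsg.charDegree (ψ : V → ℂ) :=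
  charDegree_comp (conjOn V g hg).toMonoidHom _

theorem over_conjIrrOn {Z V : Subgroup X} (hZ : Z ≤ Subgroup.center X) (hZV : Z ≤ V) (g : X)
    (hg : g ∈ Subgroup.normalizer (V : Set X)) (ψ : Cfsg.IrrCharacter V) (lam : Z → ℂ) :
    Over (Subgroup.inclusion hZV) (conjIrrOn V g hg ψ : V → ℂ) lam ↔
      Over (Subgroup.inclusion hZV) (ψ : V → ℂ) lam :=
  over_congr (conjOn V g hg) (MulEquiv.refl Z) (fun z => Subtype.ext (by
    rw [conjOn_apply]
    show g * (z : X) * g⁻¹ = z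
    rw [Subgroup.mem_center_iff.mp (hZ z.2) g, mul_inv_cancel_right])) (fun _ => rfl) (ψ : V → ℂ)

/-- The Clifford correspondence ends in a count of all characters. -/
theorem count_eq_num_stab {G : Type*} [Group G] [Finite G] (hp : p.Prime) {L : Subgroup G}
    [L.Normal] (hL : ¬ p ∣ L.index) (θ : Cfsg.IrrCharacter L)
    (hθ : ¬ p ∣ Cfsg.charDegree (θ : L → ℂ)) {T : Subgroup G} (hLT : L ≤ T)
    (hT : ∀ g, g ∈ T ↔ g ∈ Char.stab (θ : L → ℂ)) :
    count p L.subtype (θ : L → ℂ) = num (Subgroup.inclusion hLT) (θ : L → ℂ) := by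
  rw [count_inertia hp hLT θ (fun g => (hT g).trans (Char.isInertia_stab (θ : L → ℂ) g))
    fun h => hL (h.trans (Subgroup.index_dvd_of_le hLT))]
  refine count_eq_num p _ _ fun χ hχ => not_dvd_of_index hp (N := L.subgroupOf T)
    (θ := subIrr hLT θ) ((over_subIrr hLT θ (χ : T → ℂ)).mpr hχ) (by rwa [deg_subIrr]) ?_
  intro h
  refine hL ?_
  rw [← Subgroup.relIndex_mul_index hLT]
  exact h.mul_right _

variable {S K C Z V W : Subgroup X}

/-- Corresponding characters of `K S` and `C S`. -/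
def Pair (p : ℕ) (hle : C ≤ K) (S : Subgroup X) (ψ : Cfsg.IrrCharacter V)
    (ψ' : Cfsg.IrrCharacter W) : Prop :=
  ∃ (θ : Cfsg.IrrCharacter K) (φ : Cfsg.IrrCharacter C) (μ : S →* ℂˣ),
    S ≤ fixer K (θ : K → ℂ) ∧
    (∀ (k : K) (v : V), (v : X) = k → (ψ : V → ℂ) v = (θ : K → ℂ) k) ∧
    (∀ (k : C) (v : W), (v : X) = k → (ψ' : W → ℂ) v = (φ : C → ℂ) k) ∧
    Corr p hle θ φ ∧ Tag S ψ μ ∧ Tag S ψ' μ

theorem pair_degrees (h : GConf p K S C) {ψ : Cfsg.IrrCharacter V} {ψ' : Cfsg.IrrCharacter W}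
    (hP : Pair p h.le S ψ ψ') :
    ¬ p ∣ Cfsg.charDegree (ψ : V → ℂ) ∧ ¬ p ∣ Cfsg.charDegree (ψ' : W → ℂ) := by
  obtain ⟨θ, φ, μ, -, hθ, hφ, -⟩ := hP
  refine ⟨fun hd => h.nd ?_, fun hd => h.fixed.nd ?_⟩
  · rw [show Cfsg.charDegree (ψ : V → ℂ) = Cfsg.charDegree (θ : K → ℂ) by
      unfold Cfsg.charDegree; rw [hθ 1 1 rfl]] at hd
    exact hd.trans (DegreeTools.deg_dvd_card θ)
  · rw [show Cfsg.charDegree (ψ' : W → ℂ) = Cfsg.charDegree (φ : C → ℂ) by
      unfold Cfsg.charDegree; rw [hφ 1 1 rfl]] at hd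
    exact hd.trans (DegreeTools.deg_dvd_card φ)

theorem pair_exists_right (h : GConf p K S C) (hV : V = K ⊔ S) (hW : W = C ⊔ S)
    (ψ : Cfsg.IrrCharacter V) (hψ : ¬ p ∣ Cfsg.charDegree (ψ : V → ℂ)) :
    ∃ ψ' : Cfsg.IrrCharacter W, Pair p h.le S ψ ψ' := by
  obtain ⟨θ, hθS, hθ⟩ := h.exists_theta hV ψ hψ
  obtain ⟨μ, hμ⟩ := exists_tag (hV ▸ le_sup_right) h.prime h.pgroup ψ hψ
  obtain ⟨φ, hc⟩ := h.exists_corr θ
  obtain ⟨ψ', hφ, hμ', -⟩ := h.fixed.exists_psi hW φ (h.fixed_fixer _) μ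
  exact ⟨ψ', θ, φ, μ, hθS, hθ, hφ, hc, hμ, hμ'⟩

theorem pair_exists_left (h : GConf p K S C) (hV : V = K ⊔ S) (hW : W = C ⊔ S)
    (ψ' : Cfsg.IrrCharacter W) (hψ' : ¬ p ∣ Cfsg.charDegree (ψ' : W → ℂ)) :
    ∃ ψ : Cfsg.IrrCharacter V, Pair p h.le S ψ ψ' := by
  obtain ⟨φ, -, hφ⟩ := h.fixed.exists_theta hW ψ' hψ'
  obtain ⟨μ, hμ⟩ := exists_tag (hW ▸ le_sup_right) h.prime h.pgroup ψ' hψ'
  obtain ⟨θ, hθS, hc⟩ := h.exists_inv φ
  obtain ⟨ψ, hθ, hμ', -⟩ := h.exists_psi hV θ hθS μ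
  exact ⟨ψ, θ, φ, μ, hθS, hθ, hφ, hc, hμ', hμ⟩

theorem pair_right_unique (h : GConf p K S C) (hV : V = K ⊔ S) (hW : W = C ⊔ S)
    {ψ : Cfsg.IrrCharacter V} {ψ' ψ'' : Cfsg.IrrCharacter W} (h1 : Pair p h.le S ψ ψ')
    (h2 : Pair p h.le S ψ ψ'') : ψ' = ψ'' := by
  have hd := (pair_degrees h h1).1
  obtain ⟨θ, φ, μ, hθS, hθ, hφ, hc, hμ, hμ'⟩ := h1
  obtain ⟨θ₁, φ₁, μ₁, hθS₁, hθ₁, hφ₁, hc₁, hμ₁, hμ₁'⟩ := h2
  have hKV : K ≤ V := hV ▸ le_sup_left
  have e : θ₁ = θ := Subtype.ext (funext fun k =>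
    (hθ₁ k ⟨k, hKV k.2⟩ rfl).symm.trans (hθ k _ rfl))
  subst e
  have e2 := h.corr_unique hθS hc hc₁
  subst e2
  have e3 := tag_unique (hV ▸ le_sup_right) h.prime h.pgroup hd hμ hμ₁
  subst e3
  exact h.fixed.psi_unique hW φ hφ hφ₁ hμ' hμ₁'

theorem pair_left_unique (h : GConf p K S C) (hV : V = K ⊔ S) (hW : W = C ⊔ S)
    {ψ ψ₁ : Cfsg.IrrCharacter V} {ψ' : Cfsg.IrrCharacter W} (h1 : Pair p h.le S ψ ψ')
    (h2 : Pair p h.le S ψ₁ ψ') : ψ = ψ₁ := by
  have hd := (pair_degrees h h1).2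
  obtain ⟨θ, φ, μ, hθS, hθ, hφ, hc, hμ, hμ'⟩ := h1
  obtain ⟨θ₁, φ₁, μ₁, hθS₁, hθ₁, hφ₁, hc₁, hμ₁, hμ₁'⟩ := h2
  have hCW : C ≤ W := hW ▸ le_sup_left
  have e : φ₁ = φ := Subtype.ext (funext fun k =>
    (hφ₁ k ⟨k, hCW k.2⟩ rfl).symm.trans (hφ k _ rfl))
  subst e
  have e2 := h.corr_injective hθS hθS₁ hc hc₁
  subst e2
  have e3 := tag_unique (hW ▸ le_sup_right) h.prime h.pgroup hd hμ' hμ₁'
  subst e3
  exact h.psi_unique hV θ hθ hθ₁ hμ hμ₁

theorem pair_conj (h : GConf p K S C) {ψ : Cfsg.IrrCharacter V} {ψ' : Cfsg.IrrCharacter W}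
    (hP : Pair p h.le S ψ ψ') {g : X} (hK : g ∈ Subgroup.normalizer (K : Set X))
    (hS : g ∈ Subgroup.normalizer (S : Set X)) (hgV : g ∈ Subgroup.normalizer (V : Set X))
    (hgW : g ∈ Subgroup.normalizer (W : Set X)) :
    Pair p h.le S (conjIrrOn V g hgV ψ) (conjIrrOn W g hgW ψ') := by
  obtain ⟨θ, φ, μ, hθS, hθ, hφ, hc, hμ, hμ'⟩ := hP
  have hC := h.normalizes hK hS
  refine ⟨conjIrrOn K g hK θ, conjIrrOn C g hC φ, μ.comp (conjOn S g hS).toMonoidHom,
    h.fix_conj hθS hK hS, fun k v e => ?_, fun k v e => ?_, corr_conj hK hC hc,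
    fun s v e => ?_, fun s v e => ?_⟩
  · exact hθ (conjOn K g hK k) (conjOn V g hgV v) (by rw [conjOn_apply, conjOn_apply, e])
  · exact hφ (conjOn C g hC k) (conjOn W g hgW v) (by rw [conjOn_apply, conjOn_apply, e])
  · show Cfsg.detChar ((ψ : V → ℂ) ∘ conjOn V g hgV) v = _
    rw [deg_conjIrrOn, detChar_comp_equiv _ ψ.2,
      hμ (conjOn S g hS s) (conjOn V g hgV v) (by rw [conjOn_apply, conjOn_apply, e])]
    rfl
  · show Cfsg.detChar ((ψ' : W → ℂ) ∘ conjOn W g hgW) v = _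
    rw [deg_conjIrrOn, detChar_comp_equiv _ ψ'.2,
      hμ' (conjOn S g hS s) (conjOn W g hgW v) (by rw [conjOn_apply, conjOn_apply, e])]
    rfl

theorem pair_central (h : GConf p K S C) (hW : W = C ⊔ S) (hZ : Z ≤ Subgroup.center X)
    (hZV : Z ≤ V) (hZW : Z ≤ W) {ψ : Cfsg.IrrCharacter V} {ψ' : Cfsg.IrrCharacter W}
    (hP : Pair p h.le S ψ ψ') (lam : Z →* ℂˣ) :
    Over (Subgroup.inclusion hZV) (ψ : V → ℂ) (fun z => (lam z : ℂ)) ↔
      Over (Subgroup.inclusion hZW) (ψ' : W → ℂ) (fun z => (lam z : ℂ)) := by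
  classical
  cases nonempty_fintype X
  obtain ⟨hd, hd'⟩ := pair_degrees h hP
  obtain ⟨θ, φ, μ, hθS, hθ, hφ, hc, hμ, hμ'⟩ := hP
  have hzc : ∀ (z : Z) (g : X), g * z = z * g := fun z g => Subgroup.mem_center_iff.mp (hZ z.2) g
  obtain ⟨c, hcv, hciff⟩ := exists_central_char (j := Subgroup.inclusion hZV)
    (fun z g => Subtype.ext (hzc z g)) ψ
  obtain ⟨c', hcv', hciff'⟩ := exists_central_char (j := Subgroup.inclusion hZW)
    (fun z g => Subtype.ext (hzc z g)) ψ'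
  rw [hciff, hciff', show c = c' from ?_]
  -- the part in `C`
  let D : Subgroup X := Z ⊓ C
  have hDK : D ≤ K := inf_le_right.trans h.le
  have hDC : D ≤ C := inf_le_right
  obtain ⟨a, hav, haiff⟩ := exists_central_char (j := Subgroup.inclusion hDK)
    (fun z g => Subtype.ext (Subgroup.mem_center_iff.mp (hZ z.2.1) g)) θ
  obtain ⟨b, hbv, hbiff⟩ := exists_central_char (j := Subgroup.inclusion hDC)
    (fun z g => Subtype.ext (Subgroup.mem_center_iff.mp (hZ z.2.1) g)) φ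
  have hab : a = b := by
    cases nonempty_fintype K
    cases nonempty_fintype C
    refine (haiff b).mp (over_trans (jK := Subgroup.inclusion h.le) (i := Subgroup.inclusion hDC)
      (fun _ => rfl) (Char.isCharacter_irr θ) φ.2 (Char.isCharacter_hom b) (over_iff.mpr ?_)
      ((hbiff b).mpr rfl))
    rw [Glauberman.mult_spec]
    exact Nat.cast_ne_zero.mpr fun h0 => corr_iff.mp hc (h0 ▸ dvd_zero p)
  have := Fact.mk h.prime
  obtain ⟨m, hm⟩ := h.pgroup.exists_card_eq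
  ext z
  congr 1
  -- decompose a central element
  have hz : (z : X) ∈ ((C ⊔ S : Subgroup X) : Set X) := hW.le (hZW z.2)
  rw [Subgroup.coe_mul_of_right_le_normalizer_left C S
    (Subgroup.le_normalizer_iff.2 h.fixed.norm)] at hz
  obtain ⟨k, hk, s, hs, e⟩ := hz
  replace hk : k ∈ C := hk
  replace hs : s ∈ S := hs
  replace e : k * s = (z : X) := e
  have hks : Commute k s := (((h.fix k).mp hk).2 s hs).symm
  have hkpow : (z : X) ^ Nat.card S = k ^ Nat.card S := by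
    rw [← e, hks.mul_pow, show s ^ Nat.card S = 1 from
      congrArg Subtype.val (pow_card_eq_one' (x := (⟨s, hs⟩ : S))), mul_one]
  have hkZ : k ∈ Z := by
    have hcop : (Nat.card S).Coprime (orderOf k) := by
      refine Nat.Coprime.coprime_dvd_right (Subgroup.orderOf_dvd_natCard _ (h.le hk)) ?_
      rw [hm]
      exact ((h.prime.coprime_iff_not_dvd).mpr h.nd).pow_left m
    obtain ⟨i, hi⟩ : ∃ i, (k ^ Nat.card S) ^ i = k := exists_pow_eq_self_of_coprime hcop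
    rw [← hi, ← hkpow]
    exact pow_mem (pow_mem z.2 _) _
  have hsZ : s ∈ Z := by
    rw [show s = k⁻¹ * (z : X) by rw [← e, inv_mul_cancel_left]]
    exact mul_mem (inv_mem hkZ) z.2
  have hzeq : z = (⟨k, hkZ⟩ : Z) * ⟨s, hsZ⟩ := Subtype.ext e.symm
  rw [hzeq, map_mul, map_mul]
  congr 1
  · refine Units.ext (mul_left_cancel₀ (Char.IsIrrCharacter.apply_one_ne_zero θ.2)
      (Eq.trans ?_ (congrArg (fun u : D →* ℂˣ => (θ : K → ℂ) 1 * (u ⟨k, hkZ, hk⟩ : ℂ)) hab)))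
      |>.trans ?_
    · have h1 := hcv ⟨k, hkZ⟩
      rw [show (ψ : V → ℂ) 1 = (θ : K → ℂ) 1 from hθ 1 1 rfl,
        hθ ⟨k, h.le hk⟩ (Subgroup.inclusion hZV ⟨k, hkZ⟩) rfl] at h1
      exact h1.symm.trans (hav ⟨k, hkZ, hk⟩)
    · have h1 := hcv' ⟨k, hkZ⟩
      rw [show (ψ' : W → ℂ) 1 = (φ : C → ℂ) 1 from hφ 1 1 rfl,
        hφ ⟨k, hk⟩ (Subgroup.inclusion hZW ⟨k, hkZ⟩) rfl] at h1
      exact Units.ext (mul_left_cancel₀ (Char.IsIrrCharacter.apply_one_ne_zero φ.2)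
        ((hbv ⟨k, hkZ, hk⟩).symm.trans h1))
  · have h1 := tag_scalar h.prime h.pgroup hd hμ (s := ⟨s, hs⟩)
      (v := Subgroup.inclusion hZV ⟨s, hsZ⟩) rfl
      fun g => Subtype.ext (hzc ⟨s, hsZ⟩ g)
    have h2 := tag_scalar h.prime h.pgroup hd' hμ' (s := ⟨s, hs⟩)
      (v := Subgroup.inclusion hZW ⟨s, hsZ⟩) rfl
      fun g => Subtype.ext (hzc ⟨s, hsZ⟩ g)
    have e1 := mul_left_cancel₀ (Char.IsIrrCharacter.apply_one_ne_zero ψ.2)
      ((hcv ⟨s, hsZ⟩).symm.trans h1)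
    have e2 := mul_left_cancel₀ (Char.IsIrrCharacter.apply_one_ne_zero ψ'.2)
      ((hcv' ⟨s, hsZ⟩).symm.trans h2)
    exact Units.ext (e1.trans e2.symm)

/-- Equal numbers of characters over a pair. -/
theorem count_pair [Fact p.Prime] (S : Sylow p X) [K.Normal] (h : GConf p K (S : Subgroup X) C)
    {N : Subgroup X} (hN : N = Subgroup.normalizer ((S : Subgroup X) : Set X)) [V.Normal]
    (hV : V = K ⊔ S) (hW : W = C ⊔ S) (hWN : W ≤ N) (hgen : K ⊔ N = ⊤)
    (hVN : V ⊓ N ≤ W) {ψ : Cfsg.IrrCharacter V} {ψ' : Cfsg.IrrCharacter W}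
    (hP : Pair p h.le (S : Subgroup X) ψ ψ') :
    count p V.subtype (ψ : V → ℂ) = count p (Subgroup.inclusion hWN) (ψ' : W → ℂ) := by
  classical
  cases nonempty_fintype X
  have hp : p.Prime := Fact.out
  obtain ⟨hd, hd'⟩ := pair_degrees h hP
  have hSV : (S : Subgroup X) ≤ V := hV ▸ le_sup_right
  have hSW : (S : Subgroup X) ≤ W := hW ▸ le_sup_right
  have hKV : K ≤ V := hV ▸ le_sup_left
  have hCW : C ≤ W := hW ▸ le_sup_left
  have hVn : N ≤ Subgroup.normalizer (V : Set X) := Subgroup.normalizer_eq_top (H := V) ▸ le_top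
  have hKn : N ≤ Subgroup.normalizer (K : Set X) := Subgroup.normalizer_eq_top (H := K) ▸ le_top
  have hWn : N ≤ Subgroup.normalizer (W : Set X) := fun g hg => mem_normalizer_of_conj fun w hw =>
    hVN (Subgroup.mem_inf.mpr ⟨(Subgroup.mem_normalizer_iff.mp (hVn hg) w).mp
      ((hW.le.trans (sup_le_sup_right h.le _)).trans hV.ge hw),
      mul_mem (mul_mem hg (hWN hw)) (inv_mem hg)⟩)
  have : (W.subgroupOf N).Normal := Subgroup.normal_subgroupOf_of_le_normalizer hWn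
  let T : Subgroup X := Char.stab (ψ : V → ℂ)
  have hVT : V ≤ T := Char.le_stab (Char.IsIrrCharacter.isClassFunction ψ.2)
  have hiff : ∀ g ∈ N, (g ∈ T ↔ g ∈ fixer W (ψ' : W → ℂ)) := by
    intro g hg
    have hK := hKn hg
    have hS : g ∈ Subgroup.normalizer ((S : Subgroup X) : Set X) := hN.le hg
    have hc := pair_conj h hP hK hS (hVn hg) (hWn hg)
    rw [← fix_iff (ν := (ψ : V → ℂ)), ← conjIrrOn_eq_iff (hWn hg)]
    constructor
    · intro hf
      have e := (conjIrrOn_eq_iff (hVn hg)).mpr ⟨hVn hg, hf⟩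
      rw [e] at hc
      exact pair_right_unique h hV hW hc hP
    · intro e
      rw [e] at hc
      exact ((conjIrrOn_eq_iff (hVn hg)).mp (pair_left_unique h hV hW hc hP)).2
  let U : Subgroup X := T ⊓ N
  have hWU : W ≤ U :=
    le_inf (((hW.le.trans (sup_le_sup_right h.le _)).trans hV.ge).trans hVT) hWN
  have hUN : U ≤ N := inf_le_right
  -- both sides after Clifford
  rw [count_eq_num_stab hp (fun hd => S.not_dvd_index (hd.trans (Subgroup.index_dvd_of_le hSV)))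
    ψ hd hVT fun g => Iff.rfl, ← count_subIrr p hWN ψ',
    count_eq_num_stab hp (L := W.subgroupOf N) (T := U.subgroupOf N) ?_ (subIrr hWN ψ')
      (by rwa [deg_subIrr]) (fun x hx => hWU hx) ?_]
  rotate_left
  · intro hd
    refine S.not_dvd_index ?_
    rw [← Subgroup.relIndex_mul_index (hSW.trans hWN)]
    exact (hd.trans (Subgroup.relIndex_dvd_of_le_left N hSW)).mul_right _
  · intro g
    rw [Subgroup.mem_subgroupOf, Char.mem_stab]
    constructor
    · intro hg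
      exact funext fun w => ((hiff g g.2).mp hg.1).2
        ⟨((w : N) : X), Subgroup.mem_subgroupOf.mp w.2⟩
        ⟨(g : X) * w * (g : X)⁻¹, (Subgroup.mem_normalizer_iff.mp (hWn g.2) _).mp
          (Subgroup.mem_subgroupOf.mp w.2)⟩ rfl
    · intro hg
      refine ⟨(hiff g g.2).mpr ⟨hWn g.2, fun k k' e => ?_⟩, g.2⟩
      have h1 := congrFun hg ⟨⟨(k : X), hWN k.2⟩, Subgroup.mem_subgroupOf.mpr k.2⟩
      rw [show k' = ⟨(g : X) * k * (g : X)⁻¹, (Subgroup.mem_normalizer_iff.mp (hWn g.2) _).mp k.2⟩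
        from Subtype.ext e]
      exact h1
  rw [show num (Subgroup.inclusion (fun x hx => hWU hx : W.subgroupOf N ≤ U.subgroupOf N))
      (subIrr hWN ψ' : W.subgroupOf N → ℂ) = num (Subgroup.inclusion hWU) (ψ' : W → ℂ) from
    num_congr (Subgroup.subgroupOfEquivOfLe hUN) (Subgroup.subgroupOfEquivOfLe hWN)
      (fun _ => Subtype.ext rfl) (fun _ => rfl)]
  -- a complement of `S`
  have hSU : (S : Subgroup X) ≤ U := hSW.trans hWU
  have hUS : U ≤ Subgroup.normalizer ((S : Subgroup X) : Set X) := hUN.trans hN.le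
  have : ((S : Subgroup X).subgroupOf U).Normal :=
    Subgroup.normal_subgroupOf_of_le_normalizer hUS
  obtain ⟨k, hk⟩ := S.isPGroup'.exists_card_eq
  have hidx : ¬ p ∣ (S : Subgroup X).relIndex U := fun hd => S.not_dvd_index (by
    rw [← Subgroup.relIndex_mul_index hSU]
    exact hd.mul_right _)
  have hcop : (Nat.card ((S : Subgroup X).subgroupOf U)).Coprime
      ((S : Subgroup X).subgroupOf U).index := by
    rw [Nat.card_congr (Subgroup.subgroupOfEquivOfLe hSU).toEquiv, hk]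
    exact ((hp.coprime_iff_not_dvd).mpr hidx).pow_left k
  obtain ⟨H', hH'⟩ := Subgroup.exists_right_complement'_of_coprime hcop
  let H : Subgroup X := H'.map U.subtype
  have hHU : H ≤ U := Subgroup.map_subtype_le H'
  have hHcard : Nat.card H = (S : Subgroup X).relIndex U := by
    rw [Subgroup.card_map_of_injective U.subtype_injective]
    exact (hH'.symm.index_eq_card).symm
  have hHnd : ¬ p ∣ Nat.card H := hHcard ▸ hidx
  have hUeq : U ≤ (S : Subgroup X) ⊔ H := by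
    intro x hx
    obtain ⟨⟨a, b⟩, e, -⟩ := hH'.existsUnique ⟨x, hx⟩
    rw [show x = (((a : U) * (b : U) : U) : X) from (congrArg Subtype.val e).symm]
    exact Subgroup.mul_mem_sup (Subgroup.mem_subgroupOf.mp a.2) ⟨(b : U), b.2, rfl⟩
  have hCN : C ≤ N := hCW.trans hWN
  have hCnorm : H ≤ Subgroup.normalizer (C : Set X) := fun g hg =>
    h.normalizes (hKn (hUN (hHU hg))) (hUS (hHU hg))
  have hCH : C ≤ H := by
    have hle : C ⊔ H ≤ U := sup_le (hCW.trans hWU) hHU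
    cases nonempty_fintype C
    cases nonempty_fintype H
    have hcard := sum_prod (J := C ⊔ H) (C := C ⊓ H) (M := ℕ) hCnorm rfl rfl fun _ => 1
    simp only [Finset.sum_const, Finset.card_univ, smul_eq_mul, mul_one, Fintype.card_prod,
      ← Nat.card_eq_fintype_card] at hcard
    have hnd : ¬ p ∣ Nat.card ↥(C ⊔ H) := fun hd => by
      have := hd.mul_left (Nat.card ↥(C ⊓ H))
      rw [hcard] at this
      exact (hp.dvd_mul.mp (by simpa using this)).elim h.fixed.nd hHnd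
    have hdvd : Nat.card ↥(C ⊔ H) ∣ Nat.card H := by
      have h1 : Nat.card ↥(C ⊔ H) ∣ Nat.card (S : Subgroup X) * Nat.card H := by
        refine (Subgroup.card_dvd_of_le hle).trans (dvd_of_eq ?_)
        rw [hHcard, ← Subgroup.relIndex_bot_left, ← Subgroup.relIndex_bot_left,
          Subgroup.relIndex_mul_relIndex _ _ _ bot_le hSU]
      refine Nat.Coprime.dvd_of_dvd_mul_left ?_ h1
      rw [hk]
      exact (((hp.coprime_iff_not_dvd).mpr hnd).symm).pow_right k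
    have heq := Subgroup.eq_of_le_of_card_ge (H := H) (le_sup_right (a := C))
      (Nat.le_of_dvd Nat.card_pos hdvd)
    exact le_sup_left.trans heq.ge
  have hSfix : ∀ g ∈ H, g ∈ S → g = (1 : X) := fun g hg hgS => by
    have hd : (Nat.card (S : Subgroup X)).Coprime (Nat.card H) := by
      rw [hk]
      exact ((hp.coprime_iff_not_dvd).mpr hHnd).pow_left k
    have := (Subgroup.disjoint_of_coprime_natCard hd).eq_bot.le
      (show g ∈ (S : Subgroup X) ⊓ H from ⟨hgS, hg⟩)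
    exact Subgroup.mem_bot.mp this
  have hWH : W ⊓ H ≤ C := by
    rintro g ⟨hg, hgH⟩
    have hgs : g ∈ ((C ⊔ (S : Subgroup X) : Subgroup X) : Set X) := hW.le hg
    rw [Subgroup.coe_mul_of_right_le_normalizer_left C (S : Subgroup X)
      (Subgroup.le_normalizer_iff.2 h.fixed.norm)] at hgs
    obtain ⟨c, hc, s, hs, e⟩ := hgs
    replace hc : c ∈ C := hc
    replace e : c * s = g := e
    have hs1 : s = 1 := hSfix s (by
      rw [show s = c⁻¹ * g by rw [← e, inv_mul_cancel_left]]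
      exact mul_mem (inv_mem (hCH hc)) hgH) hs
    rw [← e, hs1, mul_one]
    exact hc
  let J : Subgroup X := K ⊔ H
  have hKJ : K ≤ J := le_sup_left
  have hJT : J ≤ T := sup_le (hKV.trans hVT) (hHU.trans inf_le_left)
  have hVJ : V ⊓ J ≤ K := by
    rintro g ⟨hg, hgJ⟩
    obtain ⟨a, ha, b, hb, e⟩ := Subgroup.mem_sup_of_normal_left.mp hgJ
    have hbV : b ∈ V := by
      rw [show b = a⁻¹ * g by rw [← e, inv_mul_cancel_left]]
      exact mul_mem (inv_mem (hKV ha)) hg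
    rw [← e]
    exact mul_mem ha (h.le (hWH ⟨hVN ⟨hbV, hUN (hHU hb)⟩, hb⟩))
  have hgenT : T ≤ J ⊔ V := by
    intro t ht
    obtain ⟨a, ha, n, hn, e⟩ := Subgroup.mem_sup_of_normal_left.mp
      (hgen ▸ Subgroup.mem_top t : t ∈ K ⊔ N)
    have hnU : n ∈ U := Subgroup.mem_inf.mpr ⟨by
      rw [show n = a⁻¹ * t by rw [← e, inv_mul_cancel_left]]
      exact mul_mem (inv_mem (hVT (hKV ha))) ht, hn⟩
    rw [← e]
    exact mul_mem (Subgroup.mem_sup_right (hKV ha))
      ((sup_le (hSV.trans le_sup_right) ((le_sup_right : H ≤ J).trans le_sup_left)) (hUeq hnU))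
  obtain ⟨θ, φ, μ, hθS, hθ, hφ, hc, -⟩ := hP
  have hTfix : T ≤ fixer V (ψ : V → ℂ) := fun g hg =>
    ⟨Subgroup.normalizer_eq_top (H := V) ▸ Subgroup.mem_top g, fix_iff.mpr hg⟩
  have hUfix : U ≤ fixer W (ψ' : W → ℂ) := fun g hg => (hiff g hg.2).mp hg.1
  rw [num_down_in hVT hJT hKV hKJ hgenT hVJ ψ hTfix θ fun d => hθ d ⟨d, hKV d.2⟩ rfl,
    num_down_in hWU hHU hCW hCH
      (hUeq.trans (sup_le (hSW.trans le_sup_right) le_sup_left)) hWH ψ' hUfix φ
      fun d => hφ d ⟨d, hCW d.2⟩ rfl]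
  have hHθ : H ≤ fixer K (θ : K → ℂ) := fun g hg => ⟨hKn (hUN (hHU hg)), fun a b e => by
    have hgV := hTfix ((inf_le_left : U ≤ T) (hHU hg))
    rw [← hθ a ⟨a, hKV a.2⟩ rfl, ← hθ b ⟨b, hKV b.2⟩ rfl]
    exact hgV.2 _ _ e⟩
  exact num_eq_num h (hHU.trans hUS) hθS hHθ hc
    (le_antisymm (le_inf h.le hCH) fun g hg => hWH ⟨hVN ⟨hKV hg.1, hUN (hHU hg.2)⟩, hg.2⟩) hCH
    hHnd rfl hKJ

/-- **The count for a normal `K S`.** -/
theorem count_core [Fact p.Prime] (S : Sylow p X) (K Z : Subgroup X) [K.Normal]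
    (hK : ¬ p ∣ Nat.card K) (hV : (K ⊔ (S : Subgroup X)).Normal) (hZ : Z ≤ Subgroup.center X)
    (hZV : Z ≤ K ⊔ S) (lam : Z →* ℂˣ) (hZN : Z ≤ Subgroup.normalizer ((S : Subgroup X) : Set X)) :
    count p Z.subtype (fun z => (lam z : ℂ)) =
      count p (Subgroup.inclusion hZN) (fun z => (lam z : ℂ)) := by
  classical
  cases nonempty_fintype X
  have hp : p.Prime := Fact.out
  let V : Subgroup X := K ⊔ S
  let N : Subgroup X := Subgroup.normalizer ((S : Subgroup X) : Set X)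
  let C : Subgroup X := K ⊓ N
  have hVnormal : V.Normal := hV
  have hKn : ∀ g : X, g ∈ Subgroup.normalizer (K : Set X) := fun g =>
    Subgroup.normalizer_eq_top (H := K) ▸ Subgroup.mem_top g
  obtain ⟨k, hk⟩ := S.isPGroup'.exists_card_eq
  have h : GConf p K (S : Subgroup X) C :=
    { prime := hp
      norm := fun s _ a ha => (Subgroup.mem_normalizer_iff.mp (hKn s) a).mp ha
      pgroup := S.isPGroup'
      nd := hK
      fix := fun g => by
        refine ⟨fun hg => ⟨hg.1, fun s hs => ?_⟩, fun hg => ⟨hg.1, ?_⟩⟩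
        · have h1 : g * s * g⁻¹ * s⁻¹ ∈ K ⊓ (S : Subgroup X) :=
            Subgroup.mem_inf.mpr ⟨by
              rw [show g * s * g⁻¹ * s⁻¹ = g * (s * g⁻¹ * s⁻¹) by group]
              exact mul_mem hg.1 ((Subgroup.mem_normalizer_iff.mp (hKn s) _).mp (inv_mem hg.1)),
              mul_mem ((Subgroup.mem_normalizer_iff.mp hg.2 s).mp hs) (inv_mem hs)⟩
          rw [(Subgroup.disjoint_of_coprime_natCard (show (Nat.card K).Coprime
              (Nat.card (S : Subgroup X)) by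
            rw [hk]; exact ((hp.coprime_iff_not_dvd).mpr hK).symm.pow_right k)).eq_bot,
            Subgroup.mem_bot, mul_inv_eq_one, mul_inv_eq_iff_eq_mul] at h1
          exact h1.symm
        · exact mem_normalizer_of_conj fun s hs => by
            rw [← hg.2 s hs, mul_inv_cancel_right]
            exact hs }
  let W : Subgroup X := C ⊔ S
  have hWN : W ≤ N := sup_le inf_le_right Subgroup.le_normalizer
  have hgen : K ⊔ N = ⊤ := by
    refine top_le_iff.mp ?_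
    rw [← Sylow.normalizer_sup_eq_top' (N := V) S le_sup_right]
    exact sup_le le_sup_right (sup_le le_sup_left (Subgroup.le_normalizer.trans le_sup_right))
  have hVN : V ⊓ N ≤ W := by
    rintro v ⟨hv, hvN⟩
    obtain ⟨a, ha, s, hs, e⟩ := Subgroup.mem_sup_of_normal_left.mp hv
    replace hvN : v ∈ N := hvN
    replace hs : s ∈ (S : Subgroup X) := hs
    rw [← e]
    refine Subgroup.mul_mem_sup (Subgroup.mem_inf.mpr ⟨ha, ?_⟩ : a ∈ C) hs
    rw [show a = v * s⁻¹ by rw [← e, mul_inv_cancel_right]]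
    exact mul_mem hvN (inv_mem (Subgroup.le_normalizer hs))
  have hZW : Z ≤ W := fun z hz => hVN ⟨hZV hz, hZN hz⟩
  have hVn : N ≤ Subgroup.normalizer (V : Set X) := Subgroup.normalizer_eq_top (H := V) ▸ le_top
  have hWV : W ≤ V := sup_le_sup_right inf_le_left _
  have hWn : N ≤ Subgroup.normalizer (W : Set X) := fun g hg => mem_normalizer_of_conj fun w hw =>
    hVN (Subgroup.mem_inf.mpr ⟨(Subgroup.mem_normalizer_iff.mp (hVn hg) w).mp (hWV hw),
      mul_mem (mul_mem hg (hWN hw)) (inv_mem hg)⟩)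
  let lam' : Cfsg.IrrCharacter Z := ⟨fun z => (lam z : ℂ), Char.isIrrCharacter_hom lam⟩
  let A := {ψ : Cfsg.IrrCharacter V // ¬ p ∣ Cfsg.charDegree (ψ : V → ℂ) ∧
    Over (Subgroup.inclusion hZV) (ψ : V → ℂ) (fun z => (lam z : ℂ))}
  let B := {ψ : Cfsg.IrrCharacter W // ¬ p ∣ Cfsg.charDegree (ψ : W → ℂ) ∧
    Over (Subgroup.inclusion hZW) (ψ : W → ℂ) (fun z => (lam z : ℂ))}
  -- the actions
  have hA : ∀ (n : N) (ψ : Cfsg.IrrCharacter V), (¬ p ∣ Cfsg.charDegree (ψ : V → ℂ) ∧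
      Over (Subgroup.inclusion hZV) (ψ : V → ℂ) (fun z => (lam z : ℂ))) ↔
      (¬ p ∣ Cfsg.charDegree (nAct hVn n ψ : V → ℂ) ∧
      Over (Subgroup.inclusion hZV) (nAct hVn n ψ : V → ℂ) (fun z => (lam z : ℂ))) := fun n ψ => by
    rw [nAct_eq, deg_conjIrrOn, over_conjIrrOn hZ hZV]
  have hB : ∀ (n : N) (ψ : Cfsg.IrrCharacter W), (¬ p ∣ Cfsg.charDegree (ψ : W → ℂ) ∧
      Over (Subgroup.inclusion hZW) (ψ : W → ℂ) (fun z => (lam z : ℂ))) ↔
      (¬ p ∣ Cfsg.charDegree (nAct hWn n ψ : W → ℂ) ∧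
      Over (Subgroup.inclusion hZW) (nAct hWn n ψ : W → ℂ) (fun z => (lam z : ℂ))) := fun n ψ => by
    rw [nAct_eq, deg_conjIrrOn, over_conjIrrOn hZ hZW]
  let actA : N →* Equiv.Perm A :=
    { toFun := fun n => (nAct hVn n).subtypeEquiv (hA n)
      map_one' := Equiv.ext fun a => Subtype.ext (by
        show nAct hVn 1 a.1 = a.1
        rw [map_one]; rfl)
      map_mul' := fun m n => Equiv.ext fun a => Subtype.ext (by
        show nAct hVn (m * n) a.1 = nAct hVn m (nAct hVn n a.1)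
        rw [map_mul]; rfl) }
  let actB : N →* Equiv.Perm B :=
    { toFun := fun n => (nAct hWn n).subtypeEquiv (hB n)
      map_one' := Equiv.ext fun a => Subtype.ext (by
        show nAct hWn 1 a.1 = a.1
        rw [map_one]; rfl)
      map_mul' := fun m n => Equiv.ext fun a => Subtype.ext (by
        show nAct hWn (m * n) a.1 = nAct hWn m (nAct hWn n a.1)
        rw [map_mul]; rfl) }
  -- the bijection
  have hex : ∀ a : A, ∃ b : B, Pair p h.le (S : Subgroup X) a.1 b.1 := fun a => by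
    obtain ⟨b, hb⟩ := pair_exists_right h rfl (W := W) rfl a.1 a.2.1
    exact ⟨⟨b, (pair_degrees h hb).2,
      (pair_central h rfl hZ hZV hZW hb lam).mp a.2.2⟩, hb⟩
  choose Φ hΦ using hex
  have hΦb : Function.Bijective Φ := by
    refine ⟨fun a a' e => Subtype.ext (pair_left_unique h rfl rfl (hΦ a) (e ▸ hΦ a')), fun b => ?_⟩
    obtain ⟨a, ha⟩ := pair_exists_left h (V := V) rfl rfl b.1 b.2.1
    let a' : A := ⟨a, (pair_degrees h ha).1, (pair_central h rfl hZ hZV hZW ha lam).mpr b.2.2⟩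
    exact ⟨a', Subtype.ext (pair_right_unique h rfl rfl (hΦ a') ha)⟩
  have hequiv : ∀ (n : N) (a : A), Φ (actA n a) = actB n (Φ a) := by
    intro n a
    refine Subtype.ext (pair_right_unique h rfl rfl (hΦ (actA n a)) ?_)
    show Pair p h.le (S : Subgroup X) (nAct hVn n a.1) (nAct hWn n (Φ a).1)
    rw [nAct_eq, nAct_eq]
    exact pair_conj h (hΦ a) (hKn _) (inv_mem n.2) _ _
  have hstab : ∀ a : A, Nat.card {n : N // actA n a = a} = Nat.card {n : N // actB n (Φ a) = Φ a} :=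
    fun a => Nat.card_congr (Equiv.subtypeEquivRight fun n => by
      rw [← hequiv]; exact hΦb.1.eq_iff.symm)
  -- the partitions
  have hWsub : (W.subgroupOf N).Normal := Subgroup.normal_subgroupOf_of_le_normalizer hWn
  let CX := {χ : Cfsg.IrrCharacter X // ¬ p ∣ Cfsg.charDegree (χ : X → ℂ) ∧
    Over Z.subtype (χ : X → ℂ) (fun z => (lam z : ℂ))}
  let CN := {χ : Cfsg.IrrCharacter N // ¬ p ∣ Cfsg.charDegree (χ : N → ℂ) ∧
    Over (Subgroup.inclusion hZN) (χ : N → ℂ) (fun z => (lam z : ℂ))}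
  have hpX := partition actA (fun (c : CX) (a : A) => Over V.subtype (c.1 : X → ℂ) (a.1 : V → ℂ))
    (fun n c a hca => by
      show Over V.subtype (c.1 : X → ℂ) (nAct hVn n a.1 : V → ℂ)
      rw [nAct_eq]
      have hg := inv_mem (hVn n.2)
      have h1 := (over_congr (j := V.subtype) (j' := V.subtype) (MulAut.conj (n : X)⁻¹)
        (conjOn V (n : X)⁻¹ hg) (fun _ => rfl)
        (ν := (conjIrrOn V (n : X)⁻¹ hg a.1 : V → ℂ)) (fun _ => rfl) (c.1 : X → ℂ)).mpr hca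
      rwa [show (c.1 : X → ℂ) ∘ MulAut.conj (n : X)⁻¹ = (c.1 : X → ℂ) from funext fun x =>
        Char.IsIrrCharacter.isClassFunction c.1.2 x _] at h1)
    (fun c => by
      obtain ⟨ψ, h1, h2⟩ := exists_middle (jK := V.subtype) (i := Subgroup.inclusion hZV)
        (j := Z.subtype) (fun _ => rfl) (Char.isCharacter_irr c.1) c.2.2
      exact ⟨⟨ψ, not_dvd_over h1 c.2.1, h2⟩, h1⟩)
    (fun c a b ha hb => by
      obtain ⟨g, hg⟩ := Clifford.exists_conj_of_constituent V c.1.2 a.1.2 b.1.2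
        ((over_iff (j := V.subtype) (χ := (c.1 : X → ℂ))).mp ha)
        ((over_iff (j := V.subtype) (χ := (c.1 : X → ℂ))).mp hb)
      obtain ⟨v, hv, n, hn, e⟩ := Subgroup.mem_sup_of_normal_left.mp
        (show g ∈ V ⊔ N from sup_le (le_sup_left.trans le_sup_left : K ≤ V ⊔ N) le_sup_right
          (hgen ▸ Subgroup.mem_top g : g ∈ K ⊔ N))
      refine ⟨⟨n, hn⟩⁻¹, Subtype.ext (Subtype.ext ?_)⟩
      show (nAct hVn (⟨n, hn⟩ : N)⁻¹ a.1 : V → ℂ) = (b.1 : V → ℂ)
      rw [hg, nAct_eq]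
      funext x
      rw [Clifford.conjFun_apply]
      show (a.1 : V → ℂ) _ = _
      refine (Char.IsIrrCharacter.isClassFunction a.1.2 _ ⟨v, hv⟩).symm.trans
        (congrArg _ (Subtype.ext ?_))
      show v * ((n⁻¹)⁻¹ * (x : X) * ((n⁻¹)⁻¹)⁻¹) * v⁻¹ = g * x * g⁻¹
      rw [← e]
      group)
  have hpN := partition actB
    (fun (c : CN) (b : B) => Over (Subgroup.inclusion hWN) (c.1 : N → ℂ) (b.1 : W → ℂ))
    (fun n c a hca => by
      show Over (Subgroup.inclusion hWN) (c.1 : N → ℂ) (nAct hWn n a.1 : W → ℂ)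
      rw [nAct_eq]
      have hg := inv_mem (hWn n.2)
      have h1 := (over_congr (j := Subgroup.inclusion hWN) (j' := Subgroup.inclusion hWN)
        (MulAut.conj (n⁻¹ : N)) (conjOn W (n : X)⁻¹ hg) (fun _ => Subtype.ext rfl)
        (ν := (conjIrrOn W (n : X)⁻¹ hg a.1 : W → ℂ)) (fun _ => rfl) (c.1 : N → ℂ)).mpr hca
      rwa [show (c.1 : N → ℂ) ∘ MulAut.conj (n⁻¹ : N) = (c.1 : N → ℂ) from funext fun x =>
        Char.IsIrrCharacter.isClassFunction c.1.2 x _] at h1)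
    (fun c => by
      obtain ⟨ψ, h1, h2⟩ := exists_middle (jK := Subgroup.inclusion hWN)
        (i := Subgroup.inclusion hZW) (j := Subgroup.inclusion hZN) (fun _ => rfl)
        (Char.isCharacter_irr c.1) c.2.2
      refine ⟨⟨ψ, ?_, h2⟩, h1⟩
      have := not_dvd_over ((over_subIrr hWN ψ (c.1 : N → ℂ)).mpr h1) c.2.1
      rwa [deg_subIrr] at this)
    (fun c a b ha hb => by
      obtain ⟨g, hg⟩ := Clifford.exists_conj_of_constituent (W.subgroupOf N) c.1.2
        (subIrr hWN a.1).2 (subIrr hWN b.1).2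
        ((over_iff (j := (W.subgroupOf N).subtype) (χ := (c.1 : N → ℂ))).mp
          ((over_subIrr hWN a.1 (c.1 : N → ℂ)).mpr ha))
        ((over_iff (j := (W.subgroupOf N).subtype) (χ := (c.1 : N → ℂ))).mp
          ((over_subIrr hWN b.1 (c.1 : N → ℂ)).mpr hb))
      refine ⟨g⁻¹, Subtype.ext (Subtype.ext ?_)⟩
      show (nAct hWn g⁻¹ a.1 : W → ℂ) = (b.1 : W → ℂ)
      rw [nAct_eq]
      funext x
      have h1 := congrFun hg ⟨⟨(x : X), hWN x.2⟩, Subgroup.mem_subgroupOf.mpr x.2⟩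
      rw [Clifford.conjFun_apply] at h1
      refine Eq.trans ?_ h1.symm
      show (a.1 : W → ℂ) _ = (a.1 : W → ℂ) _
      refine congrArg _ (Subtype.ext ?_)
      show ((g : X)⁻¹)⁻¹ * (x : X) * (((g : X)⁻¹)⁻¹)⁻¹ = (g : X) * x * (g : X)⁻¹
      rw [inv_inv])
  have hcountA : ∀ a : A, Nat.card {c : CX // Over V.subtype (c.1 : X → ℂ) (a.1 : V → ℂ)} =
      count p V.subtype (a.1 : V → ℂ) := fun a => Nat.card_congr
    { toFun := fun c => ⟨c.1.1, c.1.2.1, c.2⟩
      invFun := fun c => ⟨⟨c.1, c.2.1, over_trans (jK := V.subtype) (fun _ => rfl)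
        (Char.isCharacter_irr c.1) a.1.2 (Char.isCharacter_irr lam') c.2.2 a.2.2⟩, c.2.2⟩
      left_inv := fun _ => rfl
      right_inv := fun _ => rfl }
  have hcountB : ∀ b : B,
      Nat.card {c : CN // Over (Subgroup.inclusion hWN) (c.1 : N → ℂ) (b.1 : W → ℂ)} =
      count p (Subgroup.inclusion hWN) (b.1 : W → ℂ) := fun b => Nat.card_congr
    { toFun := fun c => ⟨c.1.1, c.1.2.1, c.2⟩
      invFun := fun c => ⟨⟨c.1, c.2.1, over_trans (jK := Subgroup.inclusion hWN) (fun _ => rfl)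
        (Char.isCharacter_irr c.1) b.1.2 (Char.isCharacter_irr lam') c.2.2 b.2.2⟩, c.2.2⟩
      left_inv := fun _ => rfl
      right_inv := fun _ => rfl }
  rw [← Equiv.sum_comp (Equiv.ofBijective Φ hΦb)] at hpN
  refine Nat.eq_of_mul_eq_mul_left (Nat.card_pos (α := N)) (hpX.symm.trans (Eq.trans ?_ hpN))
  refine Finset.sum_congr rfl fun a _ => ?_
  rw [Equiv.ofBijective_apply, hcountA, hcountB, hstab a,
    count_pair S h rfl rfl rfl hWN hgen hVN (hΦ a)]

end CfsgLib.CharDeep.RelMcKay
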