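import Cfsg.Agent.Lib.Coprime.Action
import Mathlib.RingTheory.IntegralDomain
import Mathlib.GroupTheory.Subgroup.Centralizer
import Mathlib.Algebra.Ring.Subring.Basic

/-!
# Two commuting operators on an irreducible layer
-/

set_option autoImplicit false

open scoped commutatorElement

namespace CfsgLib.CharDeep.RelMcKay

/-- A commutative group of automorphisms with no proper invariant subgroup is cyclic. -/
theorem isCyclic_of_irreducible {V : Type*} [AddCommGroup V] [Finite V] [Nontrivial V]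
    (A : Subgroup (AddMonoid.End V)ˣ) [IsMulCommutative A]
    (hirr : ∀ W : AddSubgroup V,
      (∀ u ∈ A, ∀ w ∈ W, (u : AddMonoid.End V) w ∈ W) → W = ⊥ ∨ W = ⊤) : IsCyclic A := by
  classical
  let T : Set (AddMonoid.End V) := Units.val '' (A : Set (AddMonoid.End V)ˣ)
  let R : Subring (AddMonoid.End V) := Subring.closure T
  have hcomm1 : R ≤ Subring.centralizer T := Subring.closure_le.2 (by
    rintro _ ⟨u, hu, rfl⟩
    refine Subring.mem_centralizer_iff.2 ?_
    rintro _ ⟨v, hv, rfl⟩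
    have := congrArg (fun w : A => ((w : (AddMonoid.End V)ˣ) : AddMonoid.End V))
      (mul_comm' (⟨v, hv⟩ : A) ⟨u, hu⟩)
    simpa using this)
  have hcomm : R ≤ Subring.centralizer (R : Set (AddMonoid.End V)) := Subring.closure_le.2 (by
    intro y hy
    exact Subring.mem_centralizer_iff.2 fun r hr =>
      (Subring.mem_centralizer_iff.1 (hcomm1 hr) y hy).symm)
  let _ : CommRing R :=
    { (inferInstance : Ring R) with
      mul_comm := fun a b => Subtype.ext (Subring.mem_centralizer_iff.1 (hcomm b.2) a.1 a.2) }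
  have hinj : ∀ r : R, r ≠ 0 → Function.Injective (r : AddMonoid.End V) := by
    intro r hr
    let f : V →+ V := (r : AddMonoid.End V)
    have hS : ∀ u ∈ A, ∀ w ∈ f.ker, (u : AddMonoid.End V) w ∈ f.ker := by
      intro u hu w hw
      have h1 := DFunLike.congr_fun (Subring.mem_centralizer_iff.1 (hcomm1 r.2) _ ⟨u, hu, rfl⟩) w
      exact AddMonoidHom.mem_ker.2 (h1.symm.trans
        ((congrArg (u : AddMonoid.End V) (AddMonoidHom.mem_ker.1 hw)).trans (map_zero _)))
    rcases hirr _ hS with h | h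
    · exact (AddMonoidHom.ker_eq_bot_iff _).1 h
    · refine absurd (Subtype.ext ?_) hr
      ext m
      exact AddMonoidHom.mem_ker.1 (h ▸ AddSubgroup.mem_top m)
  have : Nontrivial R := by
    obtain ⟨m, hm⟩ := exists_ne (0 : V)
    exact ⟨⟨1, 0, fun h => hm (DFunLike.congr_fun (congrArg Subtype.val h) m)⟩⟩
  have : NoZeroDivisors R := ⟨fun {a b} hab => by
    by_cases ha : a = 0
    · exact Or.inl ha
    refine Or.inr (Subtype.ext ?_)
    ext m
    refine hinj a ha ?_
    have := DFunLike.congr_fun (congrArg Subtype.val hab) m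
    exact this.trans (map_zero _).symm⟩
  have : IsDomain R := NoZeroDivisors.to_isDomain R
  have : Finite (AddMonoid.End V) :=
    Finite.of_injective (fun f => (f : V → V)) DFunLike.coe_injective
  let f : A →* R :=
    { toFun := fun u => ⟨((u : (AddMonoid.End V)ˣ) : AddMonoid.End V),
        Subring.subset_closure ⟨u, u.2, rfl⟩⟩
      map_one' := rfl
      map_mul' := fun _ _ => rfl }
  exact isCyclic_of_injective_ringHom f fun u v h =>
    Subtype.ext (Units.ext (congrArg (fun r : R => (r : AddMonoid.End V)) h))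

/-- Euclid's algorithm on a pair of generators. -/
theorem euclid {A B : Type*} [Group A] [Group B] (f : A →* B) (g : B) (Q : A → A → Prop)
    (hswap : ∀ x y, Q x y → Q y x) (hmove : ∀ x y, Q x y → Q x (y * x⁻¹)) :
    ∀ n i j : ℕ, ∀ x y : A, i + j = n → f x = g ^ i → f y = g ^ j → Q x y →
      ∃ x' y', Q x' y' ∧ f x' = 1 := by
  intro n
  induction n using Nat.strong_induction_on with
  | _ n ih =>
  intro i j x y hn hx hy hQ
  wlog hij : i ≤ j generalizing i j x y
  · exact this j i y x (by omega) hy hx (hswap x y hQ) (by omega)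
  rcases Nat.eq_zero_or_pos i with h0 | h0
  · exact ⟨x, y, hQ, by rw [hx, h0, pow_zero]⟩
  refine ih j (by omega) i (j - i) x (y * x⁻¹) (by omega) hx ?_ (hmove x y hQ)
  rw [map_mul, map_inv, hx, hy, ← pow_sub g hij]

variable {Γ : Type*} [Group Γ] [Finite Γ]

/-- In a non-trivial `p`-group normalised by two elements commuting on it there is a proper
invariant layer on which a change of generators makes the first act trivially. -/
theorem exists_layer {p : ℕ} [Fact p.Prime] {S : Subgroup Γ} (hS : IsPGroup p S) (hS1 : S ≠ ⊥)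
    {a b : Γ} (ha : a ∈ Subgroup.normalizer (S : Set Γ)) (hb : b ∈ Subgroup.normalizer (S : Set Γ))
    (hab : ∀ s ∈ S, ⁅b * a * b⁻¹ * a⁻¹, s⁆ = 1) (Q : Γ → Γ → Prop)
    (hQ : Q a b) (hswap : ∀ x y, Q x y → Q y x) (hmove : ∀ x y, Q x y → Q x (y * x⁻¹)) :
    ∃ (S₀ : Subgroup Γ) (x y : Γ), S₀ < S ∧ a ∈ Subgroup.normalizer (S₀ : Set Γ) ∧
      b ∈ Subgroup.normalizer (S₀ : Set Γ) ∧ S ≤ Subgroup.normalizer (S₀ : Set Γ) ∧ Q x y ∧
      ∀ s ∈ S, ⁅x, s⁆ ∈ S₀ := by
  classical
  let W : Set (Subgroup Γ) := {T | T < S ∧ ⁅S, S⁆ ≤ T ∧ a ∈ Subgroup.normalizer (T : Set Γ) ∧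
    b ∈ Subgroup.normalizer (T : Set Γ)}
  have hW : ⁅S, S⁆ ∈ W := by
    have key : ∀ g ∈ Subgroup.normalizer (S : Set Γ),
        g ∈ Subgroup.normalizer ((⁅S, S⁆ : Subgroup Γ) : Set Γ) := by
      intro g hg
      have h1 : (⁅S, S⁆ : Subgroup Γ).map (MulAut.conj g).toMonoidHom = ⁅S, S⁆ := by
        have h2 : S.map (MulAut.conj g).toMonoidHom = S := by
          ext z
          refine ⟨?_, fun hz => ⟨g⁻¹ * z * g, ?_, by simp [mul_assoc]⟩⟩
          · rintro ⟨w, hw, rfl⟩
            exact (Subgroup.mem_normalizer_iff.mp hg w).mp hw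
          · exact (Subgroup.mem_normalizer_iff.mp hg _).mpr (by simpa [mul_assoc] using hz)
        rw [Subgroup.map_commutator, h2]
      refine Subgroup.mem_normalizer_iff.mpr fun z => ⟨fun hz => h1.le ⟨z, hz, rfl⟩, fun hz => ?_⟩
      obtain ⟨w, hw, e⟩ := h1.ge hz
      rwa [← (MulAut.conj g).injective e]
    exact ⟨Coprime.commutator_lt_of_isPGroup hS hS Subgroup.le_normalizer hS1, le_rfl, key a ha,
      key b hb⟩
  obtain ⟨S₀, ⟨hlt, hder, ha0, hb0⟩, hmax⟩ := (Set.toFinite W).exists_maximal ⟨_, hW⟩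
  have hSn : S ≤ Subgroup.normalizer (S₀ : Set Γ) := Subgroup.le_normalizer_iff.2 fun s hs t ht => by
    rw [show s * t * s⁻¹ = ⁅s, t⁆ * t by rw [commutatorElement_def]; group]
    exact mul_mem (hder (Subgroup.commutator_mem_commutator hs (hlt.le ht))) ht
  have : (S₀.subgroupOf S).Normal := Subgroup.normal_subgroupOf_of_le_normalizer hSn
  set N := S₀.subgroupOf S
  let _ : CommGroup (S ⧸ N) :=
    { (inferInstance : Group (S ⧸ N)) with
      mul_comm := by
        rintro ⟨s⟩ ⟨t⟩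
        refine QuotientGroup.eq.mpr (Subgroup.mem_subgroupOf.mpr ?_)
        show ((s * t : S) : Γ)⁻¹ * ((t * s : S) : Γ) ∈ S₀
        have h := hder (Subgroup.commutator_mem_commutator (inv_mem t.2) (inv_mem s.2))
        simpa [commutatorElement_def, mul_assoc] using h }
  let M : Subgroup Γ := Subgroup.normalizer (S : Set Γ) ⊓ Subgroup.normalizer (S₀ : Set Γ)
  let φ : M →* MulAut S := Subgroup.normalizerMonoidHom S |>.comp (Subgroup.inclusion inf_le_left)
  have hφ : ∀ (u : M) (s : S), (φ u s : Γ) = u * s * (u : Γ)⁻¹ := fun _ _ => rfl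
  have hmap : ∀ u : M, N ≤ N.comap (φ u).toMonoidHom := fun u s hs => by
    rw [Subgroup.mem_comap, Subgroup.mem_subgroupOf]
    show (φ u s : Γ) ∈ S₀
    rw [hφ]
    exact (Subgroup.mem_normalizer_iff.mp u.2.2 _).mp (Subgroup.mem_subgroupOf.mp hs)
  let Φ : M →* AddMonoid.End (Additive (S ⧸ N)) :=
    { toFun := fun u => MonoidHom.toAdditive (QuotientGroup.map N N (φ u).toMonoidHom (hmap u))
      map_one' := by
        refine AddMonoidHom.ext fun q => ?_
        obtain ⟨s, rfl⟩ := QuotientGroup.mk_surjective q.toMul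
        show Additive.ofMul (QuotientGroup.mk (φ 1 _)) = _
        rw [map_one]
        rfl
      map_mul' := fun u v => by
        refine AddMonoidHom.ext fun q => ?_
        obtain ⟨s, hs⟩ := QuotientGroup.mk_surjective q.toMul
        rw [show q = Additive.ofMul (QuotientGroup.mk s) from congrArg Additive.ofMul hs.symm]
        show Additive.ofMul (QuotientGroup.mk (φ (u * v) s)) =
          Additive.ofMul (QuotientGroup.mk (φ u (φ v s)))
        rw [map_mul]
        rfl }
  let a' : M := ⟨a, ha, ha0⟩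
  let b' : M := ⟨b, hb, hb0⟩
  have hker : ∀ u : M, (∀ s ∈ S, ⁅(u : Γ), s⁆ ∈ S₀) → Φ u = 1 := fun u hu => by
    refine AddMonoidHom.ext fun q => ?_
    obtain ⟨s, hs⟩ := QuotientGroup.mk_surjective q.toMul
    rw [show q = Additive.ofMul (QuotientGroup.mk s) from congrArg Additive.ofMul hs.symm]
    show Additive.ofMul (QuotientGroup.mk (φ u s)) = Additive.ofMul (QuotientGroup.mk s)
    refine congrArg Additive.ofMul (Eq.symm (QuotientGroup.eq.mpr (Subgroup.mem_subgroupOf.mpr ?_)))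
    show (s : Γ)⁻¹ * (u * s * (u : Γ)⁻¹) ∈ S₀
    have h := (Subgroup.mem_normalizer_iff.mp (hSn (inv_mem s.2)) _).mp (hu s s.2)
    simpa [commutatorElement_def, mul_assoc] using h
  let Ψ : M →* (AddMonoid.End (Additive (S ⧸ N)))ˣ := Φ.toHomUnits
  let A := Subgroup.closure ({Ψ a', Ψ b'} : Set (AddMonoid.End (Additive (S ⧸ N)))ˣ)
  have hcomm : Ψ b' * Ψ a' = Ψ a' * Ψ b' := by
    have h := hker (b' * a' * b'⁻¹ * a'⁻¹) fun s hs => by
      show ⁅b * a * b⁻¹ * a⁻¹, s⁆ ∈ S₀
      rw [hab s hs]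
      exact one_mem _
    have h' : Ψ (b' * a' * b'⁻¹ * a'⁻¹) = 1 := Units.ext h
    simp only [map_mul, map_inv] at h'
    exact mul_inv_eq_iff_eq_mul.mp (mul_inv_eq_one.mp h')
  have : IsMulCommutative A := Subgroup.isMulCommutative_closure (by
    rintro x (rfl | rfl) y (rfl | rfl)
    exacts [rfl, hcomm.symm, hcomm, rfl])
  have : Nontrivial (Additive (S ⧸ N)) := by
    obtain ⟨s, hs, hs0⟩ := SetLike.exists_of_lt hlt
    refine ⟨⟨Additive.ofMul (QuotientGroup.mk ⟨s, hs⟩), 0, fun h => hs0 ?_⟩⟩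
    exact Subgroup.mem_subgroupOf.mp ((QuotientGroup.eq_one_iff (⟨s, hs⟩ : S)).mp h)
  have hAcyc : IsCyclic A := by
    refine isCyclic_of_irreducible A fun W hW => ?_
    let T₁ : Subgroup S := (AddSubgroup.toSubgroup' W).comap (QuotientGroup.mk' N)
    let T : Subgroup Γ := T₁.map S.subtype
    have hN1 : N ≤ T₁ := fun x hx => by
      show Additive.ofMul (QuotientGroup.mk' N x) ∈ W
      rw [show QuotientGroup.mk' N x = 1 from (QuotientGroup.eq_one_iff x).2 hx]
      exact zero_mem W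
    have hS₀T : S₀ ≤ T := fun x hx => ⟨⟨x, hlt.le hx⟩, hN1 (Subgroup.mem_subgroupOf.mpr hx), rfl⟩
    by_cases hTS : T = S
    · refine Or.inr (eq_top_iff.mpr fun q _ => ?_)
      obtain ⟨s, hs⟩ := QuotientGroup.mk_surjective q.toMul
      obtain ⟨t, ht, e⟩ := hTS.ge s.2
      rw [Subtype.ext (e : (t : Γ) = s)] at ht
      rw [show q = Additive.ofMul (QuotientGroup.mk s) from congrArg Additive.ofMul hs.symm]
      exact ht
    · refine Or.inl (eq_bot_iff.mpr fun q hq => ?_)
      have hTlt : T < S := lt_of_le_of_ne (Subgroup.map_subtype_le T₁) hTS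
      have hnorm : ∀ g : M, Ψ g ∈ A → ∀ x ∈ T, (g : Γ) * x * (g : Γ)⁻¹ ∈ T := by
        rintro g hg _ ⟨t, ht, rfl⟩
        exact ⟨φ g t, hW _ hg _ ht, rfl⟩
      have hmem : ∀ g : Γ, ∀ hg : g ∈ M, Ψ ⟨g, hg⟩ ∈ A → g ∈ Subgroup.normalizer (T : Set Γ) := by
        intro g hg hA
        refine Subgroup.mem_normalizer_iff.mpr fun x => ⟨hnorm ⟨g, hg⟩ hA x, fun hx => ?_⟩
        have h2 := hnorm ⟨g⁻¹, inv_mem hg⟩ (by
          rw [show (⟨g⁻¹, inv_mem hg⟩ : M) = (⟨g, hg⟩ : M)⁻¹ from rfl, map_inv]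
          exact inv_mem hA) _ hx
        simpa [mul_assoc] using h2
      have h1 : T ≤ S₀ := hmax ⟨hTlt, hder.trans hS₀T,
        hmem a ⟨ha, ha0⟩ (Subgroup.subset_closure (Set.mem_insert _ _)),
        hmem b ⟨hb, hb0⟩ (Subgroup.subset_closure (Set.mem_insert_of_mem _ rfl))⟩ hS₀T
      obtain ⟨s, hs⟩ := QuotientGroup.mk_surjective q.toMul
      have hsW : s ∈ T₁ := by
        show Additive.ofMul (QuotientGroup.mk' N s) ∈ W
        rw [show QuotientGroup.mk' N s = q.toMul from hs]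
        exact hq
      have h3 : s ∈ N := Subgroup.mem_subgroupOf.mpr (h1 ⟨s, hsW, rfl⟩)
      rw [AddSubgroup.mem_bot, show q = Additive.ofMul (QuotientGroup.mk s) from
        congrArg Additive.ofMul hs.symm, (QuotientGroup.eq_one_iff s).mpr h3]
      rfl
  have : Finite (AddMonoid.End (Additive (S ⧸ N))) :=
    Finite.of_injective (fun f => (f : Additive (S ⧸ N) → Additive (S ⧸ N))) DFunLike.coe_injective
  obtain ⟨g, hg⟩ := IsCyclic.exists_monoid_generator (α := A)
  obtain ⟨i, hi⟩ := hg ⟨Ψ a', Subgroup.subset_closure (Set.mem_insert _ _)⟩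
  obtain ⟨j, hj⟩ := hg ⟨Ψ b', Subgroup.subset_closure (Set.mem_insert_of_mem _ rfl)⟩
  obtain ⟨x, y, hxy, hx⟩ := euclid Ψ (g : (AddMonoid.End (Additive (S ⧸ N)))ˣ)
    (fun x y : M => Q x y) (fun x y h => hswap _ _ h) (fun x y h => hmove _ _ h) (i + j) i j a' b'
    rfl (congrArg Subtype.val hi).symm (congrArg Subtype.val hj).symm hQ
  refine ⟨S₀, x, y, hlt, ha0, hb0, hSn, hxy, fun s hs => ?_⟩
  have h1 : Φ x = 1 := congrArg Units.val hx
  have h2 := DFunLike.congr_fun h1 (Additive.ofMul (QuotientGroup.mk (⟨s, hs⟩ : S)))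
  have h3 : QuotientGroup.mk (φ x ⟨s, hs⟩) = (QuotientGroup.mk (⟨s, hs⟩ : S) : S ⧸ N) :=
    congrArg Additive.toMul h2
  have h4 := Subgroup.mem_subgroupOf.mp (QuotientGroup.eq.mp h3.symm)
  have h5 : ⁅(x : Γ), s⁆ ∈ S₀ := by
    have h6 := (Subgroup.mem_normalizer_iff.mp (hSn hs) _).mp h4
    simpa [commutatorElement_def, hφ, mul_assoc] using h6
  exact h5

end CfsgLib.CharDeep.RelMcKay
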