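import Cfsg.Agent.Lib.CharDeep.RelMcKay.Extend
import Cfsg.Agent.Lib.CharDeep.RelMcKay.Irred
import Cfsg.Agent.Lib.CharDeep.Glauberman.Gallagher

/-!
# Extendibility is preserved by the Glauberman correspondence

For a `p`-group `S` acting on a `p'`-group `K` with fixed points `C`, corresponding characters `θ`
and `φ`, and two elements `a`, `b` normalising `K` and `S` and commuting modulo `C`, the character
`θ` extends to `K⟨a, b⟩` iff `φ` extends to `C⟨a, b⟩`.
-/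

set_option autoImplicit false

open scoped ComplexConjugate Pointwise commutatorElement

namespace CfsgLib.CharDeep.RelMcKay

open CfsgLib Glauberman

variable {Γ : Type*} [Group Γ] [Finite Γ] {p : ℕ}

theorem mem_normalizer_of_conj {H : Subgroup Γ} {g : Γ} (h : ∀ x ∈ H, g * x * g⁻¹ ∈ H) :
    g ∈ Subgroup.normalizer (H : Set Γ) := by
  have h1 : H.map (MulAut.conj g).toMonoidHom ≤ H := by
    rintro _ ⟨x, hx, rfl⟩
    exact h x hx
  have h2 := Subgroup.eq_of_le_of_card_ge h1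
    (Subgroup.card_map_of_injective (MulAut.conj g).injective).ge
  refine Subgroup.mem_normalizer_iff.mpr fun x => ⟨h x, fun hx => ?_⟩
  obtain ⟨y, hy, e⟩ := h2.ge hx
  rwa [← (MulAut.conj g).injective e]

theorem mem_normalizer_sup_zpowers {K : Subgroup Γ} {x y : Γ}
    (hy : y ∈ Subgroup.normalizer (K : Set Γ)) (hxy : y * x * y⁻¹ * x⁻¹ ∈ K) :
    y ∈ Subgroup.normalizer ((K ⊔ Subgroup.zpowers x : Subgroup Γ) : Set Γ) := by
  refine mem_normalizer_of_conj fun z hz => ?_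
  have h1 : (K ⊔ Subgroup.zpowers x).map (MulAut.conj y).toMonoidHom ≤ K ⊔ Subgroup.zpowers x := by
    rw [Subgroup.map_sup, MonoidHom.map_zpowers]
    refine sup_le ?_ (Subgroup.zpowers_le.mpr ?_)
    · rintro _ ⟨k, hk, rfl⟩
      exact Subgroup.mem_sup_left ((Subgroup.mem_normalizer_iff.mp hy k).mp hk)
    · show y * x * y⁻¹ ∈ _
      rw [show y * x * y⁻¹ = y * x * y⁻¹ * x⁻¹ * x by group]
      exact mul_mem (Subgroup.mem_sup_left hxy) (Subgroup.mem_sup_right (Subgroup.mem_zpowers x))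
  exact h1 ⟨z, hz, rfl⟩

theorem sup_zpowers_le_normalizer {K : Subgroup Γ} {b : Γ}
    (hb : b ∈ Subgroup.normalizer (K : Set Γ)) :
    K ⊔ Subgroup.zpowers b ≤ Subgroup.normalizer (K : Set Γ) :=
  sup_le Subgroup.le_normalizer (Subgroup.zpowers_le.mpr hb)

/-- `S` acts on the `p'`-group `K` with fixed points `C`. -/
structure GConf (p : ℕ) (K S C : Subgroup Γ) : Prop where
  prime : p.Prime
  norm : ∀ s ∈ S, ∀ k ∈ K, s * k * s⁻¹ ∈ K
  pgroup : IsPGroup p S
  nd : ¬ p ∣ Nat.card K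
  fix : ∀ g : Γ, g ∈ C ↔ g ∈ K ∧ ∀ s ∈ S, s * g = g * s

variable {K S C : Subgroup Γ}

theorem GConf.le (h : GConf p K S C) : C ≤ K := fun _ hg => ((h.fix _).mp hg).1

theorem GConf.setup (h : GConf p K S C) :
    Setup p (subAct h.norm) (Subgroup.inclusion h.le) where
  prime := h.prime
  pgroup := h.pgroup
  inj := Subgroup.inclusion_injective h.le
  range_iff g := by
    constructor
    · intro hg
      refine ⟨⟨g, (h.fix _).mpr ⟨g.2, fun s hs => ?_⟩⟩, rfl⟩
      exact mul_inv_eq_iff_eq_mul.mp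
        ((subAct_apply h.norm ⟨s, hs⟩ g).symm.trans (congrArg Subtype.val (hg ⟨s, hs⟩)))
    · rintro ⟨c, rfl⟩ s
      refine Subtype.ext ((subAct_apply h.norm s _).trans ?_)
      exact mul_inv_eq_iff_eq_mul.mpr (((h.fix _).mp c.2).2 s s.2)
  not_dvd := h.nd

theorem GConf.normalizes (h : GConf p K S C) {g : Γ} (hK : g ∈ Subgroup.normalizer (K : Set Γ))
    (hS : g ∈ Subgroup.normalizer (S : Set Γ)) : g ∈ Subgroup.normalizer (C : Set Γ) := by
  refine mem_normalizer_of_conj fun c hc => (h.fix _).mpr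
    ⟨(Subgroup.mem_normalizer_iff.mp hK c).mp (h.le hc), fun s hs => ?_⟩
  have hs' : g⁻¹ * s * g ∈ S := by
    have := (Subgroup.mem_normalizer_iff.mp (inv_mem hS) s).mp hs
    simpa using this
  have e := ((h.fix _).mp hc).2 _ hs'
  calc s * (g * c * g⁻¹) = g * (g⁻¹ * s * g * c) * g⁻¹ := by group
    _ = g * (c * (g⁻¹ * s * g)) * g⁻¹ := by rw [e]
    _ = g * c * g⁻¹ * s := by group

theorem GConf.inv_iff_fixer (h : GConf p K S C) (θ : K → ℂ) :
    Inv (subAct h.norm) θ ↔ S ≤ fixer K θ := by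
  rw [inv_iff]
  exact ⟨fun hθ s hs => ⟨Subgroup.le_normalizer_iff.2 h.norm hs, hθ s hs⟩,
    fun hθ s hs => (hθ hs).2⟩

/-- `φ` has multiplicity prime to `p` in `θ`. -/
def Corr (p : ℕ) (hle : C ≤ K) (θ : Cfsg.IrrCharacter K) (φ : Cfsg.IrrCharacter C) : Prop :=
  letI := Fintype.ofFinite K
  letI := Fintype.ofFinite C
  ¬ p ∣ mult (Subgroup.inclusion hle) θ φ

theorem corr_iff [Fintype K] [Fintype C] {hle : C ≤ K} {θ : Cfsg.IrrCharacter K}
    {φ : Cfsg.IrrCharacter C} :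
    Corr p hle θ φ ↔ ¬ p ∣ mult (Subgroup.inclusion hle) θ φ := by
  unfold Corr
  convert Iff.rfl

theorem GConf.exists_corr (h : GConf p K S C) (θ : Cfsg.IrrCharacter K) :
    ∃ φ, Corr p h.le θ φ := by
  cases nonempty_fintype K
  cases nonempty_fintype C
  exact ⟨h.setup.corr θ, corr_iff.mpr (h.setup.corr_spec θ)⟩

theorem GConf.corr_unique (h : GConf p K S C) {θ : Cfsg.IrrCharacter K}
    (hθ : S ≤ fixer K (θ : K → ℂ)) {φ φ' : Cfsg.IrrCharacter C} (h1 : Corr p h.le θ φ)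
    (h2 : Corr p h.le θ φ') : φ = φ' := by
  cases nonempty_fintype K
  cases nonempty_fintype C
  exact h.setup.mult_unique ((h.inv_iff_fixer _).mpr hθ) (corr_iff.mp h1) (corr_iff.mp h2)

theorem GConf.corr_injective (h : GConf p K S C) {θ θ' : Cfsg.IrrCharacter K}
    (hθ : S ≤ fixer K (θ : K → ℂ)) (hθ' : S ≤ fixer K (θ' : K → ℂ)) {φ : Cfsg.IrrCharacter C}
    (h1 : Corr p h.le θ φ) (h2 : Corr p h.le θ' φ) : θ = θ' := by
  cases nonempty_fintype K
  cases nonempty_fintype C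
  exact h.setup.inv_unique ((h.inv_iff_fixer _).mpr hθ) ((h.inv_iff_fixer _).mpr hθ')
    (corr_iff.mp h1) (corr_iff.mp h2)

theorem GConf.exists_inv (h : GConf p K S C) (φ : Cfsg.IrrCharacter C) :
    ∃ θ : Cfsg.IrrCharacter K, S ≤ fixer K (θ : K → ℂ) ∧ Corr p h.le θ φ := by
  cases nonempty_fintype K
  cases nonempty_fintype C
  obtain ⟨θ, hθ, hm⟩ := h.setup.exists_inv_mult φ
  exact ⟨θ, (h.inv_iff_fixer _).mp hθ, corr_iff.mpr hm⟩

/-- Conjugation by a normalising element. -/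
noncomputable def conjOn (K : Subgroup Γ) (g : Γ) (hg : g ∈ Subgroup.normalizer (K : Set Γ)) :
    K ≃* K :=
  K.normalizerMonoidHom ⟨g, hg⟩

theorem conjOn_apply (K : Subgroup Γ) (g : Γ) (hg : g ∈ Subgroup.normalizer (K : Set Γ)) (k : K) :
    ((conjOn K g hg k : K) : Γ) = g * k * g⁻¹ := rfl

/-- The conjugate of an irreducible character by a normalising element. -/
noncomputable def conjIrrOn (K : Subgroup Γ) (g : Γ) (hg : g ∈ Subgroup.normalizer (K : Set Γ))
    (θ : Cfsg.IrrCharacter K) : Cfsg.IrrCharacter K :=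
  irrEquiv (conjOn K g hg) θ

theorem corr_conj {hle : C ≤ K} {θ : Cfsg.IrrCharacter K} {φ : Cfsg.IrrCharacter C} {g : Γ}
    (hK : g ∈ Subgroup.normalizer (K : Set Γ)) (hC : g ∈ Subgroup.normalizer (C : Set Γ))
    (hc : Corr p hle θ φ) : Corr p hle (conjIrrOn K g hK θ) (conjIrrOn C g hC φ) := by
  cases nonempty_fintype K
  cases nonempty_fintype C
  rw [corr_iff] at hc ⊢
  rwa [mult_comp_equiv (ι := Subgroup.inclusion hle) (conjOn K g hK) (conjOn C g hC)
    (fun _ => Subtype.ext rfl) (χ := θ) (β := φ) (fun _ => rfl) (fun _ => rfl)]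

theorem conjIrrOn_eq_iff {K : Subgroup Γ} {g : Γ} (hg : g ∈ Subgroup.normalizer (K : Set Γ))
    {θ : Cfsg.IrrCharacter K} : conjIrrOn K g hg θ = θ ↔ g ∈ fixer K (θ : K → ℂ) := by
  constructor
  · intro h
    refine ⟨hg, fun k k' e => ?_⟩
    have h1 := congrFun (congrArg Subtype.val h) k
    rw [show k' = conjOn K g hg k from Subtype.ext e]
    exact h1
  · exact fun h => Subtype.ext (funext fun k => h.2 k _ rfl)

theorem GConf.fix_conj (h : GConf p K S C) {θ : Cfsg.IrrCharacter K}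
    (hθ : S ≤ fixer K (θ : K → ℂ)) {g : Γ} (hK : g ∈ Subgroup.normalizer (K : Set Γ))
    (hS : g ∈ Subgroup.normalizer (S : Set Γ)) :
    S ≤ fixer K (conjIrrOn K g hK θ : K → ℂ) := by
  intro s hs
  refine ⟨Subgroup.le_normalizer_iff.2 h.norm hs, fun k k' e => ?_⟩
  show (θ : K → ℂ) (conjOn K g hK k') = (θ : K → ℂ) (conjOn K g hK k)
  refine (hθ ((Subgroup.mem_normalizer_iff.mp hS s).mp hs)).2 _ _ ?_
  rw [conjOn_apply, conjOn_apply, e]
  group

/-- The correspondence respects the elements normalising both groups. -/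
theorem GConf.fix_iff_fix (h : GConf p K S C) {θ : Cfsg.IrrCharacter K} {φ : Cfsg.IrrCharacter C}
    (hθ : S ≤ fixer K (θ : K → ℂ)) (hc : Corr p h.le θ φ) {g : Γ}
    (hK : g ∈ Subgroup.normalizer (K : Set Γ)) (hS : g ∈ Subgroup.normalizer (S : Set Γ)) :
    g ∈ fixer K (θ : K → ℂ) ↔ g ∈ fixer C (φ : C → ℂ) := by
  have hC := h.normalizes hK hS
  have hc' := corr_conj hK hC hc
  rw [← conjIrrOn_eq_iff hK, ← conjIrrOn_eq_iff hC]
  constructor
  · intro e
    rw [e] at hc'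
    exact h.corr_unique hθ hc' hc
  · intro e
    rw [e] at hc'
    exact h.corr_injective (h.fix_conj hθ hK hS) hθ hc' hc

/-- Multiplicities prime to `p` compose through a correspondence. -/
theorem GConf.corr_trans (h : GConf p K S C) {θ : Cfsg.IrrCharacter K}
    (hθ : S ≤ fixer K (θ : K → ℂ)) {θ₀ : Cfsg.IrrCharacter C} (h0 : Corr p h.le θ θ₀)
    {D : Subgroup Γ} (hD : D ≤ C) {φ : Cfsg.IrrCharacter D}
    (hφ : Corr p (hD.trans h.le) θ φ) : Corr p hD θ₀ φ := by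
  cases nonempty_fintype K
  cases nonempty_fintype C
  cases nonempty_fintype D
  rw [corr_iff] at h0 hφ ⊢
  intro hd
  apply hφ
  rw [show Subgroup.inclusion (hD.trans h.le) =
      (Subgroup.inclusion h.le).comp (Subgroup.inclusion hD) from rfl, mult_comp]
  refine Finset.dvd_sum fun γ _ => ?_
  by_cases hγ : γ = θ₀
  · exact (hγ ▸ hd).mul_left _
  · refine Dvd.dvd.mul_right (by_contra fun hn => hγ ?_) _
    exact h.setup.mult_unique ((h.inv_iff_fixer _).mpr hθ) hn h0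

/-- Over a cyclic quotient every character over an invariant character extends it. -/
theorem extends_of_over {K V : Subgroup Γ} (θ : Cfsg.IrrCharacter K) {x : Γ}
    (hx : x ∈ fixer K (θ : K → ℂ)) (hV : V = K ⊔ Subgroup.zpowers x) (hKV : K ≤ V)
    (χ : Cfsg.IrrCharacter V) (hover : Over (Subgroup.inclusion hKV) (χ : V → ℂ) (θ : K → ℂ))
    (k : K) (v : V) (e : (v : Γ) = k) : (χ : V → ℂ) v = (θ : K → ℂ) k := by
  cases nonempty_fintype Γ
  have hxV : x ∈ V := hV ▸ Subgroup.mem_sup_right (Subgroup.mem_zpowers x)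
  have hVn : V ≤ Subgroup.normalizer (K : Set Γ) := hV ▸ sup_zpowers_le_normalizer hx.1
  have : (K.subgroupOf V).Normal := Subgroup.normal_subgroupOf_of_le_normalizer hVn
  cases nonempty_fintype V
  cases nonempty_fintype (K.subgroupOf V)
  cases nonempty_fintype (V ⧸ K.subgroupOf V)
  obtain ⟨E, hE, hEK⟩ : ExtTo V (θ : K → ℂ) := hV ▸ extTo_cyclic θ hx
  have hres : ∀ n : K.subgroupOf V, E n = (subIrr hKV θ : K.subgroupOf V → ℂ) n := fun n =>
    hEK ⟨((n : V) : Γ), Subgroup.mem_subgroupOf.mp n.2⟩ n rfl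
  have hov : Cfsg.classInner (fun n : K.subgroupOf V => (χ : V → ℂ) n)
      (subIrr hKV θ : K.subgroupOf V → ℂ) ≠ 0 :=
    (over_iff (j := (K.subgroupOf V).subtype) (χ := (χ : V → ℂ))).mp
      ((over_subIrr hKV θ (χ : V → ℂ)).mpr hover)
  obtain ⟨β, hβ⟩ := Glauberman.exists_ext_mul (QuotientGroup.mk'_surjective (K.subgroupOf V))
    (QuotientGroup.ker_mk' _) hE (subIrr hKV θ).2 hres χ.2 hov
  have hcyc : ∀ q : V ⧸ K.subgroupOf V, ∃ i : ℤ,
      q = QuotientGroup.mk' (K.subgroupOf V)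
        ⟨x, hxV⟩ ^ i := by
    intro q
    obtain ⟨g, rfl⟩ := QuotientGroup.mk'_surjective _ q
    have hmem : (g : Γ) ∈ (K : Set Γ) * (Subgroup.zpowers x : Set Γ) := by
      rw [← Subgroup.coe_mul_of_right_le_normalizer_left K (Subgroup.zpowers x)
        (Subgroup.zpowers_le.mpr hx.1)]
      exact hV.le g.2
    obtain ⟨m, hm, z, hz, he⟩ := hmem
    obtain ⟨i, rfl⟩ := Subgroup.mem_zpowers_iff.mp hz
    refine ⟨i, ?_⟩
    rw [show g = (⟨m, hKV hm⟩ : V) * ⟨x, hxV⟩ ^ i from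
      Subtype.ext (by simpa using he.symm), map_mul, map_zpow,
      show QuotientGroup.mk' (K.subgroupOf V) ⟨m, hKV hm⟩ = 1 from
        (QuotientGroup.eq_one_iff _).mpr (Subgroup.mem_subgroupOf.mpr hm), one_mul]
  have hβ1 : (β : V ⧸ K.subgroupOf V → ℂ) 1 = 1 :=
    Char.apply_one_eq_one_of_comm (fun a b => by
      obtain ⟨i, rfl⟩ := hcyc a
      obtain ⟨j, rfl⟩ := hcyc b
      rw [← zpow_add, add_comm, zpow_add]) β.2
  rw [congrFun hβ v, Pi.mul_apply, Function.comp_apply,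
    show QuotientGroup.mk' (K.subgroupOf V) v = 1 from
      (QuotientGroup.eq_one_iff v).mpr (Subgroup.mem_subgroupOf.mpr (e ▸ k.2)), hβ1, mul_one]
  exact hEK k v e

/-- The case in which the first element centralises the acting group. -/
theorem ext_base (h : GConf p K S C) {x y : Γ} (hx : ∀ s ∈ S, s * x = x * s)
    (hy : y ∈ Subgroup.normalizer (S : Set Γ)) (hxy : y * x * y⁻¹ * x⁻¹ ∈ C)
    (hnd : ¬ p ∣ Nat.card ↥(K ⊔ Subgroup.zpowers x)) {θ : Cfsg.IrrCharacter K}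
    {φ : Cfsg.IrrCharacter C} (hθ : S ≤ fixer K (θ : K → ℂ)) (hxθ : x ∈ fixer K (θ : K → ℂ))
    (hyθ : y ∈ fixer K (θ : K → ℂ)) (hc : Corr p h.le θ φ) :
    ExtTo (K ⊔ Subgroup.zpowers x ⊔ Subgroup.zpowers y) (θ : K → ℂ) ↔
      ExtTo (C ⊔ Subgroup.zpowers x ⊔ Subgroup.zpowers y) (φ : C → ℂ) := by
  classical
  cases nonempty_fintype Γ
  have := Fact.mk h.prime
  have hxS : x ∈ Subgroup.normalizer (S : Set Γ) := mem_normalizer_of_conj fun s hs => by
    rw [← hx s hs, mul_inv_cancel_right]; exact hs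
  have hxφ := (h.fix_iff_fix hθ hc hxθ.1 hxS).mp hxθ
  have hyφ := (h.fix_iff_fix hθ hc hyθ.1 hy).mp hyθ
  set V := K ⊔ Subgroup.zpowers x with hV
  set W := C ⊔ Subgroup.zpowers x with hW
  have hVdec : ∀ g ∈ V, ∃ k ∈ K, ∃ i : ℤ, g = k * x ^ i := by
    intro g hg
    have hmem : g ∈ (K : Set Γ) * (Subgroup.zpowers x : Set Γ) := by
      rw [← Subgroup.coe_mul_of_right_le_normalizer_left K (Subgroup.zpowers x)
        (Subgroup.zpowers_le.mpr hxθ.1)]
      exact hg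
    obtain ⟨m, hm, z, hz, he⟩ := hmem
    obtain ⟨i, rfl⟩ := Subgroup.mem_zpowers_iff.mp hz
    exact ⟨m, hm, i, he.symm⟩
  have hWV : W ≤ V := sup_le_sup_right h.le _
  have hVc : GConf p V S W :=
    { prime := h.prime
      norm := fun s hs g hg => by
        obtain ⟨k, hk, i, rfl⟩ := hVdec g hg
        have hc' : Commute s (x ^ i) := Commute.zpow_right (hx s hs) i
        rw [show s * (k * x ^ i) * s⁻¹ = s * k * s⁻¹ * x ^ i by
          rw [show s * (k * x ^ i) * s⁻¹ = s * k * (x ^ i * s⁻¹) by group,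
            ← (hc'.inv_left).eq]; group]
        exact mul_mem (Subgroup.mem_sup_left (h.norm s hs k hk))
          (Subgroup.mem_sup_right ⟨i, rfl⟩)
      pgroup := h.pgroup
      nd := hnd
      fix := fun g => by
        constructor
        · intro hg
          refine ⟨hWV hg, fun s hs => ?_⟩
          have : W ≤ Subgroup.centralizer ({s} : Set Γ) :=
            sup_le (fun c hcc => Subgroup.mem_centralizer_singleton_iff.mpr
              (((h.fix c).mp hcc).2 s hs).symm)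
              (Subgroup.zpowers_le.mpr (Subgroup.mem_centralizer_singleton_iff.mpr (hx s hs).symm))
          exact (Subgroup.mem_centralizer_singleton_iff.mp (this hg)).symm
        · rintro ⟨hg, hg'⟩
          obtain ⟨k, hk, i, rfl⟩ := hVdec g hg
          refine mul_mem (Subgroup.mem_sup_left ((h.fix k).mpr ⟨hk, fun s hs => ?_⟩))
            (Subgroup.mem_sup_right ⟨i, rfl⟩)
          have hc' : Commute s (x ^ i) := Commute.zpow_right (hx s hs) i
          refine mul_right_cancel (b := x ^ i) ?_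
          rw [mul_assoc, hg' s hs, mul_assoc k s, hc'.eq, ← mul_assoc] }
  have hKV : K ≤ V := le_sup_left
  have hCW : C ≤ W := le_sup_left
  -- an invariant extension to `V`
  have : (K.subgroupOf V).Normal :=
    Subgroup.normal_subgroupOf_of_le_normalizer (sup_zpowers_le_normalizer hxθ.1)
  have : Group.IsNilpotent S := h.pgroup.isNilpotent
  obtain ⟨χ, hχinv, hχm⟩ := Glauberman.exists_inv_over (subAct hVc.norm)
    (by
      obtain ⟨k, hk⟩ := h.pgroup.exists_card_eq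
      rw [hk]
      exact ((h.prime.coprime_iff_not_dvd).mpr hnd).symm.pow_right k)
    (K.subgroupOf V)
    (fun s g hg => Subgroup.mem_subgroupOf.mpr (by
      rw [subAct_apply]
      exact h.norm s s.2 _ (Subgroup.mem_subgroupOf.mp hg)))
    (subIrr hKV θ) (fun s a b e => by
      refine (hθ s.2).2 ⟨_, Subgroup.mem_subgroupOf.mp a.2⟩ ⟨_, Subgroup.mem_subgroupOf.mp b.2⟩ ?_
      show ((b : V) : Γ) = _
      rw [e, subAct_apply])
  have hχS := (hVc.inv_iff_fixer _).mp hχinv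
  have hχK := extends_of_over θ hxθ hV hKV χ ((over_subIrr hKV θ (χ : V → ℂ)).mp
    (over_iff.mpr (by
      rw [Glauberman.mult_spec]
      exact Nat.cast_ne_zero.mpr hχm)))
  -- its correspondent extends `φ`
  obtain ⟨φx, hφx⟩ := hVc.exists_corr χ
  have hχC : Corr p (hCW.trans hWV) χ φ := by
    have hc' := corr_iff.mp hc
    rw [corr_iff]
    intro hd
    apply hc'
    convert hd using 1
    apply Nat.cast_injective (R := ℂ)
    rw [← mult_spec, ← mult_spec]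
    congr 1
    funext c
    exact (hχK ⟨c, h.le c.2⟩ _ rfl).symm
  have hφxφ := hVc.corr_trans hχS hφx hCW hχC
  have hφK := extends_of_over φ hxφ hW hCW φx (over_iff.mpr (by
    rw [Glauberman.mult_spec]
    exact Nat.cast_ne_zero.mpr fun h0 => (corr_iff.mp hφxφ) (h0 ▸ dvd_zero p)))
  rw [extTo_pair θ hxθ hyθ (h.le hxy) hV χ.2 hχK, extTo_pair φ hxφ hyφ hxy hW φx.2 hφK]
  have hyV := mem_normalizer_sup_zpowers hyθ.1 (h.le hxy)
  have key := hVc.fix_iff_fix hχS hφx hyV hy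
  have hyW := hVc.normalizes hyV hy
  exact ⟨fun e => (key.mp ⟨hyV, e⟩).2, fun e => (key.mpr ⟨hyW, e⟩).2⟩

/-- The elements acting trivially on a layer. -/
def layerTriv (S S₀ : Subgroup Γ) : Subgroup Γ where
  carrier := {u | u ∈ Subgroup.normalizer (S₀ : Set Γ) ∧ ∀ s ∈ S, ⁅u, s⁆ ∈ S₀}
  one_mem' := ⟨one_mem _, fun s _ => by simp⟩
  mul_mem' := fun {u v} hu hv => ⟨mul_mem hu.1 hv.1, fun s hs => by
    rw [show ⁅u * v, s⁆ = u * ⁅v, s⁆ * u⁻¹ * ⁅u, s⁆ by simp only [commutatorElement_def]; group]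
    exact mul_mem ((Subgroup.mem_normalizer_iff.mp hu.1 _).mp (hv.2 s hs)) (hu.2 s hs)⟩
  inv_mem' := fun {u} hu => ⟨inv_mem hu.1, fun s hs => by
    rw [show ⁅u⁻¹, s⁆ = u⁻¹ * ⁅u, s⁆⁻¹ * u⁻¹⁻¹ by simp only [commutatorElement_def]; group]
    exact (Subgroup.mem_normalizer_iff.mp (inv_mem hu.1) _).mp (inv_mem (hu.2 s hs))⟩

theorem ext_aux (n : ℕ) : ∀ (K S C : Subgroup Γ) (h : GConf p K S C), Nat.card S = n →
    ∀ (a b : Γ), a ∈ Subgroup.normalizer (S : Set Γ) → b ∈ Subgroup.normalizer (S : Set Γ) →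
      b * a * b⁻¹ * a⁻¹ ∈ C →
      ¬ p ∣ Nat.card ↥(K ⊔ (Subgroup.zpowers a ⊔ Subgroup.zpowers b)) →
      ∀ (θ : Cfsg.IrrCharacter K) (φ : Cfsg.IrrCharacter C), S ≤ fixer K (θ : K → ℂ) →
        a ∈ fixer K (θ : K → ℂ) → b ∈ fixer K (θ : K → ℂ) → Corr p h.le θ φ →
        (ExtTo (K ⊔ (Subgroup.zpowers a ⊔ Subgroup.zpowers b)) (θ : K → ℂ) ↔
          ExtTo (C ⊔ (Subgroup.zpowers a ⊔ Subgroup.zpowers b)) (φ : C → ℂ)) := by
  induction n using Nat.strong_induction_on with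
  | _ n ih =>
  intro K S C h hn a b haS hbS hab hnd θ φ hθ haθ hbθ hc
  classical
  cases nonempty_fintype Γ
  have := Fact.mk h.prime
  rcases eq_or_ne S ⊥ with hb | hS1
  · -- no operators
    have hCK : C = K := le_antisymm h.le fun k hk => (h.fix k).mpr ⟨hk, fun s hs => by
      rw [hb, Subgroup.mem_bot] at hs
      rw [hs, one_mul, mul_one]⟩
    subst hCK
    have : θ = φ := by
      by_contra hne
      refine corr_iff.mp hc ?_
      have h0 : mult (Subgroup.inclusion h.le) θ φ = 0 := by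
        apply Nat.cast_injective (R := ℂ)
        rw [← mult_spec, show ((θ : C → ℂ) ∘ Subgroup.inclusion h.le) = (θ : C → ℂ) from rfl,
          Char.classInner_irr_ne θ.2 φ.2 fun e => hne (Subtype.ext e), Nat.cast_zero]
      rw [h0]
      exact dvd_zero p
    rw [this]
  set U := Subgroup.zpowers a ⊔ Subgroup.zpowers b with hU
  let Q : Γ → Γ → Prop := fun x y =>
    Subgroup.zpowers x ⊔ Subgroup.zpowers y = U ∧ y * x * y⁻¹ * x⁻¹ ∈ C
  have hswap : ∀ x y, Q x y → Q y x := fun x y hq => ⟨(sup_comm _ _).trans hq.1, by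
    rw [show x * y * x⁻¹ * y⁻¹ = (y * x * y⁻¹ * x⁻¹)⁻¹ by group]
    exact inv_mem hq.2⟩
  have hmove : ∀ x y, Q x y → Q x (y * x⁻¹) := fun x y hq => ⟨by
    rw [← hq.1]
    refine le_antisymm (sup_le le_sup_left (Subgroup.zpowers_le.mpr ?_))
      (sup_le le_sup_left (Subgroup.zpowers_le.mpr ?_))
    · exact mul_mem (Subgroup.mem_sup_right (Subgroup.mem_zpowers y))
        (inv_mem (Subgroup.mem_sup_left (Subgroup.mem_zpowers x)))
    · have h1 := mul_mem (Subgroup.mem_sup_right (S := Subgroup.zpowers x)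
        (Subgroup.mem_zpowers (y * x⁻¹))) (Subgroup.mem_sup_left (T := Subgroup.zpowers (y * x⁻¹))
        (Subgroup.mem_zpowers x))
      simpa using h1, by
    rw [show y * x⁻¹ * x * (y * x⁻¹)⁻¹ * x⁻¹ = y * x * y⁻¹ * x⁻¹ by group]
    exact hq.2⟩
  have habS : ∀ s ∈ S, ⁅b * a * b⁻¹ * a⁻¹, s⁆ = 1 := fun s hs =>
    commutatorElement_eq_one_iff_mul_comm.mpr (((h.fix _).mp hab).2 s hs).symm
  obtain ⟨S₀, x, y, hlt, ha0, hb0, hSn, hQxy, hxtriv⟩ :=
    exists_layer h.pgroup hS1 haS hbS habS Q ⟨rfl, hab⟩ hswap hmove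
  have hUn : ∀ {H : Subgroup Γ}, a ∈ Subgroup.normalizer (H : Set Γ) →
      b ∈ Subgroup.normalizer (H : Set Γ) → ∀ {g}, g ∈ U → g ∈ Subgroup.normalizer (H : Set Γ) :=
    fun {H} ha hb {g} hg => sup_le (Subgroup.zpowers_le.mpr ha) (Subgroup.zpowers_le.mpr hb) hg
  have hxU : x ∈ U := hQxy.1 ▸ Subgroup.mem_sup_left (Subgroup.mem_zpowers x)
  have hyU : y ∈ U := hQxy.1 ▸ Subgroup.mem_sup_right (Subgroup.mem_zpowers y)
  -- the first step
  let C₀ : Subgroup Γ := K ⊓ Subgroup.centralizer (S₀ : Set Γ)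
  have h0 : GConf p K S₀ C₀ :=
    { prime := h.prime
      norm := fun s hs => h.norm s (hlt.le hs)
      pgroup := h.pgroup.to_le hlt.le
      nd := h.nd
      fix := fun g => ⟨fun hg => ⟨hg.1, fun s hs => hg.2 s hs⟩,
        fun hg => ⟨hg.1, fun s hs => hg.2 s hs⟩⟩ }
  have hCC₀ : C ≤ C₀ := fun c hcc =>
    ⟨h.le hcc, fun s hs => ((h.fix c).mp hcc).2 s (hlt.le hs)⟩
  obtain ⟨θ₀, hθ₀⟩ := h0.exists_corr θ
  have hθ0 : S₀ ≤ fixer K (θ : K → ℂ) := hlt.le.trans hθ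
  have step1 := ih _ (hn ▸ lt_of_not_ge fun hge => hlt.ne (Subgroup.eq_of_le_of_card_ge hlt.le hge)) K S₀ C₀ h0 rfl a b ha0 hb0 (hCC₀ hab) hnd θ
    θ₀ hθ0 haθ hbθ hθ₀
  -- the second step
  let R : Subgroup Γ := S ⊓ Subgroup.centralizer ((Subgroup.zpowers x : Subgroup Γ) : Set Γ)
  have hxS₀ := hUn ha0 hb0 hxU
  have hcardx : ¬ p ∣ Nat.card (Subgroup.zpowers x) := fun hd =>
    hnd (hd.trans (Subgroup.card_dvd_of_le ((Subgroup.zpowers_le.mpr hxU).trans le_sup_right)))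
  have hSeq : S ≤ S₀ ⊔ R := by
    refine Coprime.le_sup_centralizer (Subgroup.zpowers_le.mpr hxS₀) hlt.le ?_
      (Or.inl (Coprime.isSolvable_zpowers x)) fun u hu k hk => ?_
    · obtain ⟨k, hk⟩ := (h.pgroup.to_le hlt.le).exists_card_eq
      rw [hk]
      exact ((h.prime.coprime_iff_not_dvd).mpr hcardx).symm.pow_right k
    · exact ((Subgroup.zpowers_le.mpr (show x ∈ layerTriv S S₀ from ⟨hxS₀, hxtriv⟩)) hu).2 k hk
  have hC₀n : ∀ g : Γ, g ∈ Subgroup.normalizer (K : Set Γ) →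
      g ∈ Subgroup.normalizer (S₀ : Set Γ) → g ∈ Subgroup.normalizer (C₀ : Set Γ) :=
    fun g hg hg' => h0.normalizes hg hg'
  have h1 : GConf p C₀ R C :=
    { prime := h.prime
      norm := fun s hs k hk => (Subgroup.mem_normalizer_iff.mp
        (hC₀n s (Subgroup.le_normalizer_iff.2 h.norm hs.1) (hSn hs.1)) k).mp hk
      pgroup := h.pgroup.to_le inf_le_left
      nd := fun hd => h.nd (hd.trans (Subgroup.card_dvd_of_le inf_le_left))
      fix := fun g => ⟨fun hg => ⟨hCC₀ hg, fun s hs => ((h.fix g).mp hg).2 s hs.1⟩,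
        fun hg => (h.fix g).mpr ⟨hg.1.1, fun s hs => by
          have : S₀ ⊔ R ≤ Subgroup.centralizer ({g} : Set Γ) :=
            sup_le (fun t ht => Subgroup.mem_centralizer_singleton_iff.mpr (hg.1.2 t ht))
              (fun t ht => Subgroup.mem_centralizer_singleton_iff.mpr (hg.2 t ht))
          exact Subgroup.mem_centralizer_singleton_iff.mp (this (hSeq hs))⟩⟩ }
  have hfix₀ : ∀ g : Γ, g ∈ Subgroup.normalizer (S₀ : Set Γ) → g ∈ fixer K (θ : K → ℂ) →
      g ∈ fixer C₀ (θ₀ : C₀ → ℂ) := fun g hg hgθ => (h0.fix_iff_fix hθ0 hθ₀ hgθ.1 hg).mp hgθ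
  have hRθ₀ : R ≤ fixer C₀ (θ₀ : C₀ → ℂ) := fun s hs => hfix₀ s (hSn hs.1) (hθ hs.1)
  have hUθ : ∀ {g}, g ∈ U → g ∈ fixer K (θ : K → ℂ) := fun {g} hg =>
    sup_le (Subgroup.zpowers_le.mpr haθ) (Subgroup.zpowers_le.mpr hbθ) hg
  have hyS := hUn haS hbS hyU
  have hyR : y ∈ Subgroup.normalizer (R : Set Γ) := by
    refine mem_normalizer_of_conj fun r hr => ⟨(Subgroup.mem_normalizer_iff.mp hyS r).mp hr.1, ?_⟩
    intro u hu
    have hcomm : Commute (y * r * y⁻¹) x := by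
      have h2 : Commute (y * r * y⁻¹) (y * x * y⁻¹) :=
        Commute.map (show Commute r x from (hr.2 x (Subgroup.mem_zpowers x)).symm)
          (MulAut.conj y).toMonoidHom
      have h3 : Commute (y * r * y⁻¹) (y * x * y⁻¹ * x⁻¹) :=
        ((h.fix _).mp hQxy.2).2 _ ((Subgroup.mem_normalizer_iff.mp hyS r).mp hr.1)
      have h4 := (h3.inv_right).mul_right h2
      rwa [show (y * x * y⁻¹ * x⁻¹)⁻¹ * (y * x * y⁻¹) = x by group] at h4
    obtain ⟨i, rfl⟩ := Subgroup.mem_zpowers_iff.mp hu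
    exact (hcomm.zpow_right i).eq.symm
  have hnd₀ : ¬ p ∣ Nat.card ↥(C₀ ⊔ Subgroup.zpowers x) := fun hd => hnd (hd.trans
    (Subgroup.card_dvd_of_le (sup_le_sup inf_le_left (Subgroup.zpowers_le.mpr hxU))))
  have step2 := ext_base h1 (x := x) (y := y) (fun s hs => (hs.2 x (Subgroup.mem_zpowers x)).symm)
    hyR hQxy.2 hnd₀ hRθ₀ (hfix₀ x hxS₀ (hUθ hxU)) (hfix₀ y (hUn ha0 hb0 hyU) (hUθ hyU))
    (h0.corr_trans hθ0 hθ₀ hCC₀ hc)
  rw [step1]
  rw [sup_assoc, sup_assoc, hQxy.1] at step2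
  exact step2

/-- **Extendibility is preserved.** -/
theorem ext_iff_ext (h : GConf p K S C) {a b : Γ} (ha : a ∈ Subgroup.normalizer (S : Set Γ))
    (hb : b ∈ Subgroup.normalizer (S : Set Γ)) (hab : b * a * b⁻¹ * a⁻¹ ∈ C)
    (hnd : ¬ p ∣ Nat.card ↥(K ⊔ (Subgroup.zpowers a ⊔ Subgroup.zpowers b)))
    {θ : Cfsg.IrrCharacter K} {φ : Cfsg.IrrCharacter C} (hθ : S ≤ fixer K (θ : K → ℂ))
    (haθ : a ∈ fixer K (θ : K → ℂ)) (hbθ : b ∈ fixer K (θ : K → ℂ)) (hc : Corr p h.le θ φ) :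
    ExtTo (K ⊔ (Subgroup.zpowers a ⊔ Subgroup.zpowers b)) (θ : K → ℂ) ↔
      ExtTo (C ⊔ (Subgroup.zpowers a ⊔ Subgroup.zpowers b)) (φ : C → ℂ) :=
  ext_aux _ K S C h rfl a b ha hb hab hnd θ φ hθ haθ hbθ hc

end CfsgLib.CharDeep.RelMcKay
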