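import Cfsg.Agent.Lib.CharDeep.RelMcKay.Basic
import Cfsg.Agent.Lib.CharDeep.Glauberman.CoprimeDegree
import Cfsg.Agent.Lib.CharDeep.ProjExt

/-!
# Extending an invariant character over two commuting generators
-/

set_option autoImplicit false

open scoped ComplexConjugate Pointwise

namespace CfsgLib.CharDeep.RelMcKay

open CfsgLib

variable {Γ : Type*} [Group Γ]

/-- `θ` extends to an irreducible character of `V`. -/
def ExtTo {K : Subgroup Γ} (V : Subgroup Γ) (θ : K → ℂ) : Prop :=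
  ∃ χ : V → ℂ, Cfsg.IsIrrCharacter V χ ∧ ∀ (k : K) (v : V), (v : Γ) = k → χ v = θ k

/-- The normalizing elements fixing `θ`. -/
def fixer (K : Subgroup Γ) (θ : K → ℂ) : Subgroup Γ where
  carrier := {y | y ∈ Subgroup.normalizer (K : Set Γ) ∧ Cfsg.IsConjCharOf K y θ θ}
  one_mem' := ⟨one_mem _, fun k k' e => by rw [show k' = k from Subtype.ext (by simpa using e)]⟩
  mul_mem' := fun {a b} ha hb => ⟨mul_mem ha.1 hb.1, fun k k' e => by
    let m : K := ⟨b * k * b⁻¹, (Subgroup.mem_normalizer_iff.mp hb.1 k).mp k.2⟩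
    rw [ha.2 m k' (by rw [e]; simp only [m]; group), hb.2 k m rfl]⟩
  inv_mem' := fun {a} ha => ⟨inv_mem ha.1, fun k k' e => (ha.2 k' k (by rw [e]; group)).symm⟩

theorem mem_fixer {K : Subgroup Γ} {θ : K → ℂ} {y : Γ} : y ∈ fixer K θ ↔
    y ∈ Subgroup.normalizer (K : Set Γ) ∧ Cfsg.IsConjCharOf K y θ θ := Iff.rfl

theorem le_fixer {K : Subgroup Γ} {θ : K → ℂ} (hθ : Cfsg.IsClassFunction K θ) :
    K ≤ fixer K θ := fun k hk => ⟨Subgroup.le_normalizer hk, fun m m' e => by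
  rw [show m' = ⟨k, hk⟩ * m * ⟨k, hk⟩⁻¹ from Subtype.ext e]
  exact hθ m _⟩

theorem conjG_subIrr {K V : Subgroup Γ} [(K.subgroupOf V).Normal] (hKV : K ≤ V)
    (θ : Cfsg.IrrCharacter K) (hV : V ≤ fixer K (θ : K → ℂ)) (g : V) :
    Char.conjG (subIrr hKV θ : K.subgroupOf V → ℂ) g = (subIrr hKV θ : K.subgroupOf V → ℂ) :=
  funext fun x => (hV g.2).2 ⟨((x : V) : Γ), Subgroup.mem_subgroupOf.mp x.2⟩
    ⟨(g : Γ) * x * (g : Γ)⁻¹, (Subgroup.mem_normalizer_iff.mp (hV g.2).1 _).mp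
      (Subgroup.mem_subgroupOf.mp x.2)⟩ rfl

variable [Finite Γ]

theorem irr_of_restrict {K V : Subgroup Γ} (hKV : K ≤ V) {χ : V → ℂ} (hχ : Cfsg.IsCharacter V χ)
    (θ : Cfsg.IrrCharacter K) (h : ∀ (k : K) (v : V), (v : Γ) = k → χ v = (θ : K → ℂ) k) :
    Cfsg.IsIrrCharacter V χ := by
  cases nonempty_fintype Γ
  cases nonempty_fintype K
  cases nonempty_fintype V
  refine Relative.irr_of_comp_irr (Subgroup.inclusion hKV) hχ ?_
  rw [show χ ∘ Subgroup.inclusion hKV = (θ : K → ℂ) from funext fun k => h k _ rfl]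
  exact θ.2

/-- An invariant character extends over a cyclic quotient. -/
theorem extTo_cyclic {K : Subgroup Γ} (θ : Cfsg.IrrCharacter K) {b : Γ}
    (hb : b ∈ fixer K (θ : K → ℂ)) : ExtTo (K ⊔ Subgroup.zpowers b) (θ : K → ℂ) := by
  cases nonempty_fintype Γ
  set V := K ⊔ Subgroup.zpowers b with hVdef
  have hV : V ≤ fixer K (θ : K → ℂ) :=
    sup_le (le_fixer (Char.IsIrrCharacter.isClassFunction θ.2)) (Subgroup.zpowers_le.mpr hb)
  have hKV : K ≤ V := le_sup_left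
  have : (K.subgroupOf V).Normal :=
    Subgroup.normal_subgroupOf_of_le_normalizer fun g hg => (hV hg).1
  obtain ⟨d, ρ, hρ, hρc⟩ := (subIrr hKV θ).2
  have := hρ
  have hinv : ProjExt.Invariant ρ := fun g n => by
    rw [hρc, show MulAut.conjNormal g n = (⟨g * n * g⁻¹, by
      simpa using (MulAut.conjNormal g n).2⟩ : K.subgroupOf V) from Subtype.ext (by simp)]
    exact congrFun (conjG_subIrr hKV θ hV g) n
  have hbV : b ∈ V := le_sup_right (b := Subgroup.zpowers b) (Subgroup.mem_zpowers b)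
  obtain ⟨σ, hσ⟩ := ProjExt.exists_extension_of_zpowers ρ hinv ⟨b, hbV⟩ fun g => by
    have hmem : (g : Γ) ∈ (K : Set Γ) * (Subgroup.zpowers b : Set Γ) := by
      rw [← Subgroup.coe_mul_of_right_le_normalizer_left K (Subgroup.zpowers b)
        (Subgroup.zpowers_le.mpr hb.1)]
      exact g.2
    obtain ⟨k, hk, z, hz, e⟩ := hmem
    obtain ⟨i, rfl⟩ := Subgroup.mem_zpowers_iff.mp hz
    exact ⟨⟨⟨k, hKV hk⟩, Subgroup.mem_subgroupOf.mpr hk⟩, i, Subtype.ext (by simpa using e.symm)⟩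
  obtain ⟨χ, hχ, hχn⟩ := ProjExt.exists_character_of_extension ρ σ hσ
  refine ⟨χ, hχ, fun k v e => ?_⟩
  have h1 := hχn ⟨v, Subgroup.mem_subgroupOf.mpr (e ▸ k.2)⟩
  rw [hρc] at h1
  refine h1.trans ?_
  show (θ : K → ℂ) _ = _
  exact congrArg _ (Subtype.ext e)

/-- Two extensions differ by a linear character trivial on `K`. -/
theorem exists_twist {K V : Subgroup Γ} (hKV : K ≤ V) (hVn : V ≤ Subgroup.normalizer (K : Set Γ))
    (θ : Cfsg.IrrCharacter K) {χ χ' : V → ℂ} (hχ : Cfsg.IsIrrCharacter V χ)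
    (hχ' : Cfsg.IsIrrCharacter V χ')
    (h : ∀ (k : K) (v : V), (v : Γ) = k → χ v = (θ : K → ℂ) k)
    (h' : ∀ (k : K) (v : V), (v : Γ) = k → χ' v = (θ : K → ℂ) k) :
    ∃ μ : V →* ℂˣ, (∀ v : V, (v : Γ) ∈ K → μ v = 1) ∧ ∀ v, χ' v = (μ v : ℂ) * χ v := by
  cases nonempty_fintype Γ
  cases nonempty_fintype V
  have : (K.subgroupOf V).Normal := Subgroup.normal_subgroupOf_of_le_normalizer hVn
  cases nonempty_fintype (K.subgroupOf V)
  obtain ⟨μ, hμ, hμe⟩ := Glauberman.exists_hom_mul ⟨χ, hχ⟩ ⟨χ', hχ'⟩ (subIrr hKV θ)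
    (fun k => h ⟨((k : V) : Γ), Subgroup.mem_subgroupOf.mp k.2⟩ k rfl)
    (fun k => h' ⟨((k : V) : Γ), Subgroup.mem_subgroupOf.mp k.2⟩ k rfl)
  exact ⟨μ, fun v hv => hμ ⟨v, Subgroup.mem_subgroupOf.mpr hv⟩, hμe⟩

/-- For commuting generators modulo `K` the character extends iff an extension to the first
cyclic extension is fixed by the second generator. -/
theorem extTo_pair {K : Subgroup Γ} (θ : Cfsg.IrrCharacter K) {a b : Γ}
    (ha : a ∈ fixer K (θ : K → ℂ)) (hb : b ∈ fixer K (θ : K → ℂ))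
    (hab : b * a * b⁻¹ * a⁻¹ ∈ K) {V₁ : Subgroup Γ} (hV₁ : V₁ = K ⊔ Subgroup.zpowers a)
    {χ : V₁ → ℂ} (hχ : Cfsg.IsIrrCharacter V₁ χ)
    (hχK : ∀ (k : K) (v : V₁), (v : Γ) = k → χ v = (θ : K → ℂ) k) :
    ExtTo (V₁ ⊔ Subgroup.zpowers b) (θ : K → ℂ) ↔ Cfsg.IsConjCharOf V₁ b χ χ := by
  have hKV₁ : K ≤ V₁ := hV₁ ▸ le_sup_left
  have hV₁n : V₁ ≤ Subgroup.normalizer (K : Set Γ) :=
    hV₁ ▸ sup_le Subgroup.le_normalizer (Subgroup.zpowers_le.mpr ha.1)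
  have haV : a ∈ V₁ := hV₁ ▸ Subgroup.mem_sup_right (Subgroup.mem_zpowers a)
  have hbV : b ∈ Subgroup.normalizer (V₁ : Set Γ) := by
    have h1 : V₁.map (MulAut.conj b).toMonoidHom ≤ V₁ := by
      refine (congrArg (fun W : Subgroup Γ => W.map (MulAut.conj b).toMonoidHom) hV₁).le.trans ?_
      rw [Subgroup.map_sup, MonoidHom.map_zpowers]
      refine sup_le ?_ (Subgroup.zpowers_le.mpr ?_)
      · rintro _ ⟨k, hk, rfl⟩
        exact hKV₁ ((Subgroup.mem_normalizer_iff.mp hb.1 k).mp hk)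
      · show b * a * b⁻¹ ∈ V₁
        rw [show b * a * b⁻¹ = b * a * b⁻¹ * a⁻¹ * a by group]
        exact mul_mem (hKV₁ hab) haV
    have h2 := Subgroup.eq_of_le_of_card_ge h1
      (Subgroup.card_map_of_injective (MulAut.conj b).injective).ge
    refine Subgroup.mem_normalizer_iff.mpr fun x => ⟨fun hx => h1 ⟨x, hx, rfl⟩, fun hx => ?_⟩
    obtain ⟨y, hy, e⟩ := h2.ge hx
    rwa [← (MulAut.conj b).injective e]
  constructor
  · rintro ⟨X, hX, hXK⟩
    have hle : V₁ ≤ V₁ ⊔ Subgroup.zpowers b := le_sup_left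
    let X₁ : V₁ → ℂ := fun v => X (Subgroup.inclusion hle v)
    have hX₁c : Cfsg.IsCharacter V₁ X₁ :=
      Char.IsCharacter.comp (Char.IsIrrCharacter.isCharacter hX) (Subgroup.inclusion hle)
    have hX₁K : ∀ (k : K) (v : V₁), (v : Γ) = k → X₁ v = (θ : K → ℂ) k := fun k v e => hXK k _ e
    have hX₁ := irr_of_restrict hKV₁ hX₁c θ hX₁K
    obtain ⟨μ, hμ, hμe⟩ := exists_twist hKV₁ hV₁n θ hX₁ hχ hX₁K hχK
    intro v v' e
    have hXb : X₁ v' = X₁ v := by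
      let b' : ↥(V₁ ⊔ Subgroup.zpowers b) := ⟨b, Subgroup.mem_sup_right (Subgroup.mem_zpowers b)⟩
      show X (Subgroup.inclusion hle v') = X (Subgroup.inclusion hle v)
      rw [show Subgroup.inclusion hle v' = b' * Subgroup.inclusion hle v * b'⁻¹ from Subtype.ext e]
      exact Char.IsIrrCharacter.isClassFunction hX _ _
    have hμb : μ v' = μ v := by
      let c : V₁ →* V₁ :=
        { toFun := fun w => ⟨b * w * b⁻¹, (Subgroup.mem_normalizer_iff.mp hbV w).mp w.2⟩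
          map_one' := Subtype.ext (by simp)
          map_mul' := fun x y => Subtype.ext (by simp) }
      have hv : v' = c v := Subtype.ext e
      rw [hv]
      have hker : ∀ w : Γ, w ∈ V₁ → ∀ hw : w ∈ V₁, μ (c ⟨w, hw⟩) = μ ⟨w, hw⟩ := by
        let E : Subgroup V₁ := (μ.comp c).eqLocus μ
        have hE : V₁ ≤ E.map V₁.subtype := by
          refine hV₁.le.trans (sup_le (fun k hk => ⟨⟨k, hKV₁ hk⟩, ?_, rfl⟩)
            (Subgroup.zpowers_le.mpr ⟨⟨a, haV⟩, ?_, rfl⟩))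
          · show μ (c ⟨k, hKV₁ hk⟩) = μ ⟨k, hKV₁ hk⟩
            rw [hμ (c ⟨k, hKV₁ hk⟩) ((Subgroup.mem_normalizer_iff.mp hb.1 k).mp hk),
              hμ ⟨k, hKV₁ hk⟩ hk]
          · show μ (c ⟨a, haV⟩) = μ ⟨a, haV⟩
            rw [show c ⟨a, haV⟩ = (⟨b * a * b⁻¹ * a⁻¹, hKV₁ hab⟩ : V₁) *
              ⟨a, haV⟩ from Subtype.ext (show b * a * b⁻¹ = _ by simp), map_mul,
              hμ ⟨_, hKV₁ hab⟩ hab, one_mul]
        intro w _ hw
        obtain ⟨x, hx, hxe⟩ := hE hw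
        rw [show (⟨w, hw⟩ : V₁) = x from Subtype.ext hxe.symm]
        exact hx
      exact hker v v.2 v.2
    rw [hμe, hμe, hXb, hμb]
  · intro hfix
    obtain ⟨X, hX, hXV⟩ := extTo_cyclic (⟨χ, hχ⟩ : Cfsg.IrrCharacter V₁) (b := b) ⟨hbV, hfix⟩
    exact ⟨X, hX, fun k v e => (hXV ⟨k, hKV₁ k.2⟩ v e).trans (hχK k ⟨k, hKV₁ k.2⟩ rfl)⟩

end CfsgLib.CharDeep.RelMcKay
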