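import Cfsg.Agent.Lib.CharDeep.RelMcKay.Ext

/-!
# Counting characters over an invariant character through good elements

The number of irreducible characters over an invariant `θ` is determined by the pairs of elements
commuting modulo `K` over which `θ` extends.
-/

set_option autoImplicit false

open scoped ComplexConjugate Pointwise

namespace CfsgLib.CharDeep.RelMcKay

open CfsgLib

variable {G : Type*} [Group G]

/-- The elements commuting with `x` modulo `K`. -/
def commMod (K : Subgroup G) [K.Normal] (x : G) : Subgroup G :=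
  (Subgroup.centralizer {QuotientGroup.mk' K x}).comap (QuotientGroup.mk' K)

theorem mem_commMod {K : Subgroup G} [K.Normal] {x y : G} :
    y ∈ commMod K x ↔ y * x * y⁻¹ * x⁻¹ ∈ K := by
  rw [commMod, Subgroup.mem_comap, Subgroup.mem_centralizer_singleton_iff,
    ← QuotientGroup.eq_one_iff (N := K)]
  simp only [QuotientGroup.mk'_apply, QuotientGroup.mk_mul, QuotientGroup.mk_inv, mul_inv_eq_one,
    mul_inv_eq_iff_eq_mul, one_mul]

/-- The element `x` is good when `θ` extends to `K⟨x, y⟩` for all `y` commuting with it modulo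
`K`. -/
def Good (K : Subgroup G) [K.Normal] (θ : K → ℂ) (x : G) : Prop :=
  ∀ y ∈ commMod K x, ExtTo (K ⊔ Subgroup.zpowers x ⊔ Subgroup.zpowers y) θ

variable [Fintype G] {K : Subgroup G} [hK : K.Normal] [Fintype K] (θ : Cfsg.IrrCharacter K)
  (hinv : ∀ g : G, g ∈ fixer K (θ : K → ℂ))

include hinv

open Classical in
/-- The contribution of one coset. -/
theorem coset_count (x : G) :
    ∑ χ ∈ Finset.univ.filter (fun χ : Cfsg.IrrCharacter G =>
        Over K.subtype (χ : G → ℂ) (θ : K → ℂ)),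
      ∑ k : K, (χ : G → ℂ) (x * k) * conj ((χ : G → ℂ) (x * k)) =
      if Good K (θ : K → ℂ) x then (Nat.card (commMod K x) : ℂ) else 0 := by
  let T : Subgroup G := K ⊔ Subgroup.zpowers x
  have hKT : K ≤ T := le_sup_left
  have hxT : x ∈ T := Subgroup.mem_sup_right (Subgroup.mem_zpowers x)
  obtain ⟨E, hE, hEK⟩ : ExtTo T (θ : K → ℂ) := extTo_cyclic θ (hinv x)
  have hKTn : (K.subgroupOf T).Normal := Subgroup.Normal.subgroupOf inferInstance T
  let R := T ⧸ K.subgroupOf T
  let π : T →* R := QuotientGroup.mk' _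
  have hπ : Function.Surjective π := QuotientGroup.mk'_surjective _
  have hker : π.ker = K.subgroupOf T := QuotientGroup.ker_mk' _
  let ξ : K → T := fun k => ⟨x * k, mul_mem hxT (hKT k.2)⟩
  let x' : T := ⟨x, hxT⟩
  have hres : ∀ n : K.subgroupOf T, E n = (subIrr hKT θ : K.subgroupOf T → ℂ) n := fun n =>
    hEK ⟨((n : T) : G), Subgroup.mem_subgroupOf.mp n.2⟩ n rfl
  have hπk : ∀ (t : T) (k : K), (t : G) = x * k → π t = π x' := fun t k e =>
    (QuotientGroup.eq.mpr (Subgroup.mem_subgroupOf.mpr (by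
      show (x : G)⁻¹ * (t : G) ∈ K
      rw [e, inv_mul_cancel_left]
      exact k.2))).symm
  have hπiff : ∀ t : T, π t = π x' ↔ x⁻¹ * (t : G) ∈ K := fun t => by
    rw [eq_comm]
    exact QuotientGroup.eq.trans Subgroup.mem_subgroupOf
  have hcoset : ∀ h : T → ℂ,
      ∑ t : T, (if π t = π x' then h t else 0) = ∑ k : K, h (ξ k) := fun h => by
    rw [← Finset.sum_filter]
    refine Finset.sum_bij' (fun t ht => (⟨x⁻¹ * (t : G), (hπiff t).mp (Finset.mem_filter.mp ht).2⟩ : K))
      (fun k _ => ξ k) (fun _ _ => Finset.mem_univ _)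
      (fun k _ => Finset.mem_filter.mpr ⟨Finset.mem_univ _, hπk _ k rfl⟩)
      (fun t _ => Subtype.ext (mul_inv_cancel_left x (t : G)))
      (fun k _ => Subtype.ext (inv_mul_cancel_left x (k : G))) (fun t _ => ?_)
    exact congrArg h (Subtype.ext (mul_inv_cancel_left x (t : G)).symm)
  have hcyc : ∀ t : T, ∃ k ∈ K, ∃ i : ℤ, (t : G) = k * x ^ i := by
    intro t
    obtain ⟨k, hk, z, hz, he⟩ := Subgroup.mem_sup_of_normal_left.mp t.2
    obtain ⟨i, rfl⟩ := Subgroup.mem_zpowers_iff.mp hz
    exact ⟨k, hk, i, he.symm⟩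
  have hRgen : ∀ q : R, ∃ i : ℤ, q = π x' ^ i := by
    intro q
    obtain ⟨t, rfl⟩ := hπ q
    obtain ⟨k, hk, i, e⟩ := hcyc t
    refine ⟨i, ?_⟩
    rw [show t = (⟨k, hKT hk⟩ : T) * x' ^ i from Subtype.ext (by simpa [x'] using e), map_mul,
      map_zpow, show π ⟨k, hKT hk⟩ = 1 from
        (QuotientGroup.eq_one_iff _).mpr (Subgroup.mem_subgroupOf.mpr hk), one_mul]
  have hRcomm : ∀ a b : R, a * b = b * a := fun a b => by
    obtain ⟨i, rfl⟩ := hRgen a
    obtain ⟨j, rfl⟩ := hRgen b
    rw [← zpow_add, add_comm, zpow_add]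
  -- the function supported on the coset
  let f : T → ℂ := fun t => if π t = π x' then E t else 0
  have hm0 : (Nat.card R : ℂ) ≠ 0 := Nat.cast_ne_zero.mpr Nat.card_pos.ne'
  let coef : Cfsg.IrrCharacter R → ℂ := fun β =>
    (Nat.card R : ℂ)⁻¹ * conj ((β : R → ℂ) (π x'))
  have hf : f = ∑ β : Cfsg.IrrCharacter R, coef β • (E * ((β : R → ℂ) ∘ π)) := by
    funext t
    rw [Finset.sum_apply]
    simp only [Pi.smul_apply, Pi.mul_apply, Function.comp_apply, smul_eq_mul, coef]
    rw [Finset.sum_congr rfl fun (β : Cfsg.IrrCharacter R) _ => show (Nat.card R : ℂ)⁻¹ * conj ((β : R → ℂ) (π x')) *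
      (E t * (β : R → ℂ) (π t)) = (Nat.card R : ℂ)⁻¹ * E t *
        ((β : R → ℂ) (π t) * conj ((β : R → ℂ) (π x'))) by ring, ← Finset.mul_sum,
      Char.sum_irr_mul_conj]
    have hconj : IsConj (π t) (π x') ↔ π t = π x' := ⟨fun h => by
      obtain ⟨c, hc⟩ := isConj_iff.mp h
      rw [← hc, hRcomm c, mul_inv_cancel_right], fun h => h ▸ IsConj.refl _⟩
    show (if π t = π x' then E t else 0) = _
    simp only [hconj]
    split_ifs with h
    · rw [Subgroup.centralizer_eq_top_iff_subset.mpr (by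
        rintro _ rfl; exact Subgroup.mem_center_iff.mpr fun g => hRcomm g _),
        Nat.card_congr Subgroup.topEquiv.toEquiv]
      field_simp
    · rw [mul_zero]
  have hfin : ∀ γ : Cfsg.IrrCharacter R,
      Cfsg.classInner f (E * ((γ : R → ℂ) ∘ π)) = coef γ := fun γ => by
    rw [hf, Char.classInner_sum_left, Finset.sum_eq_single γ]
    · rw [Char.classInner_smul_left,
        Glauberman.classInner_ext_mul hπ hker hE (subIrr hKT θ).2 hres, if_pos rfl, mul_one]
    · intro δ _ hne
      rw [Char.classInner_smul_left,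
        Glauberman.classInner_ext_mul hπ hker hE (subIrr hKT θ).2 hres, if_neg hne, mul_zero]
    · exact fun hh => absurd (Finset.mem_univ _) hh
  have hcardT : (Nat.card T : ℂ) = (Nat.card R : ℂ) * (Nat.card K : ℂ) := by
    rw [← Nat.cast_mul, Nat.cast_inj, Subgroup.card_eq_card_quotient_mul_card_subgroup
      (K.subgroupOf T), Nat.card_congr (Subgroup.subgroupOfEquivOfLe hKT).toEquiv]
  have hEsum : ∑ k : K, E (ξ k) * conj (E (ξ k)) = (Nat.card K : ℂ) := by
    have h1 := hfin ⟨fun _ => 1, Char.isIrrCharacter_one⟩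
    rw [show E * ((fun _ : R => (1 : ℂ)) ∘ π) = E from funext fun t => mul_one _,
      show coef ⟨fun _ => 1, Char.isIrrCharacter_one⟩ = (Nat.card R : ℂ)⁻¹ from by simp [coef],
      Cfsg.classInner] at h1
    rw [← hcoset fun t => E t * conj (E t)]
    have h2 : ∀ t : T, (if π t = π x' then E t * conj (E t) else 0) = f t * conj (E t) := fun t =>
      by simp only [f, ite_mul, zero_mul]
    rw [Finset.sum_congr rfl fun t _ => h2 t]
    rw [inv_mul_eq_iff_eq_mul₀ Char.card_ne_zero, hcardT] at h1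
    rw [h1]
    field_simp
  -- the pairing of an irreducible character with the coset
  let s : Cfsg.IrrCharacter G → ℂ := fun χ => ∑ k : K, E (ξ k) * conj ((χ : G → ℂ) (x * k))
  have hinner : ∀ χ : Cfsg.IrrCharacter G,
      Cfsg.classInner f (fun t : T => (χ : G → ℂ) t) = (Nat.card T : ℂ)⁻¹ * s χ := fun χ => by
    rw [Cfsg.classInner]
    congr 1
    show _ = ∑ k : K, E (ξ k) * conj ((χ : G → ℂ) (ξ k : G))
    rw [← hcoset fun t : T => E t * conj ((χ : G → ℂ) t)]
    exact Finset.sum_congr rfl fun t _ => by simp only [f, ite_mul, zero_mul]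
  have hexp : ∀ (χ : Cfsg.IrrCharacter G) (t : T), (χ : G → ℂ) t =
      ∑ ψ : Cfsg.IrrCharacter T,
        (Glauberman.mult T.subtype χ ψ : ℂ) * (ψ : T → ℂ) t := fun χ t =>
    Glauberman.comp_eq_sum T.subtype χ t
  have hoverT : ∀ (χ : Cfsg.IrrCharacter G) (ψ : Cfsg.IrrCharacter T),
      Glauberman.mult T.subtype χ ψ ≠ 0 → Over (Subgroup.inclusion hKT) (ψ : T → ℂ) (θ : K → ℂ) →
      Over K.subtype (χ : G → ℂ) (θ : K → ℂ) := fun χ ψ h1 h2 =>
    over_trans (jK := T.subtype) (fun _ => rfl) (Char.isCharacter_irr χ) ψ.2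
      (Char.isCharacter_irr θ) (over_iff.mpr (by
        rw [Glauberman.mult_spec]
        exact Nat.cast_ne_zero.mpr h1)) h2
  have hoverR : ∀ (χ : Cfsg.IrrCharacter G) (ψ : Cfsg.IrrCharacter T),
      Glauberman.mult T.subtype χ ψ ≠ 0 → Over K.subtype (χ : G → ℂ) (θ : K → ℂ) →
      ∃ γ : Cfsg.IrrCharacter R, (ψ : T → ℂ) = E * ((γ : R → ℂ) ∘ π) := by
    intro χ ψ h1 h2
    obtain ⟨θ', hθ'⟩ := exists_over (Subgroup.inclusion hKT) ψ.2
    have h3 : Over K.subtype (χ : G → ℂ) (θ' : K → ℂ) :=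
      over_trans (jK := T.subtype) (fun _ => rfl) (Char.isCharacter_irr χ) ψ.2
        (Char.isCharacter_irr θ') (over_iff.mpr (by
          rw [Glauberman.mult_spec]
          exact Nat.cast_ne_zero.mpr h1)) hθ'
    obtain ⟨g, hg⟩ := Clifford.exists_conj_of_constituent K χ.2 θ.2 θ'.2
      ((over_iff (j := K.subtype) (χ := (χ : G → ℂ))).mp h2)
      ((over_iff (j := K.subtype) (χ := (χ : G → ℂ))).mp h3)
    have e : (θ' : K → ℂ) = (θ : K → ℂ) := by
      rw [hg]
      funext k
      rw [Clifford.conjFun_apply]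
      exact (hinv g).2 k _ rfl
    refine Glauberman.exists_ext_mul hπ hker hE (subIrr hKT θ).2 hres ψ.2 ?_
    rw [e] at hθ'
    exact (over_iff (j := (K.subgroupOf T).subtype) (χ := (ψ : T → ℂ))).mp
      ((over_subIrr hKT θ (ψ : T → ℂ)).mpr hθ')
  -- away from `θ` the pairing vanishes
  have hs0 : ∀ χ : Cfsg.IrrCharacter G, ¬ Over K.subtype (χ : G → ℂ) (θ : K → ℂ) → s χ = 0 := by
    intro χ hχ
    have h1 : Cfsg.classInner f (fun t : T => (χ : G → ℂ) t) = 0 := by
      rw [show (fun t : T => (χ : G → ℂ) t) = ∑ ψ : Cfsg.IrrCharacter T,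
        (Glauberman.mult T.subtype χ ψ : ℂ) • (ψ : T → ℂ) from funext fun t => by
          rw [Finset.sum_apply, hexp]; rfl, Char.classInner_sum_right]
      refine Finset.sum_eq_zero fun ψ _ => ?_
      by_cases hm : Glauberman.mult T.subtype χ ψ = 0
      · rw [hm, Nat.cast_zero, zero_smul, Char.classInner_zero_right]
      · rw [Char.classInner_smul_right, hf, Char.classInner_sum_left]
        refine mul_eq_zero_of_right _ (Finset.sum_eq_zero fun β _ => ?_)
        rw [Char.classInner_smul_left, Char.classInner_irr_ne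
          (Glauberman.isIrr_ext_mul hπ hker hE (subIrr hKT θ).2 hres β) ψ.2, mul_zero]
        intro e
        refine hχ (hoverT χ ψ hm ((over_subIrr hKT θ (ψ : T → ℂ)).mp ?_))
        rw [over_iff, ← e]
        show Cfsg.classInner (fun n : K.subgroupOf T => (E * ((β : R → ℂ) ∘ π)) n) _ ≠ 0
        rw [Glauberman.classInner_ext_mul_restrict hπ hker hE (subIrr hKT θ).2 hres β]
        exact Char.IsIrrCharacter.apply_one_ne_zero β.2
    rw [hinner] at h1
    exact (mul_eq_zero.mp h1).resolve_left (inv_ne_zero Char.card_ne_zero)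
  have hs1 : ∀ χ : Cfsg.IrrCharacter G, Over K.subtype (χ : G → ℂ) (θ : K → ℂ) →
      s χ * conj (s χ) =
        (Nat.card K : ℂ) * ∑ k : K, (χ : G → ℂ) (x * k) * conj ((χ : G → ℂ) (x * k)) := by
    intro χ hχ
    have : Nonempty (Cfsg.IrrCharacter R) := ⟨⟨_, Char.isIrrCharacter_one⟩⟩
    choose! γ hγ using fun ψ hm => hoverR χ ψ hm hχ
    let c : ℂ := ∑ ψ : Cfsg.IrrCharacter T,
      (Glauberman.mult T.subtype χ ψ : ℂ) * (γ ψ : R → ℂ) (π x')
    have hprop : ∀ k : K, (χ : G → ℂ) (x * k) = c * E (ξ k) := fun k => by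
      rw [show x * (k : G) = ((ξ k : T) : G) from rfl, hexp, Finset.sum_mul]
      refine Finset.sum_congr rfl fun ψ _ => ?_
      by_cases hm : Glauberman.mult T.subtype χ ψ = 0
      · simp [hm]
      · rw [hγ ψ hm, Pi.mul_apply, Function.comp_apply, hπk (ξ k) k rfl]
        ring
    simp only [s, hprop, map_mul, map_sum, Complex.conj_conj]
    rw [show ∑ k : K, c * E (ξ k) * (conj c * conj (E (ξ k))) =
        c * conj c * ∑ k : K, E (ξ k) * conj (E (ξ k)) by
      rw [Finset.mul_sum]; exact Finset.sum_congr rfl fun k _ => by ring,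
      show ∑ k : K, E (ξ k) * (conj c * conj (E (ξ k))) =
        conj c * ∑ k : K, E (ξ k) * conj (E (ξ k)) by
      rw [Finset.mul_sum]; exact Finset.sum_congr rfl fun k _ => by ring,
      show ∑ k : K, conj (E (ξ k)) * (c * E (ξ k)) =
        c * ∑ k : K, E (ξ k) * conj (E (ξ k)) by
      rw [Finset.mul_sum]; exact Finset.sum_congr rfl fun k _ => by ring, hEsum]
    ring
  -- the conjugates of the extension
  let A : G → ℂ := fun g => ∑ y : commMod K x, Cfsg.extendByZero T E ((y : G) * g * (y : G)⁻¹)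
  have hmem : ∀ (y : commMod K x) (k : K), ∃ k' : K, (y : G) * (x * k) * (y : G)⁻¹ = x * k' :=
    fun y k => ⟨⟨x⁻¹ * ((y : G) * (x * k) * (y : G)⁻¹), by
      have h2 := mul_mem (mem_commMod.mp y.2) (hK.conj_mem _ (hK.conj_mem (k : G) k.2 (y : G)) x)
      have h3 := hK.conj_mem _ h2 x⁻¹
      simpa [mul_assoc] using h3⟩, (mul_inv_cancel_left x _).symm⟩
  have hA : ∀ k : K, A (x * k) =
      if Good K (θ : K → ℂ) x then (Nat.card (commMod K x) : ℂ) * E (ξ k) else 0 := by
    intro k
    have hy : ∀ y ∈ commMod K x, y ∈ Subgroup.normalizer (T : Set G) := fun y hy =>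
      mem_normalizer_sup_zpowers (hinv y).1 (mem_commMod.mp hy)
    have hfix : ∀ y ∈ commMod K x,
        ExtTo (T ⊔ Subgroup.zpowers y) (θ : K → ℂ) ↔ Cfsg.IsConjCharOf T y E E := fun y hy =>
      extTo_pair θ (hinv x) (hinv y) (mem_commMod.mp hy) rfl hE hEK
    split_ifs with hg
    · show ∑ y : commMod K x, _ = _
      rw [Finset.sum_congr rfl fun (y : commMod K x) _ => show
        Cfsg.extendByZero T E ((y : G) * (x * k) * (y : G)⁻¹) = E (ξ k) from ?_,
        Finset.sum_const, Finset.card_univ, nsmul_eq_mul, Nat.card_eq_fintype_card]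
      obtain ⟨k', hk'⟩ := hmem y k
      rw [hk', show x * (k' : G) = ((ξ k' : T) : G) from rfl, Char.extendByZero_coe]
      exact (hfix y y.2).mp (hg y y.2) (ξ k) (ξ k') hk'.symm
    · have : ∃ y ∈ commMod K x, ¬ Cfsg.IsConjCharOf T y E E := by
        by_contra hne
        push Not at hne
        exact hg fun y hy => (hfix y hy).mpr (hne y hy)
      obtain ⟨y₀, hy₀, hnot⟩ := this
      let e := conjOn T y₀ (hy y₀ hy₀)
      have hTn : T ≤ Subgroup.normalizer (K : Set G) := fun t _ => (hinv t).1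
      obtain ⟨μ, hμ, hμe⟩ := exists_twist hKT hTn θ hE
        (χ' := E ∘ e) (Char.IsIrrCharacter.comp_equiv hE e) hEK (fun m v hv => by
          have hm' := (Subgroup.mem_normalizer_iff.mp (hinv y₀).1 m).mp m.2
          show E (e v) = _
          rw [hEK ⟨_, hm'⟩ (e v) (by rw [conjOn_apply, hv])]
          exact (hinv y₀).2 m _ rfl)
      have hμx : μ x' ≠ 1 := by
        intro h1
        refine hnot fun v v' hv => ?_
        have h2 := hμe v
        have h3 : μ v = 1 := by
          obtain ⟨m, hm, i, hi⟩ := hcyc v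
          rw [show v = (⟨m, hKT hm⟩ : T) * x' ^ i from Subtype.ext (by simpa [x'] using hi),
            map_mul, map_zpow, h1, one_zpow, mul_one, hμ ⟨m, hKT hm⟩ hm]
        rw [h3, Units.val_one, one_mul] at h2
        rw [show v' = e v from Subtype.ext hv]
        exact h2
      have key : A (x * k) = (μ x' : ℂ) * A (x * k) := by
        conv_lhs =>
          simp only [A]
          rw [← Equiv.sum_comp (Equiv.mulLeft (⟨y₀, hy₀⟩ : commMod K x))]
        simp only [A, Finset.mul_sum]
        refine Finset.sum_congr rfl fun y _ => ?_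
        obtain ⟨k', hk'⟩ := hmem y k
        simp only [Equiv.coe_mulLeft, Subgroup.coe_mul]
        rw [show y₀ * (y : G) * (x * k) * (y₀ * (y : G))⁻¹ = y₀ * (x * k') * y₀⁻¹ by
          rw [← hk']; group]
        rw [hk', show x * (k' : G) = ((ξ k' : T) : G) from rfl, Char.extendByZero_coe,
          ← conjOn_apply T y₀ (hy y₀ hy₀), Char.extendByZero_coe]
        have h4 := hμe (ξ k')
        rw [show (E ∘ e) (ξ k') = E (e (ξ k')) from rfl] at h4
        rw [h4]
        congr 2
        rw [show ξ k' = x' * (⟨(k' : G), hKT k'.2⟩ : T) from Subtype.ext rfl, map_mul,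
          hμ ⟨(k' : G), hKT k'.2⟩ k'.2, mul_one]
      have : ((μ x' : ℂ) - 1) * A (x * k) = 0 := by rw [sub_mul, one_mul, ← key, sub_self]
      exact (mul_eq_zero.mp this).resolve_left fun h => hμx (Units.ext (sub_eq_zero.mp h))
  -- induction to `G`
  have hFval : ∀ k : K,
      Cfsg.indFun T f (x * k) = (Nat.card T : ℂ)⁻¹ * A (x * k) := by
    intro k
    rw [Char.indFun_def]
    congr 1
    rw [← Equiv.sum_comp (Equiv.inv G)]
    simp only [Equiv.inv_apply, inv_inv]
    show _ = ∑ y : commMod K x, _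
    rw [← Finset.sum_subtype (Finset.univ.filter (· ∈ commMod K x)) (fun y => by simp)
      (fun y : G => Cfsg.extendByZero T E (y * (x * k) * y⁻¹)), Finset.sum_filter]
    refine Finset.sum_congr rfl fun y _ => ?_
    by_cases hT : y * (x * k) * y⁻¹ ∈ T
    · rw [Char.extendByZero_apply_mem T f hT, Char.extendByZero_apply_mem T E hT]
      simp only [f]
      refine if_congr ?_ rfl rfl
      rw [hπiff, mem_commMod]
      show x⁻¹ * (y * (x * k) * y⁻¹) ∈ K ↔ _
      rw [show x⁻¹ * (y * (x * k) * y⁻¹) =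
        (x⁻¹ * (y * x * y⁻¹ * x⁻¹) * x) * (y * k * y⁻¹) by group,
        Subgroup.mul_mem_cancel_right _ (hK.conj_mem _ k.2 y)]
      exact ⟨fun h => by simpa [mul_assoc] using hK.conj_mem _ h x,
        fun h => by simpa [mul_assoc] using hK.conj_mem _ h x⁻¹⟩
    · rw [Char.extendByZero_apply_notMem T f hT, Char.extendByZero_apply_notMem T E hT, ite_self]
  have hsum : ∀ k : K, A (x * k) = ∑ χ : Cfsg.IrrCharacter G, s χ * (χ : G → ℂ) (x * k) := by
    intro k
    have h1 := congrFun (Char.IsClassFunction.eq_sum_irr (Char.indFun_isClassFunction T f)) (x * k)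
    rw [hFval, Finset.sum_apply] at h1
    have h2 : ∀ χ : Cfsg.IrrCharacter G, (Cfsg.classInner (Cfsg.indFun T f) (χ : G → ℂ) •
        (χ : G → ℂ)) (x * k) = (Nat.card T : ℂ)⁻¹ * (s χ * (χ : G → ℂ) (x * k)) := fun χ => by
      rw [Pi.smul_apply, smul_eq_mul,
        Char.classInner_indFun T f (Char.IsIrrCharacter.isClassFunction χ.2), hinner, mul_assoc]
    simp only [h2, ← Finset.mul_sum] at h1
    exact mul_left_cancel₀ (inv_ne_zero Char.card_ne_zero) h1
  have htot : ∑ k : K, A (x * k) * conj (E (ξ k)) =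
      ∑ χ : Cfsg.IrrCharacter G, s χ * conj (s χ) := by
    simp only [hsum, Finset.sum_mul]
    rw [Finset.sum_comm]
    refine Finset.sum_congr rfl fun χ _ => ?_
    simp only [s, map_sum, map_mul, Complex.conj_conj, Finset.mul_sum]
    exact Finset.sum_congr rfl fun k _ => by ring
  rw [← Finset.sum_filter_of_ne (p := fun χ : Cfsg.IrrCharacter G =>
    Over K.subtype (χ : G → ℂ) (θ : K → ℂ)) fun χ _ h => by
      by_contra hn
      exact h (by rw [hs0 χ hn, zero_mul])] at htot
  rw [Finset.sum_congr rfl fun χ hχ => hs1 χ (Finset.mem_filter.mp hχ).2, ← Finset.mul_sum] at htot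
  refine mul_left_cancel₀ (Char.card_ne_zero (G := K)) (htot.symm.trans ?_)
  simp only [hA]
  split_ifs
  · simp only [mul_assoc, ← Finset.mul_sum, hEsum]
    ring
  · simp

open Classical in
/-- **The number of characters over an invariant character.** -/
theorem num_eq_sum_good :
    num K.subtype (θ : K → ℂ) * (Nat.card G * Nat.card K) =
      ∑ x : G, if Good K (θ : K → ℂ) x then Nat.card (commMod K x) else 0 := by
  apply Nat.cast_injective (R := ℂ)
  push_cast
  rw [← Finset.sum_congr rfl fun x _ => coset_count θ hinv x, Finset.sum_comm]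
  have h : ∀ χ : Cfsg.IrrCharacter G,
      ∑ x : G, ∑ k : K, (χ : G → ℂ) (x * k) * conj ((χ : G → ℂ) (x * k)) =
        (Nat.card G : ℂ) * (Nat.card K : ℂ) := fun χ => by
    rw [Finset.sum_comm]
    have h1 : ∀ k : K, ∑ x : G, (χ : G → ℂ) (x * k) * conj ((χ : G → ℂ) (x * k)) =
        (Nat.card G : ℂ) := fun k => by
      refine (Equiv.sum_comp (Equiv.mulRight (k : G))
        fun y => (χ : G → ℂ) y * conj ((χ : G → ℂ) y)).trans ?_
      have := Char.classInner_irr_self χ.2
      rw [Cfsg.classInner, inv_mul_eq_iff_eq_mul₀ Char.card_ne_zero, mul_one] at this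
      exact this
    rw [Finset.sum_congr rfl fun k _ => h1 k, Finset.sum_const, Finset.card_univ, nsmul_eq_mul,
      ← Nat.card_eq_fintype_card, mul_comm]
  rw [Finset.sum_congr rfl fun χ _ => h χ, Finset.sum_const, nsmul_eq_mul, num,
    Nat.card_eq_fintype_card (α := {χ : Cfsg.IrrCharacter G // Over K.subtype (χ : G → ℂ) (θ : K → ℂ)}),
    Fintype.card_subtype]

end CfsgLib.CharDeep.RelMcKay
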