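import Cfsg.Agent.Lib.CharDeep.RelMcKay.Central
import Cfsg.Agent.Lib.CharDeep.Glauberman.Gallagher
import Cfsg.Agent.Lib.CharDeep.ProjExt
import Cfsg.Agent.Lib.Fusion.PSolvable

/-!
# Replacing an invariant character of a normal subgroup by a central linear character
-/

set_option autoImplicit false

open scoped ComplexConjugate

namespace CfsgLib.CharDeep.RelMcKay

open CfsgLib Module

/-- A character trivial on a kernel is inflated. -/
theorem exists_descend {T A : Type*} [Group T] [Finite T] [Group A] (π : T →* A)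
    (hπ : Function.Surjective π) {ψ : T → ℂ} (hψ : Cfsg.IsIrrCharacter T ψ)
    (h : ∀ d ∈ π.ker, ψ d = ψ 1) : ∃ χ : Cfsg.IrrCharacter A, ψ = (χ : A → ℂ) ∘ π := by
  obtain ⟨ψ', hψ', e⟩ := Char.IsIrrCharacter.exists_deflate hψ π.ker h
  let q := QuotientGroup.quotientKerEquivOfSurjective π hπ
  refine ⟨⟨ψ' ∘ q.symm, Char.IsIrrCharacter.comp_equiv hψ' q.symm⟩, ?_⟩
  rw [e]
  funext t
  show ψ' (QuotientGroup.mk' π.ker t) = ψ' (q.symm (π t))
  congr 1
  rw [eq_comm, MulEquiv.symm_apply_eq]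
  rfl

/-- Characters over `ν` against characters over a linear character of a central subgroup. -/
theorem count_triple {T A B L Z : Type*} [Group T] [Finite T] [Group A] [Finite A] [Group B]
    [Finite B] [Group L] [Finite L] [Group Z] [Finite Z] (p : ℕ) [Fact p.Prime]
    (π : T →* A) (hπ : Function.Surjective π) (σ : T →* B) (hσ : Function.Surjective σ)
    (i : L →* T) (hi : Function.Injective i) (hker : σ.ker = i.range) (j : L →* A)
    (hj : ∀ l, π (i l) = j l) (E : Cfsg.IrrCharacter T) (ν : Cfsg.IrrCharacter L)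
    (hE : ∀ l, (E : T → ℂ) (i l) = (ν : L → ℂ) l) (hν : ¬ p ∣ Cfsg.charDegree (ν : L → ℂ))
    (lam : π.ker →* ℂˣ)
    (hlam : ∀ (d : π.ker) (t : T), (E : T → ℂ) ((d : T) * t) = (lam d : ℂ) * (E : T → ℂ) t)
    (jZ : Z →* B) (hjZ : ∀ z b, b * jZ z = jZ z * b) (q : π.ker →* Z) (hq : Function.Surjective q)
    (hjq : ∀ d, jZ (q d) = σ d) (μ : Z →* ℂˣ) (hμ : ∀ d, μ (q d) = (lam d)⁻¹) :
    count p j (ν : L → ℂ) = count p jZ (fun z => (μ z : ℂ)) := by
  classical
  cases nonempty_fintype T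
  cases nonempty_fintype B
  cases nonempty_fintype L
  have hp : p.Prime := Fact.out
  cases nonempty_fintype i.range
  have : i.range.Normal := hker ▸ MonoidHom.normal_ker σ
  let e : L ≃* i.range := MonoidHom.ofInjective hi
  let θ : Cfsg.IrrCharacter i.range := irrEquiv e.symm ν
  have hres : ∀ n : i.range, (E : T → ℂ) n = (θ : i.range → ℂ) n := by
    intro n
    show _ = (ν : L → ℂ) (e.symm n)
    rw [← hE]
    exact congrArg _ (congrArg Subtype.val (e.apply_symm_apply n)).symm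
  have hover : ∀ ψ : T → ℂ, Over i.range.subtype ψ (θ : i.range → ℂ) ↔ Over i ψ (ν : L → ℂ) :=
    fun ψ => (over_congr (MulEquiv.refl T) e (fun _ => rfl)
      (fun l => (congrArg (ν : L → ℂ) (e.symm_apply_apply l)).symm) ψ).symm
  have hone : (θ : i.range → ℂ) 1 = (ν : L → ℂ) 1 := congrArg (ν : L → ℂ) (map_one e.symm)
  have hEdeg : (E : T → ℂ) 1 = (ν : L → ℂ) 1 := by rw [← hone, ← hres]; rfl
  let prodChar : Cfsg.IrrCharacter B → Cfsg.IrrCharacter T := fun β =>
    ⟨_, Glauberman.isIrr_ext_mul hσ hker E.2 θ.2 hres β⟩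
  have hval : ∀ β t, (prodChar β : T → ℂ) t = (E : T → ℂ) t * (β : B → ℂ) (σ t) := fun _ _ => rfl
  -- on the kernel of `π`
  have hdval : ∀ (β : Cfsg.IrrCharacter B) (c : Z →* ℂˣ),
      (∀ z, (β : B → ℂ) (jZ z) = (β : B → ℂ) 1 * (c z : ℂ)) → ∀ d : π.ker,
      (prodChar β : T → ℂ) d = (prodChar β : T → ℂ) 1 * ((lam d * c (q d) : ℂˣ) : ℂ) := by
    intro β c hc d
    rw [hval, hval, map_one σ, ← hjq, hc, Units.val_mul]
    have := hlam d 1
    rw [mul_one] at this
    rw [this]
    ring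
  have hdeg : ∀ (β : Cfsg.IrrCharacter B) (χ : Cfsg.IrrCharacter A),
      (prodChar β : T → ℂ) = (χ : A → ℂ) ∘ π →
      (¬ p ∣ Cfsg.charDegree (β : B → ℂ) ↔ ¬ p ∣ Cfsg.charDegree (χ : A → ℂ)) := by
    intro β χ he
    have h1 : Cfsg.charDegree (χ : A → ℂ) =
        Cfsg.charDegree (ν : L → ℂ) * Cfsg.charDegree (β : B → ℂ) := by
      apply Nat.cast_injective (R := ℂ)
      rw [Nat.cast_mul, DegreeTools.deg_cast, DegreeTools.deg_cast, DegreeTools.deg_cast,
        show (χ : A → ℂ) 1 = (prodChar β : T → ℂ) 1 by rw [he, Function.comp_apply, map_one],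
        hval, hEdeg, map_one]
    rw [h1, hp.dvd_mul]
    simp [hν]
  -- from `B` to `A`
  have hfwd : ∀ β : {β : Cfsg.IrrCharacter B // ¬ p ∣ Cfsg.charDegree (β : B → ℂ) ∧
      Over jZ (β : B → ℂ) (fun z => (μ z : ℂ))},
      ∃ χ : {χ : Cfsg.IrrCharacter A // ¬ p ∣ Cfsg.charDegree (χ : A → ℂ) ∧
        Over j (χ : A → ℂ) (ν : L → ℂ)}, (prodChar β.1 : T → ℂ) = (χ.1 : A → ℂ) ∘ π := by
    rintro ⟨β, hβp, hβ⟩
    obtain ⟨c, hc, hciff⟩ := exists_central_char hjZ β
    have hcμ := (hciff μ).mp hβ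
    obtain ⟨χ, hχ⟩ := exists_descend π hπ (prodChar β).2 fun d hd => by
      rw [hdval β c hc ⟨d, hd⟩, hcμ, hμ, mul_inv_cancel, Units.val_one, mul_one]
    refine ⟨⟨χ, (hdeg β χ hχ).mp hβp, ?_⟩, hχ⟩
    have h1 : Over i.range.subtype (prodChar β : T → ℂ) (θ : i.range → ℂ) := by
      rw [over_iff]
      show Cfsg.classInner (fun n : i.range => ((E : T → ℂ) * ((β : B → ℂ) ∘ σ)) n) _ ≠ 0
      rw [Glauberman.classInner_ext_mul_restrict hσ hker E.2 θ.2 hres β]
      exact Char.IsIrrCharacter.apply_one_ne_zero β.2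
    rw [hover] at h1
    unfold Over at h1 ⊢
    simpa only [hχ, Function.comp_apply, hj] using h1
  choose F hF using hfwd
  refine (Nat.card_congr (Equiv.ofBijective F ⟨fun a b h => ?_, fun χ => ?_⟩)).symm
  · refine Subtype.ext (Glauberman.ext_mul_injective hσ hker E.2 θ.2 hres ?_)
    show (prodChar a.1 : T → ℂ) = (prodChar b.1 : T → ℂ)
    rw [hF a, hF b, h]
  · have hψ : Cfsg.IsIrrCharacter T ((χ.1 : A → ℂ) ∘ π) :=
      Char.IsIrrCharacter.comp_surjective χ.1.2 π hπ
    have h1 : Over i.range.subtype ((χ.1 : A → ℂ) ∘ π) (θ : i.range → ℂ) := by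
      rw [hover]
      have h := χ.2.2
      unfold Over at h ⊢
      simpa only [Function.comp_apply, hj] using h
    obtain ⟨β, hβ⟩ := Glauberman.exists_ext_mul hσ hker E.2 θ.2 hres hψ
      ((over_iff (j := i.range.subtype) (χ := (χ.1 : A → ℂ) ∘ π)).mp h1)
    obtain ⟨c, hc, hciff⟩ := exists_central_char hjZ β
    have hβp := (hdeg β χ.1 hβ.symm).mpr χ.2.1
    have hcμ : c = μ := by
      ext z
      obtain ⟨d, rfl⟩ := hq z
      rw [hμ]
      have h2 := hdval β c hc d
      rw [show (prodChar β : T → ℂ) d = (prodChar β : T → ℂ) 1 by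
        rw [show (prodChar β : T → ℂ) = (χ.1 : A → ℂ) ∘ π from hβ.symm, Function.comp_apply,
          Function.comp_apply, MonoidHom.mem_ker.mp d.2, map_one]] at h2
      have h3 : lam d * c (q d) = 1 := Units.ext (mul_left_cancel₀
        (Char.IsIrrCharacter.apply_one_ne_zero (prodChar β).2) (h2.symm.trans (mul_one _).symm))
      rw [eq_inv_of_mul_eq_one_right h3]
    refine ⟨⟨β, hβp, (hciff μ).mpr hcμ⟩, Subtype.ext (Subtype.ext (funext fun a => ?_))⟩
    obtain ⟨t, rfl⟩ := hπ a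
    refine (congrFun (hF _) t).symm.trans ?_
    exact (congrFun hβ t).symm

section Cover

variable {G : Type*} [Group G] {N : Subgroup G} [N.Normal] {W : Type*} [AddCommGroup W]
  [Module ℂ W] [FiniteDimensional ℂ W] (ρ : Representation ℂ N W)

/-- The finite cover containing a copy of `N`. -/
noncomputable def tripleCover : Subgroup (G × (End ℂ W)ˣ) where
  carrier := {p | (∀ n : N, (p.2 : End ℂ W) * ρ n = ρ (MulAut.conjNormal p.1 n) * p.2) ∧
    LinearMap.det (p.2 : End ℂ W) ^ Nat.card N = 1}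
  one_mem' := ⟨fun n => by simp, by simp⟩
  mul_mem' := by
    rintro ⟨a, S⟩ ⟨b, T⟩ ⟨hS, hS'⟩ ⟨hT, hT'⟩
    refine ⟨fun n => ?_, by simp [mul_pow, hS', hT']⟩
    simp only [Prod.mk_mul_mk, Units.val_mul, map_mul, MulAut.mul_apply]
    rw [mul_assoc, hT n, ← mul_assoc, hS, mul_assoc]
  inv_mem' := by
    rintro ⟨a, S⟩ ⟨hS, hS'⟩
    refine ⟨fun n => ?_, ?_⟩
    · have h := hS (MulAut.conjNormal a⁻¹ n)
      rw [← MulAut.mul_apply, ← map_mul, mul_inv_cancel, map_one, MulAut.one_apply] at h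
      have h1 := Units.inv_mul_eq_iff_eq_mul S |>.2 h.symm
      simp only [Prod.inv_mk]
      rw [← h1]
      simp [mul_assoc]
    · have h : LinearMap.det ((S⁻¹ : (End ℂ W)ˣ) : End ℂ W) * LinearMap.det (S : End ℂ W) = 1 := by
        rw [← map_mul, Units.inv_mul, map_one]
      have h' := congrArg (· ^ Nat.card N) h
      simpa [mul_pow, hS'] using h'

end Cover

universe u

set_option maxHeartbeats 1000000 in
/-- **The reduction to a central linear character.** -/
theorem exists_triple {G : Type u} [Group G] [Finite G] (p : ℕ) [Fact p.Prime]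
    (hG : Cfsg.IsPSolvable p G) (L : Subgroup G) [L.Normal] (S : Sylow p G)
    (ν : Cfsg.IrrCharacter L) (hinv : ∀ g : G, g ∈ fixer L (ν : L → ℂ))
    (hν : ¬ p ∣ Cfsg.charDegree (ν : L → ℂ)) {N : Subgroup G}
    (hN : N = Subgroup.normalizer ((L ⊔ (S : Subgroup G) : Subgroup G) : Set G)) (hLN : L ≤ N) :
    ∃ (X : Type u) (_ : Group X) (_ : Finite X) (Z : Subgroup X) (S' : Sylow p X)
      (hZN : Z ≤ Subgroup.normalizer ((S' : Subgroup X) : Set X)) (μ : Z →* ℂˣ),
      Cfsg.IsPSolvable p X ∧ Z ≤ Subgroup.center X ∧ Z.index = L.index ∧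
      count p L.subtype (ν : L → ℂ) = count p Z.subtype (fun z => (μ z : ℂ)) ∧
      count p (Subgroup.inclusion hLN) (ν : L → ℂ) =
        count p (Subgroup.inclusion hZN) (fun z => (μ z : ℂ)) := by
  classical
  obtain ⟨n, ρ, hρ, hρc⟩ := id ν.2
  haveI := hρ
  let Γ := tripleCover ρ
  let π : Γ →* G := (MonoidHom.fst G _).comp Γ.subtype
  let lin : Γ →* (End ℂ (Fin n → ℂ))ˣ := (MonoidHom.snd G _).comp Γ.subtype
  have hlin : ∀ (γ : Γ) (m : L), (lin γ : End ℂ (Fin n → ℂ)) * ρ m =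
      ρ (MulAut.conjNormal (π γ) m) * lin γ := fun γ m => γ.2.1 m
  have hext : ∀ γ δ : Γ, π γ = π δ → lin γ = lin δ → γ = δ := fun γ δ h h' =>
    Subtype.ext (Prod.ext h h')
  have hW : Nontrivial (Fin n → ℂ) := IrrTools.apply_ne_zero_of_isIrreducible ρ
  have hπ : Function.Surjective π := fun g => by
    obtain ⟨γ, hγ⟩ := ProjExt.exists_lift ρ g fun m => by
      rw [hρc]
      exact (hinv g).2 m _ (by simp)
    exact ⟨⟨γ.1, γ.2.1, by rw [γ.2.2, one_pow]⟩, hγ⟩
  -- scalars over the identity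
  have hscal : ∀ γ : π.ker, ∃ c : ℂ, (lin γ.1 : End ℂ (Fin n → ℂ)) = c • 1 := fun γ => by
    obtain ⟨c, hc⟩ := IrrTools.exists_smul_of_commute ρ (lin γ.1 : End ℂ (Fin n → ℂ)) fun m => by
      rw [hlin γ.1 m, MonoidHom.mem_ker.mp γ.2, map_one, MulAut.one_apply]
    exact ⟨c, hc⟩
  choose c hc using hscal
  have hd : finrank ℂ (Fin n → ℂ) ≠ 0 := (finrank_pos (R := ℂ) (M := Fin n → ℂ)).ne'
  have hone_ne : (1 : End ℂ (Fin n → ℂ)) ≠ 0 := one_ne_zero
  have hΓfin : Finite Γ := by
    have hm : finrank ℂ (Fin n → ℂ) * Nat.card L ≠ 0 := Nat.mul_ne_zero hd Nat.card_pos.ne'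
    have hroots : Finite {z : ℂ // z ^ (finrank ℂ (Fin n → ℂ) * Nat.card L) = 1} :=
      ((Polynomial.X ^ (finrank ℂ (Fin n → ℂ) * Nat.card L) -
        Polynomial.C (1 : ℂ)).roots.toFinset.finite_toSet.subset fun z hz => by
          simp only [Finset.mem_coe, Multiset.mem_toFinset]
          rw [Polynomial.mem_roots (Polynomial.X_pow_sub_C_ne_zero (Nat.pos_of_ne_zero hm) 1)]
          rw [Polynomial.IsRoot, Polynomial.eval_sub, Polynomial.eval_pow, Polynomial.eval_X,
            Polynomial.eval_C, sub_eq_zero]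
          exact hz).to_subtype
    have hroot : ∀ γ, c γ ^ (finrank ℂ (Fin n → ℂ) * Nat.card L) = 1 := fun γ => by
      have h : LinearMap.det (lin γ.1 : End ℂ (Fin n → ℂ)) ^ Nat.card L = 1 := γ.1.2.2
      rw [hc, LinearMap.det_smul, map_one, mul_one, ← pow_mul] at h
      exact h
    have hk : Finite π.ker := Finite.of_injective
      (fun γ => (⟨c γ, hroot γ⟩ : {z : ℂ // z ^ (finrank ℂ (Fin n → ℂ) * Nat.card L) = 1}))
      fun a b h => Subtype.ext (hext _ _ ((MonoidHom.mem_ker.mp a.2).trans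
        (MonoidHom.mem_ker.mp b.2).symm) (Units.ext (by rw [hc, hc, show c a = c b from congrArg Subtype.val h])))
    have : Finite (Γ ⧸ π.ker) :=
      Finite.of_equiv _ (QuotientGroup.quotientKerEquivRange π).toEquiv.symm
    exact Finite.of_equiv _ (Subgroup.groupEquivQuotientProdSubgroup (s := π.ker)).symm
  cases nonempty_fintype Γ
  cases nonempty_fintype L
  -- the copy of `L`
  let i : L →* Γ :=
    { toFun := fun l => ⟨((l : G), MonoidHom.toHomUnits ρ l),
        fun m => by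
          show ρ l * ρ m = ρ (MulAut.conjNormal (l : G) m) * ρ l
          rw [← map_mul, ← map_mul]
          congr 1
          exact Subtype.ext (by simp),
        by
          show LinearMap.det (ρ l) ^ Nat.card L = 1
          rw [← map_pow, ← map_pow, pow_card_eq_one', map_one, map_one]⟩
      map_one' := Subtype.ext (Prod.ext rfl (map_one _))
      map_mul' := fun a b => Subtype.ext (Prod.ext rfl (map_mul _ a b)) }
  have hπi : ∀ l, π (i l) = (l : G) := fun _ => rfl
  have hi : Function.Injective i := fun a b h => Subtype.ext (congrArg π h)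
  have hL0 : i.range.Normal := ⟨by
    rintro _ ⟨l, rfl⟩ γ
    refine ⟨MulAut.conjNormal (π γ) l, hext _ _ ?_ (Units.ext ?_)⟩
    · simp [hπi]
    · rw [map_mul, map_mul, map_inv]
      show ρ (MulAut.conjNormal (π γ) l) = _
      rw [Units.val_mul, Units.val_mul]
      show _ = (lin γ : End ℂ (Fin n → ℂ)) * ρ l * ((lin γ)⁻¹ : (End ℂ (Fin n → ℂ))ˣ)
      rw [hlin, mul_assoc, Units.mul_inv, mul_one]⟩
  -- the extension of `ν`
  let R : Representation ℂ Γ (Fin n → ℂ) := (Units.coeHom (End ℂ (Fin n → ℂ))).comp lin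
  have hRi : ∀ l, R.character (i l) = (ν : L → ℂ) l := fun l => congrFun hρc l
  have hRirr : Cfsg.IsIrrCharacter Γ R.character :=
    Relative.irr_of_comp_irr i (Char.isCharacter_of_rep R) (by
      rw [show R.character ∘ i = (ν : L → ℂ) from funext hRi]; exact ν.2)
  -- the kernel of `π` is central
  have hcentral : ∀ (d : π.ker) (γ : Γ), γ * (d : Γ) = (d : Γ) * γ := fun d γ => by
    refine hext _ _ (by rw [map_mul, map_mul, MonoidHom.mem_ker.mp d.2, mul_one, one_mul])
      (Units.ext ?_)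
    rw [map_mul, map_mul, Units.val_mul, Units.val_mul, hc, mul_smul_comm, smul_mul_assoc, mul_one,
      one_mul]
  have hcne : ∀ d, c d ≠ 0 := fun d h0 => (lin d.1).ne_zero (by rw [hc, h0, zero_smul])
  let lam : π.ker →* ℂˣ := MonoidHom.mk' (fun d => Units.mk0 (c d) (hcne d)) fun a b => by
    refine Units.ext (smul_left_injective ℂ hone_ne ?_)
    show c (a * b) • (1 : End ℂ (Fin n → ℂ)) = (c a * c b) • 1
    rw [← hc, Subgroup.coe_mul, map_mul, Units.val_mul, hc, hc, smul_mul_smul_comm, one_mul]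
  have hlam : ∀ (d : π.ker) (t : Γ), R.character ((d : Γ) * t) = (lam d : ℂ) * R.character t :=
    fun d t => by
      show LinearMap.trace ℂ _ (lin ((d : Γ) * t) : End ℂ (Fin n → ℂ)) =
        c d * LinearMap.trace ℂ _ (lin t : End ℂ (Fin n → ℂ))
      rw [map_mul, Units.val_mul, hc, smul_mul_assoc, one_mul, map_smul, smul_eq_mul]
  let σ : Γ →* Γ ⧸ i.range := QuotientGroup.mk' _
  have hσ : Function.Surjective σ := QuotientGroup.mk'_surjective _
  have hσker : σ.ker = i.range := QuotientGroup.ker_mk' _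
  let Z : Subgroup (Γ ⧸ i.range) := π.ker.map σ
  have hZc : Z ≤ Subgroup.center (Γ ⧸ i.range) := by
    rintro _ ⟨d, hd, rfl⟩
    refine Subgroup.mem_center_iff.mpr fun b => ?_
    obtain ⟨t, rfl⟩ := hσ b
    rw [← map_mul, ← map_mul, hcentral ⟨d, hd⟩]
  have hinj : Function.Injective (σ.subgroupMap π.ker) := fun a b h => by
    have h1 : σ ((a⁻¹ * b : π.ker) : Γ) = 1 := by
      have h0 : σ (a : Γ) = σ (b : Γ) := congrArg Subtype.val h
      rw [Subgroup.coe_mul, Subgroup.coe_inv, map_mul, map_inv, h0, inv_mul_cancel]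
    rw [← MonoidHom.mem_ker, hσker] at h1
    obtain ⟨l, hl⟩ := h1
    have hl1 : l = 1 := Subtype.ext (by
      rw [← hπi l, hl, MonoidHom.mem_ker.mp (a⁻¹ * b).2]; rfl)
    rw [hl1, map_one] at hl
    exact inv_mul_eq_one.mp (Subtype.ext hl.symm)
  let e : π.ker ≃* Z := MulEquiv.ofBijective (σ.subgroupMap π.ker)
    ⟨hinj, MonoidHom.subgroupMap_surjective σ π.ker⟩
  let μ : Z →* ℂˣ := (invMonoidHom.comp lam).comp e.symm.toMonoidHom
  have hμ : ∀ d, μ (e d) = (lam d)⁻¹ := fun d => by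
    show (lam (e.symm (e d)))⁻¹ = _
    rw [e.symm_apply_apply]
  -- the Sylow subgroups and the normalizers
  obtain ⟨P, hP⟩ := Sylow.mapSurjective_surjective hπ p S
  have hP' : (P : Subgroup Γ).map π = (S : Subgroup G) := by
    rw [← hP]; rfl
  let S' : Sylow p (Γ ⧸ i.range) := P.mapSurjective hσ
  have hS' : ((S' : Subgroup (Γ ⧸ i.range))) = (P : Subgroup Γ).map σ := rfl
  have hirange : i.range.map π = L := by
    rw [← MonoidHom.range_comp]
    exact (show π.comp i = L.subtype from MonoidHom.ext fun l => rfl) ▸ L.range_subtype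
  have hcomapL : L.comap π = i.range ⊔ π.ker := by
    conv_lhs => rw [← hirange]
    rw [Subgroup.comap_map_eq]
  have hcomapZ : Z.comap σ = i.range ⊔ π.ker := by
    rw [Subgroup.comap_map_eq, hσker, sup_comm]
  have hidx : Z.index = L.index := by
    rw [← Subgroup.index_comap_of_surjective _ hσ, hcomapZ, ← hcomapL,
      Subgroup.index_comap_of_surjective _ hπ]
  have hcomapLS : (L ⊔ (S : Subgroup G)).comap π = i.range ⊔ (P : Subgroup Γ) ⊔ π.ker := by
    conv_lhs => rw [← hirange, ← hP', ← Subgroup.map_sup]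
    rw [Subgroup.comap_map_eq]
  have hcomapZS : (Z ⊔ (S' : Subgroup (Γ ⧸ i.range))).comap σ =
      i.range ⊔ (P : Subgroup Γ) ⊔ π.ker := by
    rw [hS', ← Subgroup.map_sup, Subgroup.comap_map_eq, hσker]
    ac_rfl
  have hSnorm : Subgroup.normalizer ((Z ⊔ (S' : Subgroup (Γ ⧸ i.range)) :
      Subgroup (Γ ⧸ i.range)) : Set (Γ ⧸ i.range)) =
      Subgroup.normalizer ((S' : Subgroup (Γ ⧸ i.range)) : Set (Γ ⧸ i.range)) := by
    have hSn : Z ⊔ (S' : Subgroup (Γ ⧸ i.range)) ≤
        Subgroup.normalizer ((S' : Subgroup (Γ ⧸ i.range)) : Set (Γ ⧸ i.range)) :=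
      sup_le (hZc.trans (Subgroup.center_le_normalizer _)) Subgroup.le_normalizer
    apply le_antisymm
    · intro g hg
      refine mem_normalizer_of_conj fun x hx => ?_
      let M := (S' : Subgroup (Γ ⧸ i.range)).map (MulAut.conj g).toMonoidHom
      have hMle : M ≤ Z ⊔ (S' : Subgroup (Γ ⧸ i.range)) := by
        rintro _ ⟨y, hy, rfl⟩
        exact (Subgroup.mem_normalizer_iff.mp hg y).mp (Subgroup.mem_sup_right hy)
      have hsup : IsPGroup p ↥((S' : Subgroup (Γ ⧸ i.range)) ⊔ M) :=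
        IsPGroup.to_sup_of_normal_left' S'.isPGroup' (S'.isPGroup'.map _) (hMle.trans hSn)
      have := S'.is_maximal' hsup le_sup_left
      exact this.le (Subgroup.mem_sup_right ⟨x, hx, rfl⟩)
    · intro g hg
      refine mem_normalizer_of_conj fun x hx => ?_
      have hZn : Z.Normal := ⟨fun m hm g => by
        rw [Subgroup.mem_center_iff.mp (hZc hm) g, mul_inv_cancel_right]
        exact hm⟩
      obtain ⟨z, hz, y, hy, rfl⟩ := Subgroup.mem_sup_of_normal_left.mp hx
      rw [show g * (z * y) * g⁻¹ = (g * z * g⁻¹) * (g * y * g⁻¹) by group,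
        Subgroup.mem_center_iff.mp (hZc hz) g, mul_inv_cancel_right]
      exact Subgroup.mul_mem_sup hz ((Subgroup.mem_normalizer_iff.mp hg y).mp hy)
  let NX := Subgroup.normalizer ((S' : Subgroup (Γ ⧸ i.range)) : Set (Γ ⧸ i.range))
  have hZNX : Z ≤ NX := hZc.trans (Subgroup.center_le_normalizer _)
  have hNN : NX.comap σ = N.comap π := by
    show (Subgroup.normalizer ((S' : Subgroup (Γ ⧸ i.range)) : Set (Γ ⧸ i.range))).comap σ = _
    rw [← hSnorm, Subgroup.comap_normalizer_eq_of_surjective _ hσ, hN,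
      Subgroup.comap_normalizer_eq_of_surjective _ hπ, hcomapZS, hcomapLS]
  have hcore : count p L.subtype (ν : L → ℂ) = count p Z.subtype (fun z => (μ z : ℂ)) :=
    count_triple p π hπ σ hσ i hi hσker L.subtype hπi ⟨R.character, hRirr⟩ ν hRi hν lam hlam
      Z.subtype (fun z b => Subgroup.mem_center_iff.mp (hZc z.2) b) e.toMonoidHom e.surjective
      (fun d => rfl) μ hμ
  -- the normalizers
  let T : Subgroup Γ := N.comap π
  let πT : T →* N := π.subgroupComap N
  have hπT : Function.Surjective πT := fun g => by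
    obtain ⟨t, ht⟩ := hπ (g : G)
    exact ⟨⟨t, by show π t ∈ N; rw [ht]; exact g.2⟩, Subtype.ext ht⟩
  let σT : T →* NX := (σ.comp T.subtype).codRestrict NX fun t => hNN.ge t.2
  have hσT : Function.Surjective σT := fun g => by
    obtain ⟨t, ht⟩ := hσ (g : Γ ⧸ i.range)
    exact ⟨⟨t, hNN.le (by show σ t ∈ NX; rw [ht]; exact g.2)⟩, Subtype.ext ht⟩
  let iT : L →* T := i.codRestrict T fun l => by show π (i l) ∈ N; rw [hπi]; exact hLN l.2
  have hiT : Function.Injective iT := fun a b h => hi (congrArg Subtype.val h)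
  have hkerT : σT.ker = iT.range := by
    ext t
    rw [MonoidHom.mem_ker, ← Subtype.coe_inj, MonoidHom.mem_range]
    show σ (t : Γ) = 1 ↔ _
    rw [← MonoidHom.mem_ker, hσker, MonoidHom.mem_range]
    exact exists_congr fun l => ⟨fun h => Subtype.ext h, fun h => congrArg Subtype.val h⟩
  let RT : Cfsg.IrrCharacter T := ⟨fun t => R.character t,
    Relative.irr_of_comp_irr iT (Char.IsCharacter.restrict (Char.isCharacter_of_rep R) T) (by
      rw [show (fun t : T => R.character t) ∘ iT = (ν : L → ℂ) from funext hRi]; exact ν.2)⟩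
  let qT : πT.ker →* π.ker := (T.subtype.comp πT.ker.subtype).codRestrict π.ker fun d =>
    congrArg Subtype.val (MonoidHom.mem_ker.mp d.2)
  have hqT : Function.Surjective qT := fun d => by
    have hdT : (d : Γ) ∈ T := by
      show π (d : Γ) ∈ N
      rw [MonoidHom.mem_ker.mp d.2]; exact one_mem N
    exact ⟨⟨⟨d, hdT⟩, MonoidHom.mem_ker.mpr (Subtype.ext (MonoidHom.mem_ker.mp d.2))⟩,
      Subtype.ext rfl⟩
  refine ⟨Γ ⧸ i.range, inferInstance, inferInstance, Z, S', hZNX, μ, ?_, hZc, hidx, hcore,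
    count_triple p πT hπT σT hσT iT hiT hkerT (Subgroup.inclusion hLN)
      (fun l => Subtype.ext (hπi l)) RT ν hRi hν (lam.comp qT)
      (fun d t => hlam (qT d) t) (Subgroup.inclusion hZNX)
      (fun z b => Subtype.ext (Subgroup.mem_center_iff.mp (hZc z.2) b))
      (e.toMonoidHom.comp qT) (e.surjective.comp hqT) (fun d => Subtype.ext rfl) μ
      (fun d => hμ (qT d))⟩
  -- `p`-solvability
  refine Fusion.PSolvable.psolvable_quotient ?_ i.range
  have hkc : Group.IsSolvable π.ker :=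
    Group.isSolvable_of_comm fun a b => Subtype.ext (hcentral b a)
  refine Fusion.PSolvable.psolvable_of_normal π.ker Fusion.PSolvable.psolvable_of_solvable ?_
  exact (Fusion.PSolvable.psolvable_congr
    (QuotientGroup.quotientKerEquivOfSurjective π hπ).symm).mp hG

end CfsgLib.CharDeep.RelMcKay
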