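import Cfsg.Agent.Lib.CharDeep.RelMcKay.Core
import Cfsg.Agent.Lib.CharDeep.RelMcKay.Triple

/-!
# The relative count of characters of degree prime to `p` in a `p`-solvable group
-/

set_option autoImplicit false

open scoped ComplexConjugate Pointwise

namespace CfsgLib.CharDeep.RelMcKay

open CfsgLib

universe u

/-- The relative count below index `n`. -/
def RelCount (p : ℕ) [Fact p.Prime] (n : ℕ) : Prop :=
  ∀ (G : Type u) [Group G] [Finite G], Cfsg.IsPSolvable p G → ∀ (L : Subgroup G) [L.Normal]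
    (S : Sylow p G) (N : Subgroup G)
    (_hN : N = Subgroup.normalizer ((L ⊔ (S : Subgroup G) : Subgroup G) : Set G)) (hLN : L ≤ N)
    (ν : Cfsg.IrrCharacter L), (S : Subgroup G) ≤ fixer L (ν : L → ℂ) → L.index < n →
    count p L.subtype (ν : L → ℂ) = count p (Subgroup.inclusion hLN) (ν : L → ℂ)

variable {p : ℕ} [Fact p.Prime]

/-- The inductive hypothesis inside a subgroup containing `L S`. -/
theorem RelCount.inside {n : ℕ} (ih : RelCount.{u} p n) {G : Type u} [Group G] [Finite G]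
    (hG : Cfsg.IsPSolvable p G) {L T N : Subgroup G} [L.Normal] (S : Sylow p G) (hLT : L ≤ T)
    (hST : (S : Subgroup G) ≤ T)
    (hN : N = Subgroup.normalizer ((L ⊔ (S : Subgroup G) : Subgroup G) : Set G))
    (hLTN : L ≤ T ⊓ N) (ν : Cfsg.IrrCharacter L) (hS : (S : Subgroup G) ≤ fixer L (ν : L → ℂ))
    (hidx : L.relIndex T < n) :
    count p (Subgroup.inclusion hLT) (ν : L → ℂ) =
      count p (Subgroup.inclusion hLTN) (ν : L → ℂ) := by
  have : (L.subgroupOf T).Normal := Subgroup.Normal.subgroupOf inferInstance T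
  let S' : Sylow p T := S.subtype hST
  have hLN' : L.subgroupOf T ≤ N.subgroupOf T := fun x hx => (hLTN hx).2
  have hS' : (S' : Subgroup T) ≤ fixer (L.subgroupOf T) (subIrr hLT ν : L.subgroupOf T → ℂ) := by
    intro s hs
    refine ⟨by rw [Subgroup.normalizer_eq_top]; exact Subgroup.mem_top s, fun k k' e => ?_⟩
    exact (hS (show (s : G) ∈ (S : Subgroup G) from hs)).2 ⟨_, Subgroup.mem_subgroupOf.mp k.2⟩
      ⟨_, Subgroup.mem_subgroupOf.mp k'.2⟩ (congrArg Subtype.val e)
  have hN' : N.subgroupOf T =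
      Subgroup.normalizer ((L.subgroupOf T ⊔ (S' : Subgroup T) : Subgroup T) : Set T) := by
    rw [hN, show (S' : Subgroup T) = (S : Subgroup G).subgroupOf T from rfl,
      ← Subgroup.subgroupOf_sup hLT hST]
    exact Subgroup.comap_normalizer_eq_of_le_range
      ((sup_le hLT hST).trans_eq T.range_subtype.symm)
  rw [← count_subIrr p hLT ν, ih T (Fusion.PSolvable.psolvable_subgroup hG T) (L.subgroupOf T) S'
    (N.subgroupOf T) hN' hLN' (subIrr hLT ν) hS' hidx]
  let e : N.subgroupOf T ≃* ↥(T ⊓ N) :=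
    { toFun := fun x => ⟨((x : T) : G), (x : T).2, Subgroup.mem_subgroupOf.mp x.2⟩
      invFun := fun x => ⟨⟨(x : G), x.2.1⟩, x.2.2⟩
      left_inv := fun _ => rfl
      right_inv := fun _ => rfl
      map_mul' := fun _ _ => rfl }
  exact count_congr p e (Subgroup.subgroupOfEquivOfLe hLT) (fun _ => Subtype.ext rfl) (fun _ => rfl)

/-- The partition of the characters over a central linear character by their constituents on a
normal subgroup fixed by `S`. -/
theorem sum_fixed_constituents {X : Type u} [Group X] [Finite X] (S : Sylow p X)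
    {K Z Y : Subgroup X} [K.Normal] (hZ : Z ≤ Subgroup.center X) (hZK : Z ≤ K) (hKY : K ≤ Y)
    {N : Subgroup X} (hN : N = Subgroup.normalizer ((S : Subgroup X) : Set X)) (hNY : N ≤ Y)
    (μ : Z →* ℂˣ) [Fintype {θ : Cfsg.IrrCharacter K // ¬ p ∣ Cfsg.charDegree (θ : K → ℂ) ∧
        Over (Subgroup.inclusion hZK) (θ : K → ℂ) (fun z => (μ z : ℂ)) ∧
        (S : Subgroup X) ≤ fixer K (θ : K → ℂ)}] :
    ∑ θ : {θ : Cfsg.IrrCharacter K // ¬ p ∣ Cfsg.charDegree (θ : K → ℂ) ∧
        Over (Subgroup.inclusion hZK) (θ : K → ℂ) (fun z => (μ z : ℂ)) ∧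
        (S : Subgroup X) ≤ fixer K (θ : K → ℂ)},
      Nat.card {g : N // (g : X) ∈ fixer K (θ.1 : K → ℂ)} *
        count p (Subgroup.inclusion hKY) (θ.1 : K → ℂ) =
      Nat.card N * count p (Subgroup.inclusion (hZK.trans hKY)) (fun z => (μ z : ℂ)) := by
  classical
  cases nonempty_fintype X
  have hp : p.Prime := Fact.out
  have hKn : ∀ g : X, g ∈ Subgroup.normalizer (K : Set X) := fun g =>
    Subgroup.normalizer_eq_top (H := K) ▸ Subgroup.mem_top g
  have hKN : N ≤ Subgroup.normalizer (K : Set X) := fun g _ => hKn g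
  have hSY : (S : Subgroup X) ≤ Y := (Subgroup.le_normalizer.trans hN.ge).trans hNY
  let μ' : Cfsg.IrrCharacter Z := ⟨fun z => (μ z : ℂ), Char.isIrrCharacter_hom μ⟩
  let Θ := {θ : Cfsg.IrrCharacter K // ¬ p ∣ Cfsg.charDegree (θ : K → ℂ) ∧
        Over (Subgroup.inclusion hZK) (θ : K → ℂ) (fun z => (μ z : ℂ)) ∧
        (S : Subgroup X) ≤ fixer K (θ : K → ℂ)}
  have hconj : ∀ (g : X) (θ : Cfsg.IrrCharacter K), ¬ p ∣ Cfsg.charDegree (θ : K → ℂ) →
      Over (Subgroup.inclusion hZK) (θ : K → ℂ) (fun z => (μ z : ℂ)) →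
      (∀ s ∈ (S : Subgroup X), g * s * g⁻¹ ∈ fixer K (θ : K → ℂ)) →
      ¬ p ∣ Cfsg.charDegree (conjIrrOn K g (hKn g) θ : K → ℂ) ∧
      Over (Subgroup.inclusion hZK) (conjIrrOn K g (hKn g) θ : K → ℂ) (fun z => (μ z : ℂ)) ∧
      (S : Subgroup X) ≤ fixer K (conjIrrOn K g (hKn g) θ : K → ℂ) := by
    intro g θ h1 h2 h3
    refine ⟨by rwa [deg_conjIrrOn], (over_conjIrrOn hZ hZK g (hKn g) θ _).mpr h2,
      fun s hs => ⟨hKn s, fun k k' e => ?_⟩⟩
    show (θ : K → ℂ) (conjOn K g (hKn g) k') = (θ : K → ℂ) (conjOn K g (hKn g) k)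
    refine (h3 s hs).2 _ _ ?_
    rw [conjOn_apply, conjOn_apply, e]
    group
  have hA : ∀ (n : N) (θ : Cfsg.IrrCharacter K), (¬ p ∣ Cfsg.charDegree (θ : K → ℂ) ∧
      Over (Subgroup.inclusion hZK) (θ : K → ℂ) (fun z => (μ z : ℂ)) ∧
      (S : Subgroup X) ≤ fixer K (θ : K → ℂ)) →
      (¬ p ∣ Cfsg.charDegree (nAct hKN n θ : K → ℂ) ∧
      Over (Subgroup.inclusion hZK) (nAct hKN n θ : K → ℂ) (fun z => (μ z : ℂ)) ∧
      (S : Subgroup X) ≤ fixer K (nAct hKN n θ : K → ℂ)) := fun n θ h => by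
    rw [nAct_eq]
    exact hconj _ θ h.1 h.2.1 fun s hs =>
      h.2.2 ((Subgroup.mem_normalizer_iff.mp (inv_mem (hN.le n.2)) s).mp hs)
  let act : N →* Equiv.Perm Θ :=
    { toFun := fun n => (nAct hKN n).subtypeEquiv fun θ => ⟨hA n θ, fun h => by
        have h' := hA n⁻¹ _ h
        rwa [map_inv, Equiv.Perm.inv_def, Equiv.symm_apply_apply] at h'⟩
      map_one' := Equiv.ext fun a => Subtype.ext (by
        show nAct hKN 1 a.1 = a.1
        rw [map_one]; rfl)
      map_mul' := fun m n => Equiv.ext fun a => Subtype.ext (by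
        show nAct hKN (m * n) a.1 = nAct hKN m (nAct hKN n a.1)
        rw [map_mul]; rfl) }
  have hstab : ∀ θ : Θ, Nat.card {g : N // (g : X) ∈ fixer K (θ.1 : K → ℂ)} =
      Nat.card {g : N // act g θ = θ} := fun θ => Nat.card_congr (Equiv.subtypeEquivRight fun g => by
    rw [Subtype.ext_iff]
    show _ ↔ nAct hKN g θ.1 = θ.1
    rw [nAct_eq, conjIrrOn_eq_iff]
    exact inv_mem_iff.symm)
  have : (K.subgroupOf Y).Normal := Subgroup.Normal.subgroupOf inferInstance Y
  let C := {χ : Cfsg.IrrCharacter Y // ¬ p ∣ Cfsg.charDegree (χ : Y → ℂ) ∧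
    Over (Subgroup.inclusion (hZK.trans hKY)) (χ : Y → ℂ) (fun z => (μ z : ℂ))}
  have hmove : ∀ (g : Y) (χ : Cfsg.IrrCharacter Y) (θ : Cfsg.IrrCharacter K),
      Over (Subgroup.inclusion hKY) (χ : Y → ℂ) (θ : K → ℂ) →
      Over (Subgroup.inclusion hKY) (χ : Y → ℂ) (conjIrrOn K (g : X) (hKn g) θ : K → ℂ) := by
    intro g χ θ h
    have h1 := (over_congr (j := Subgroup.inclusion hKY) (j' := Subgroup.inclusion hKY)
      (MulAut.conj g) (conjOn K (g : X) (hKn g)) (fun _ => Subtype.ext rfl)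
      (ν := (conjIrrOn K (g : X) (hKn g) θ : K → ℂ)) (fun _ => rfl) (χ : Y → ℂ)).mpr h
    rwa [show (χ : Y → ℂ) ∘ MulAut.conj g = (χ : Y → ℂ) from funext fun x =>
      Char.IsIrrCharacter.isClassFunction χ.2 x _] at h1
  have hcnt : ∀ θ : Θ,
      Nat.card {c : C // Over (Subgroup.inclusion hKY) (c.1 : Y → ℂ) (θ.1 : K → ℂ)} =
      count p (Subgroup.inclusion hKY) (θ.1 : K → ℂ) := fun θ => Nat.card_congr
    { toFun := fun c => ⟨c.1.1, c.1.2.1, c.2⟩
      invFun := fun c => ⟨⟨c.1, c.2.1, over_trans (jK := Subgroup.inclusion hKY) (fun _ => rfl)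
        (Char.isCharacter_irr c.1) θ.1.2 (Char.isCharacter_irr μ') c.2.2 θ.2.2.1⟩, c.2.2⟩
      left_inv := fun _ => rfl
      right_inv := fun _ => rfl }
  have hpart := partition act
    (fun (c : C) (θ : Θ) => Over (Subgroup.inclusion hKY) (c.1 : Y → ℂ) (θ.1 : K → ℂ))
    (fun n c θ h => by
      show Over (Subgroup.inclusion hKY) (c.1 : Y → ℂ) (nAct hKN n θ.1 : K → ℂ)
      rw [nAct_eq]
      exact hmove ⟨(n : X)⁻¹, inv_mem (hNY n.2)⟩ c.1 θ.1 h)
    (fun c => by
      obtain ⟨ψ, h1, h2⟩ := exists_middle (jK := Subgroup.inclusion hKY)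
        (i := Subgroup.inclusion hZK) (j := Subgroup.inclusion (hZK.trans hKY)) (fun _ => rfl)
        (Char.isCharacter_irr c.1) c.2.2
      have h1' := (over_subIrr hKY ψ (c.1 : Y → ℂ)).mpr h1
      have hψ : ¬ p ∣ Cfsg.charDegree (ψ : K → ℂ) := by
        have := not_dvd_over h1' c.2.1
        rwa [deg_subIrr] at this
      cases nonempty_fintype (K.subgroupOf Y)
      let T : Subgroup Y := (Char.stab (ψ : K → ℂ)).subgroupOf Y
      have hcl : Cfsg.classInner (fun n : K.subgroupOf Y => (c.1 : Y → ℂ) n)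
          (subIrr hKY ψ : K.subgroupOf Y → ℂ) ≠ 0 :=
        (over_iff (j := (K.subgroupOf Y).subtype) (χ := (c.1 : Y → ℂ))).mp h1'
      have hT : ∀ g : Y, g ∈ T ↔ ∀ m : K.subgroupOf Y, (subIrr hKY ψ : K.subgroupOf Y → ℂ)
          ⟨g * m * g⁻¹, Subgroup.Normal.conj_mem inferInstance (m : Y) m.2 g⟩ =
          (subIrr hKY ψ : K.subgroupOf Y → ℂ) m := fun g =>
        ⟨fun hg m => congrFun hg ⟨((m : Y) : X), Subgroup.mem_subgroupOf.mp m.2⟩,
          fun hg => funext fun k => hg ⟨⟨(k : X), hKY k.2⟩, Subgroup.mem_subgroupOf.mpr k.2⟩⟩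
      have hf := Clifford.apply_one_eq c.1.2 (subIrr hKY ψ).2 hcl T hT
      obtain ⟨e, he⟩ := Char.IsCharacter.classInner_nat
        (Char.IsCharacter.restrict (Char.isCharacter_irr c.1) (K.subgroupOf Y))
        (Char.isCharacter_irr (subIrr hKY ψ))
      rw [he, ← DegreeTools.deg_cast, ← DegreeTools.deg_cast, ← Nat.cast_mul, ← Nat.cast_mul,
        Nat.cast_inj] at hf
      have hidx : ¬ p ∣ T.index := fun hd => c.2.1 (hf ▸ (hd.mul_right e).mul_right _)
      have hSY' : IsPGroup p ((S : Subgroup X).subgroupOf Y) :=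
        S.isPGroup'.of_equiv (Subgroup.subgroupOfEquivOfLe hSY).symm
      obtain ⟨q, hq⟩ := hSY'.nonempty_fixed_point_of_prime_not_dvd_card (Y ⧸ T)
        (by rwa [← Subgroup.index])
      obtain ⟨y, rfl⟩ := QuotientGroup.mk_surjective q
      have hy : ∀ s ∈ (S : Subgroup X), (y : X)⁻¹ * s * y ∈ fixer K (ψ : K → ℂ) := by
        intro s hs
        have h := QuotientGroup.eq.mp (hq ⟨⟨s, hSY hs⟩, Subgroup.mem_subgroupOf.mpr hs⟩).symm
        refine ⟨hKn _, fix_iff.mpr ?_⟩
        have h' : (y : X)⁻¹ * (s * y) ∈ Char.stab (ψ : K → ℂ) := h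
        rwa [← mul_assoc] at h'
      have h3 := hconj (y : X)⁻¹ ψ hψ h2 fun s hs => by rw [inv_inv]; exact hy s hs
      exact ⟨⟨_, h3⟩, hmove y⁻¹ c.1 ψ h1⟩)
    (fun c a b ha hb => by
      cases nonempty_fintype (K.subgroupOf Y)
      obtain ⟨g, hg⟩ := Clifford.exists_conj_of_constituent (K.subgroupOf Y) c.1.2
        (subIrr hKY a.1).2 (subIrr hKY b.1).2
        ((over_iff (j := (K.subgroupOf Y).subtype) (χ := (c.1 : Y → ℂ))).mp
          ((over_subIrr hKY a.1 (c.1 : Y → ℂ)).mpr ha))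
        ((over_iff (j := (K.subgroupOf Y).subtype) (χ := (c.1 : Y → ℂ))).mp
          ((over_subIrr hKY b.1 (c.1 : Y → ℂ)).mpr hb))
      have hab : conjIrrOn K (g : X) (hKn g) a.1 = b.1 := Subtype.ext (funext fun k => by
        have h1 := congrFun hg ⟨⟨(k : X), hKY k.2⟩, Subgroup.mem_subgroupOf.mpr k.2⟩
        rw [Clifford.conjFun_apply] at h1
        exact h1.symm)
      let B : Subgroup X := fixer K (b.1 : K → ℂ) ⊓ Y
      let Q : Sylow p X := S.mapSurjective (f := (MulAut.conj (g : X)⁻¹).toMonoidHom)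
        (MulAut.conj (g : X)⁻¹).surjective
      have hQB : (Q : Subgroup X) ≤ B := by
        rintro _ ⟨s, hs, rfl⟩
        show (g : X)⁻¹ * s * ((g : X)⁻¹)⁻¹ ∈ B
        refine Subgroup.mem_inf.mpr ⟨⟨hKn _, fun k k' e => ?_⟩,
          mul_mem (mul_mem (inv_mem g.2) (hSY hs)) (inv_mem (inv_mem g.2))⟩
        rw [← hab]
        show (a.1 : K → ℂ) (conjOn K (g : X) (hKn g) k') = (a.1 : K → ℂ) (conjOn K (g : X) (hKn g) k)
        refine (a.2.2.2 hs).2 _ _ ?_
        rw [conjOn_apply, conjOn_apply, e]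
        group
      have hSB : (S : Subgroup X) ≤ B := le_inf b.2.2.2 hSY
      obtain ⟨x, hx⟩ := MulAction.exists_smul_eq B (S.subtype hSB) (Q.subtype hQB)
      have hxS : ∀ s ∈ (S : Subgroup X),
          ((g : X) * x) * s * ((g : X) * x)⁻¹ ∈ (S : Subgroup X) := by
        intro s hs
        have h1 : MulAut.conj x • (⟨s, hSB hs⟩ : B) ∈ (Q.subtype hQB : Subgroup B) := by
          rw [← hx, Sylow.coe_subgroup_smul]
          exact Subgroup.smul_mem_pointwise_smul _ _ _ hs
        obtain ⟨t, ht, e⟩ := (h1 : ((MulAut.conj x • (⟨s, hSB hs⟩ : B) : B) : X) ∈ (Q : Subgroup X))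
        replace e : (g : X)⁻¹ * t * ((g : X)⁻¹)⁻¹ = (x : X) * s * (x : X)⁻¹ := e
        rw [show ((g : X) * x) * s * ((g : X) * x)⁻¹ =
          (g : X) * ((x : X) * s * (x : X)⁻¹) * (g : X)⁻¹ by group, ← e,
          show (g : X) * ((g : X)⁻¹ * t * ((g : X)⁻¹)⁻¹) * (g : X)⁻¹ = t by group]
        exact ht
      have hnN : (g : X) * x ∈ N := hN ▸ mem_normalizer_of_conj hxS
      refine ⟨⟨(g : X) * x, hnN⟩⁻¹, Subtype.ext ?_⟩
      show nAct hKN (⟨(g : X) * x, hnN⟩ : N)⁻¹ a.1 = b.1
      rw [nAct_eq]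
      refine Subtype.ext (funext fun k => ?_)
      rw [← (Subgroup.mem_inf.mp x.2).1.2 k (conjOn K (x : X) (hKn _) k) rfl, ← hab]
      refine congrArg (a.1 : K → ℂ) (Subtype.ext ?_)
      show (((g : X) * x)⁻¹)⁻¹ * (k : X) * ((((g : X) * x)⁻¹)⁻¹)⁻¹ =
        (g : X) * ((x : X) * (k : X) * (x : X)⁻¹) * (g : X)⁻¹
      group)
  simp only [hcnt] at hpart
  simp only [hstab]
  exact hpart

/-- **The central case.** -/
theorem count_central {X : Type u} [Group X] [Finite X] (hX : Cfsg.IsPSolvable p X) (S : Sylow p X)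
    (Z : Subgroup X) (hZ : Z ≤ Subgroup.center X) (μ : Z →* ℂˣ)
    (ih : RelCount.{u} p Z.index) {N : Subgroup X}
    (hN : N = Subgroup.normalizer ((S : Subgroup X) : Set X)) (hZN : Z ≤ N) :
    count p Z.subtype (fun z => (μ z : ℂ)) =
      count p (Subgroup.inclusion hZN) (fun z => (μ z : ℂ)) := by
  classical
  cases nonempty_fintype X
  have hp : p.Prime := Fact.out
  rcases eq_or_ne Z ⊤ with hZt | hZt
  · exact (count_inclusion_top p hZN (top_le_iff.mp (hZt.ge.trans hZN)) _).symm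
  have hZn : Z.Normal := ⟨fun m hm g => by
    rw [Subgroup.mem_center_iff.mp (hZ hm) g, mul_inv_cancel_right]; exact hm⟩
  let μ' : Cfsg.IrrCharacter Z := ⟨fun z => (μ z : ℂ), Char.isIrrCharacter_hom μ⟩
  let q := QuotientGroup.mk' Z
  have hq : Function.Surjective q := QuotientGroup.mk'_surjective Z
  have : Nontrivial (X ⧸ Z) := by
    obtain ⟨x, -, hx⟩ := SetLike.exists_of_lt (lt_top_iff_ne_top.mpr hZt)
    exact ⟨⟨q x, 1, fun h => hx ((QuotientGroup.eq_one_iff x).mp h)⟩⟩
  obtain ⟨M, hMn, -, hMne, hdich⟩ := Fusion.PSolvable.exists_minimal_dichotomy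
    (Fusion.PSolvable.psolvable_quotient hX Z) (K := (⊤ : Subgroup (X ⧸ Z))) top_ne_bot
  let K : Subgroup X := M.comap q
  have hKn : K.Normal := hMn.comap q
  have hZK : Z ≤ K := fun z hz => by
    show q z ∈ M
    rw [show q z = 1 from (QuotientGroup.eq_one_iff z).mpr hz]
    exact one_mem M
  have hKZ : Z.relIndex K = Nat.card M := by
    have h := Subgroup.relIndex_comap (⊥ : Subgroup (X ⧸ Z)) q K
    rw [MonoidHom.comap_bot, QuotientGroup.ker_mk', Subgroup.map_comap_eq_self_of_surjective hq,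
      Subgroup.relIndex_bot_left] at h
    exact h
  have hM1 : 1 < Nat.card M := (Subgroup.one_lt_card_iff_ne_bot M).mpr hMne
  have hKidx : K.index < Z.index := by
    rw [← Subgroup.relIndex_mul_index hZK, hKZ]
    exact lt_mul_of_one_lt_left (Nat.pos_of_ne_zero K.index_ne_zero_of_finite) hM1
  let N' : Subgroup X := Subgroup.normalizer ((K ⊔ (S : Subgroup X) : Subgroup X) : Set X)
  have hKn' : ∀ g : X, g ∈ Subgroup.normalizer (K : Set X) := fun g =>
    Subgroup.normalizer_eq_top (H := K) ▸ Subgroup.mem_top g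
  have hNN' : N ≤ N' := fun g hg => mem_normalizer_of_conj fun x hx => by
    obtain ⟨k, hk, s, hs, rfl⟩ := Subgroup.mem_sup_of_normal_left.mp hx
    rw [show g * (k * s) * g⁻¹ = (g * k * g⁻¹) * (g * s * g⁻¹) by group]
    exact Subgroup.mul_mem_sup ((Subgroup.mem_normalizer_iff.mp (hKn' g) k).mp hk)
      ((Subgroup.mem_normalizer_iff.mp (hN.le hg) s).mp hs)
  have hKN' : K ≤ N' := le_sup_left.trans Subgroup.le_normalizer
  have hSN : (S : Subgroup X) ≤ N := Subgroup.le_normalizer.trans hN.ge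
  -- the first step
  have step : count p Z.subtype (fun z => (μ z : ℂ)) =
      count p (Subgroup.inclusion (hZK.trans hKN')) (fun z => (μ z : ℂ)) := by
    have h1 := sum_fixed_constituents S hZ hZK (Y := ⊤) le_top hN le_top μ
    have h2 := sum_fixed_constituents S hZ hZK hKN' hN hNN' μ
    rw [count_inclusion_top p _ rfl] at h1
    refine Nat.eq_of_mul_eq_mul_left (Nat.card_pos (α := N)) (h1.symm.trans (Eq.trans ?_ h2))
    refine Finset.sum_congr rfl fun θ _ => ?_
    rw [count_inclusion_top p _ rfl, ih X hX K S N' rfl hKN' θ.1 θ.2.2.2 hKidx]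
  -- the normalizer of `Z S`
  have hNZ : N = Subgroup.normalizer ((Z ⊔ (S : Subgroup X) : Subgroup X) : Set X) := by
    have hSn : Z ⊔ (S : Subgroup X) ≤ Subgroup.normalizer ((S : Subgroup X) : Set X) :=
      sup_le (hZN.trans hN.le) Subgroup.le_normalizer
    apply le_antisymm
    · intro g hg
      refine mem_normalizer_of_conj fun x hx => ?_
      obtain ⟨z, hz, y, hy, rfl⟩ := Subgroup.mem_sup_of_normal_left.mp hx
      rw [show g * (z * y) * g⁻¹ = (g * z * g⁻¹) * (g * y * g⁻¹) by group]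
      exact Subgroup.mul_mem_sup (hZn.conj_mem z hz g)
        ((Subgroup.mem_normalizer_iff.mp (hN.le hg) y).mp hy)
    · intro g hg
      refine hN.ge (mem_normalizer_of_conj fun x hx => ?_)
      let W := (S : Subgroup X).map (MulAut.conj g).toMonoidHom
      have hWle : W ≤ Z ⊔ (S : Subgroup X) := by
        rintro _ ⟨y, hy, rfl⟩
        exact (Subgroup.mem_normalizer_iff.mp hg y).mp (Subgroup.mem_sup_right hy)
      have hsup : IsPGroup p ↥((S : Subgroup X) ⊔ W) :=
        IsPGroup.to_sup_of_normal_left' S.isPGroup' (S.isPGroup'.map _) (hWle.trans hSn)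
      exact (S.is_maximal' hsup le_sup_left).le (Subgroup.mem_sup_right ⟨x, hx, rfl⟩)
  rw [step]
  by_cases hN'top : N' = ⊤
  · rw [count_inclusion_top p _ hN'top]
    have hKS : (K ⊔ (S : Subgroup X)).Normal := Subgroup.normalizer_eq_top_iff.mp hN'top
    rcases hdich with hpg | hcop
    · -- a `p`-step is covered by `Z S`
      have hle : K ⊔ (S : Subgroup X) ≤ Z ⊔ (S : Subgroup X) := by
        refine sup_le ?_ le_sup_right
        obtain ⟨P, hP⟩ := hpg.exists_le_sylow
        obtain ⟨y, hy⟩ := MulAction.exists_smul_eq (X ⧸ Z) P (S.mapSurjective hq)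
        have hMS : M ≤ (S : Subgroup X).map q := by
          intro m hm
          have h1 : y⁻¹ * m * y ∈ M := by simpa using hMn.conj_mem m hm y⁻¹
          have h2 : MulAut.conj y • (y⁻¹ * m * y) ∈ (S.mapSurjective hq : Subgroup (X ⧸ Z)) := by
            rw [← hy, Sylow.coe_subgroup_smul]
            exact Subgroup.smul_mem_pointwise_smul _ _ _ (hP h1)
          have h3 : y * (y⁻¹ * m * y) * y⁻¹ ∈ (S : Subgroup X).map q := h2
          simpa [mul_assoc] using h3
        refine (Subgroup.comap_mono hMS).trans ?_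
        rw [Subgroup.comap_map_eq, QuotientGroup.ker_mk', sup_comm]
      have hN'N : N' ≤ N := by
        rw [hNZ, show Z ⊔ (S : Subgroup X) = K ⊔ (S : Subgroup X) from
          le_antisymm (sup_le_sup_right hZK _) hle]
      exact (count_inclusion_top p hZN (top_le_iff.mp (hN'top.ge.trans hN'N)) _).symm
    · -- split off the `p`-part of `K`
      let P : Subgroup K := (S : Subgroup X).subgroupOf K
      have hMcop : ¬ p ∣ Z.relIndex K := by
        rw [hKZ]; exact fun h => hp.not_dvd_one (hcop ▸ Nat.dvd_gcd h dvd_rfl)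
      have hPcentral : ∀ a ∈ P, (a : X) ∈ Z := by
        intro a ha
        have hn : (Z.subgroupOf K).Normal := Subgroup.Normal.subgroupOf inferInstance K
        obtain ⟨k, hk⟩ := S.isPGroup' ⟨(a : X), ha⟩
        have hak : (a : X) ^ (p ^ k) = 1 := by simpa using congrArg Subtype.val hk
        have h1 : (QuotientGroup.mk' (Z.subgroupOf K) a) ^ (p ^ k) = 1 := by
          rw [← map_pow, show a ^ (p ^ k) = 1 from Subtype.ext (by simpa using hak), map_one]
        have h2 : orderOf (QuotientGroup.mk' (Z.subgroupOf K) a) = 1 :=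
          Nat.eq_one_of_dvd_coprimes (((hp.coprime_iff_not_dvd).mpr hMcop).pow_left k)
            (orderOf_dvd_of_pow_eq_one h1) (orderOf_dvd_natCard _)
        exact Subgroup.mem_subgroupOf.mp
          ((QuotientGroup.eq_one_iff a).mp (orderOf_eq_one_iff.mp h2))
      have hPn : P.Normal := ⟨fun a ha g => by
        rw [show g * a = a * g from Subtype.ext
          (Subgroup.mem_center_iff.mp (hZ (hPcentral a ha)) (g : X)), mul_inv_cancel_right]
        exact ha⟩
      have hPp : IsPGroup p P := S.isPGroup'.of_injective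
        { toFun := fun a => (⟨((a : K) : X), a.2⟩ : (S : Subgroup X))
          map_one' := rfl
          map_mul' := fun _ _ => rfl } fun a b h =>
          Subtype.ext (Subtype.ext (congrArg Subtype.val h :))
      have hPidx : ¬ p ∣ P.index := fun hd => S.not_dvd_index (by
        rw [← Subgroup.relIndex_mul_index (le_sup_right : (S : Subgroup X) ≤ K ⊔ S)]
        refine Dvd.dvd.mul_right (hd.trans (dvd_of_eq ?_)) _
        show (S : Subgroup X).relIndex K = (S : Subgroup X).relIndex (K ⊔ S)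
        have hcardKS := Subgroup.relIndex_mul_relIndex ((S : Subgroup X) ⊓ K) K (K ⊔ S)
          inf_le_right le_sup_left
        have hcardKS' := Subgroup.relIndex_mul_relIndex ((S : Subgroup X) ⊓ K) (S : Subgroup X)
          (K ⊔ S) inf_le_left le_sup_right
        rw [Subgroup.inf_relIndex_right, sup_comm K, Subgroup.relIndex_sup_right] at hcardKS
        rw [Subgroup.inf_relIndex_left, sup_comm K, ← hcardKS, mul_comm] at hcardKS'
        rw [sup_comm K]
        exact (Nat.eq_of_mul_eq_mul_right (Nat.pos_of_ne_zero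
          (K.subgroupOf (S : Subgroup X)).index_ne_zero_of_finite) hcardKS').symm)
      obtain ⟨k, hk⟩ := hPp.exists_card_eq
      have hPcop : (Nat.card P).Coprime P.index := by
        rw [hk]; exact ((hp.coprime_iff_not_dvd).mpr hPidx).pow_left k
      obtain ⟨H, hH⟩ := Subgroup.exists_right_complement'_of_coprime hPcop
      have hHcard : Nat.card H = P.index := hH.symm.index_eq_card.symm
      let K₁ : Subgroup X := H.map K.subtype
      have hK₁n : K₁.Normal := ⟨by
        rintro _ ⟨y, hy, rfl⟩ g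
        have hgy : g * (y : X) * g⁻¹ ∈ K := hKn.conj_mem _ y.2 g
        obtain ⟨⟨a, b⟩, e, -⟩ := hH.existsUnique ⟨_, hgy⟩
        replace e : (a : K) * (b : K) = ⟨g * (y : X) * g⁻¹, hgy⟩ := e
        have hcomm : Commute (a : K) (b : K) := Subtype.ext
          (Subgroup.mem_center_iff.mp (hZ (hPcentral a a.2)) ((b : K) : X)).symm
        have hy1 : y ^ Nat.card H = 1 := by
          have h := congrArg Subtype.val (pow_card_eq_one' (x := (⟨y, hy⟩ : H)))
          rwa [Subgroup.coe_pow] at h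
        have hb1 : (b : K) ^ Nat.card H = 1 := by
          have h := congrArg Subtype.val (pow_card_eq_one' (x := b))
          rwa [Subgroup.coe_pow] at h
        have h1 : (⟨g * (y : X) * g⁻¹, hgy⟩ : K) ^ Nat.card H = 1 := by
          refine Subtype.ext ?_
          have := congrArg (fun z : K => g * (z : X) * g⁻¹) hy1
          simp only [Subgroup.coe_pow, OneMemClass.coe_one, mul_one, mul_inv_cancel] at this
          rw [Subgroup.coe_pow, Subgroup.coe_mk, conj_pow, this]
          rfl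
        rw [← e, hcomm.mul_pow, hb1, mul_one] at h1
        have ha1 : (a : K) = 1 := by
          refine orderOf_eq_one_iff.mp (Nat.eq_one_of_dvd_coprimes hPcop ?_
            (orderOf_dvd_of_pow_eq_one (by rw [← hHcard]; exact h1)))
          rw [Subgroup.orderOf_coe]
          exact orderOf_dvd_natCard a
        rw [ha1, one_mul] at e
        exact ⟨b, b.2, congrArg Subtype.val e⟩⟩
      have hKK₁ : K ≤ K₁ ⊔ (S : Subgroup X) := by
        intro x hx
        obtain ⟨⟨a, b⟩, e, -⟩ := hH.existsUnique ⟨x, hx⟩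
        rw [show x = ((a : K) : X) * ((b : K) : X) from (congrArg Subtype.val e).symm]
        exact mul_mem (Subgroup.mem_sup_right a.2) (Subgroup.mem_sup_left ⟨b, b.2, rfl⟩)
      have hV : (K₁ ⊔ (S : Subgroup X)).Normal := by
        rw [show K₁ ⊔ (S : Subgroup X) = K ⊔ (S : Subgroup X) from
          le_antisymm (sup_le_sup_right (Subgroup.map_subtype_le H) _) (sup_le hKK₁ le_sup_right)]
        exact hKS
      subst hN
      exact count_core S K₁ Z
        (by rw [Subgroup.card_map_of_injective K.subtype_injective, hHcard]; exact hPidx)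
        hV hZ (hZK.trans hKK₁) μ hZN
  · -- inside the proper subgroup `N'`
    have hidx : Z.relIndex N' < Z.index := by
      rw [← Subgroup.relIndex_mul_index (hZK.trans hKN')]
      exact lt_mul_of_one_lt_right (Nat.pos_of_ne_zero (Z.subgroupOf N').index_ne_zero_of_finite)
        (Subgroup.one_lt_index_of_ne_top hN'top)
    have hfix : (S : Subgroup X) ≤ fixer Z (μ' : Z → ℂ) := fun s _ =>
      ⟨Subgroup.normalizer_eq_top (H := Z) ▸ Subgroup.mem_top s, fun k k' e => by
        rw [Subgroup.mem_center_iff.mp (hZ k.2) s, mul_inv_cancel_right] at e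
        rw [Subtype.ext e]⟩
    have h := RelCount.inside ih hX S (hZK.trans hKN') (hSN.trans hNN') hNZ
      (le_inf (hZK.trans hKN') hZN) μ' hfix hidx
    refine h.trans ?_
    exact count_congr p (MulEquiv.subgroupCongr (inf_eq_right.mpr hNN')) (MulEquiv.refl Z)
      (fun _ => Subtype.ext rfl) (fun _ => rfl)

/-- The invariant case. -/
theorem count_invariant {G : Type u} [Group G] [Finite G] (hG : Cfsg.IsPSolvable p G)
    (L : Subgroup G) [L.Normal] (S : Sylow p G) (ν : Cfsg.IrrCharacter L)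
    (hinv : ∀ g : G, g ∈ fixer L (ν : L → ℂ)) (ih : RelCount.{u} p L.index) {N : Subgroup G}
    (hN : N = Subgroup.normalizer ((L ⊔ (S : Subgroup G) : Subgroup G) : Set G)) (hLN : L ≤ N) :
    count p L.subtype (ν : L → ℂ) = count p (Subgroup.inclusion hLN) (ν : L → ℂ) := by
  by_cases hν : p ∣ Cfsg.charDegree (ν : L → ℂ)
  · rw [count_eq_zero p hLN ν hν, ← count_inclusion_top p (T := ⊤) le_top rfl,
      count_eq_zero p le_top ν hν]
  obtain ⟨X, _, _, Z, S', hZN, μ, hX, hZ, hidx, h1, h2⟩ := exists_triple p hG L S ν hinv hν hN hLN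
  rw [h1, h2]
  exact count_central hX S' Z hZ μ (hidx ▸ ih) rfl hZN

/-- **The relative count.** -/
theorem relCount (p : ℕ) [Fact p.Prime] (n : ℕ) : RelCount.{u} p n := by
  induction n using Nat.strong_induction_on with
  | _ n ih =>
  intro G _ _ hG L _ S N hN hLN ν hS hlt
  have ih' : RelCount.{u} p L.index := ih _ hlt
  have hp : p.Prime := Fact.out
  let T : Subgroup G := Char.stab (ν : L → ℂ)
  have hLT : L ≤ T := Char.le_stab (Char.IsIrrCharacter.isClassFunction ν.2)
  have hST : (S : Subgroup G) ≤ T := fun s hs => fix_iff.mp (hS hs).2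
  have hpT : ¬ p ∣ T.index := fun h => S.not_dvd_index (h.trans (Subgroup.index_dvd_of_le hST))
  rw [count_inertia hp hLT ν (fun g => Char.isInertia_stab (ν : L → ℂ) g) hpT]
  have hLTN : L ≤ T ⊓ N := le_inf hLT hLN
  rw [count_inertia_in hp (V := N) hLTN inf_le_right ν
    (fun g hg => ⟨fun h => h.1, fun h => Subgroup.mem_inf.mpr ⟨h, hg⟩⟩) (by
      have hSN : (S : Subgroup G) ≤ T ⊓ N :=
        le_inf hST ((le_sup_right.trans Subgroup.le_normalizer).trans hN.ge)
      intro h
      refine S.not_dvd_index ?_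
      rw [← Subgroup.relIndex_mul_index hSN]
      refine Dvd.dvd.mul_left (h.trans ?_) _
      exact Subgroup.relIndex_dvd_index_of_le inf_le_right)]
  -- the group `T`
  have : (L.subgroupOf T).Normal := Subgroup.Normal.subgroupOf inferInstance T
  have hle : L.relIndex T ≤ L.index :=
    Nat.le_of_dvd (Nat.pos_of_ne_zero L.index_ne_zero_of_finite)
      (Subgroup.relIndex_dvd_index_of_le hLT)
  have hinv : ∀ g : T, g ∈ fixer (L.subgroupOf T) (subIrr hLT ν : L.subgroupOf T → ℂ) := fun g =>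
    ⟨by rw [Subgroup.normalizer_eq_top]; exact Subgroup.mem_top g, fun k k' e =>
      fix_iff.mpr g.2 ⟨_, Subgroup.mem_subgroupOf.mp k.2⟩ ⟨_, Subgroup.mem_subgroupOf.mp k'.2⟩
        (congrArg Subtype.val e)⟩
  let S' : Sylow p T := S.subtype hST
  have hN' : N.subgroupOf T =
      Subgroup.normalizer ((L.subgroupOf T ⊔ (S' : Subgroup T) : Subgroup T) : Set T) := by
    rw [hN, show (S' : Subgroup T) = (S : Subgroup G).subgroupOf T from rfl,
      ← Subgroup.subgroupOf_sup hLT hST]
    exact Subgroup.comap_normalizer_eq_of_le_range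
      ((sup_le hLT hST).trans_eq T.range_subtype.symm)
  have key := count_invariant (Fusion.PSolvable.psolvable_subgroup hG T) (L.subgroupOf T) S'
    (subIrr hLT ν) hinv (fun G' _ _ hG' L' _ T' N' h' hL' ν' hS'' h'' =>
      ih' G' hG' L' T' N' h' hL' ν' hS'' (h''.trans_le hle)) hN' (fun x hx => hLN hx)
  rw [count_subIrr p hLT ν] at key
  rw [key]
  let e : N.subgroupOf T ≃* ↥(T ⊓ N) :=
    { toFun := fun x => ⟨((x : T) : G), (x : T).2, Subgroup.mem_subgroupOf.mp x.2⟩
      invFun := fun x => ⟨⟨(x : G), x.2.1⟩, x.2.2⟩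
      left_inv := fun _ => rfl
      right_inv := fun _ => rfl
      map_mul' := fun _ _ => rfl }
  exact count_congr p e (Subgroup.subgroupOfEquivOfLe hLT) (fun _ => Subtype.ext rfl) (fun _ => rfl)

end CfsgLib.CharDeep.RelMcKay
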