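import Cfsg.Agent.Lib.CharDeep.RelMcKay.Ext

/-!
# Characters of degree prime to `p` of the product of a `p'`-group and a `p`-group

These are parametrised by an invariant character `θ` of the `p'`-group together with a linear
character `μ` of the `p`-group, the determinant on the `p`-group being `μ ^ θ(1)`.
-/

set_option autoImplicit false

open scoped ComplexConjugate

namespace CfsgLib.CharDeep.RelMcKay

open CfsgLib

section Tools

variable {G : Type*} [Group G] [Finite G]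

theorem exists_det_hom {χ : G → ℂ} (hχ : Cfsg.IsIrrCharacter G χ) :
    ∃ D : G →* ℂˣ, ∀ g, Cfsg.detChar χ g = (D g : ℂ) := by
  obtain ⟨n, ρ, hρ, he⟩ := id hχ
  refine ⟨DetExt.detHom ρ, fun g => ?_⟩
  rw [Galois.detChar_of_rep ρ χ (Char.IsIrrCharacter.isCharacter hχ) he, DetExt.coe_detHom]

theorem detChar_comp_equiv {H : Type*} [Group H] [Finite H] (α : H ≃* G) {χ : G → ℂ}
    (hχ : Cfsg.IsIrrCharacter G χ) (h : H) : Cfsg.detChar (χ ∘ α) h = Cfsg.detChar χ (α h) := by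
  obtain ⟨n, ρ, hρ, rfl⟩ := id hχ
  rw [Galois.detChar_of_rep (ρ.comp α.toMonoidHom) (ρ.character ∘ α)
      (Char.IsCharacter.comp (Char.IsIrrCharacter.isCharacter hχ) α.toMonoidHom) rfl,
    Galois.detChar_of_rep ρ _ (Char.IsIrrCharacter.isCharacter hχ) rfl]
  rfl

/-- A central element acts by a scalar. -/
theorem central_scalar (χ : Cfsg.IrrCharacter G) {z : G} (hz : ∀ g, g * z = z * g) :
    ∃ c : ℂ, (χ : G → ℂ) z = (χ : G → ℂ) 1 * c ∧
      Cfsg.detChar (χ : G → ℂ) z = c ^ Cfsg.charDegree (χ : G → ℂ) ∧ c ^ orderOf z = 1 := by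
  obtain ⟨n, ρ, hρ, he⟩ := id χ.2
  haveI := hρ
  obtain ⟨c, hc⟩ := IrrTools.exists_smul_of_commute ρ (ρ z) fun g => by
    rw [← map_mul, ← map_mul, hz]
  have hdim : Cfsg.charDegree (χ : G → ℂ) = n := by
    rw [← he]
    simp [Cfsg.charDegree, Representation.char_one]
  refine ⟨c, ?_, ?_, ?_⟩
  · rw [← he]
    show LinearMap.trace ℂ _ (ρ z) = LinearMap.trace ℂ _ (ρ 1) * c
    rw [hc, map_one ρ, map_smul, smul_eq_mul, mul_comm]
  · rw [Galois.detChar_of_rep ρ _ (Char.isCharacter_irr χ) he, hdim]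
    show LinearMap.det (ρ z) = c ^ n
    rw [hc]
    rw [LinearMap.det_smul, Module.finrank_fin_fun, map_one, mul_one]
  · have h1 := congrArg (· ^ orderOf z) hc
    simp only [← map_pow, pow_orderOf_eq_one, map_one, smul_pow, one_pow] at h1
    haveI := IrrTools.apply_ne_zero_of_isIrreducible ρ
    exact (smul_left_injective ℂ (one_ne_zero (α := Module.End ℂ (Fin n → ℂ)))
      ((one_smul ℂ _).trans h1)).symm

theorem pow_hom_surjective {d : ℕ} (hd : d.Coprime (Nat.card G)) (δ : G →* ℂˣ) :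
    ∃ μ : G →* ℂˣ, ∀ g, μ g ^ d = δ g := by
  obtain ⟨e, he⟩ : ∃ e : ℕ, e * d ≡ 1 [MOD Nat.card G] := by
    obtain h1 | h1 := (Nat.card_pos (α := G)).nat_succ_le.eq_or_lt
    · exact ⟨0, by rw [← h1]; exact Nat.modEq_one⟩
    · obtain ⟨z, -, hz⟩ := Nat.exists_mul_mod_eq_one_of_coprime hd h1
      exact ⟨z, by rw [mul_comm]; exact hz.trans (Nat.mod_eq_of_lt h1).symm⟩
  refine ⟨(powMonoidHom e).comp δ, fun g => ?_⟩
  show (δ g ^ e) ^ d = δ g
  rw [← pow_mul, pow_eq_pow_of_modEq he (by rw [← map_pow, pow_card_eq_one', map_one]), pow_one]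

theorem pow_hom_injective {d : ℕ} (hd : d.Coprime (Nat.card G)) {μ μ' : G →* ℂˣ}
    (h : ∀ g, (μ g : ℂ) ^ d = (μ' g : ℂ) ^ d) : μ = μ' := by
  ext1 g
  have h1 : (μ g * (μ' g)⁻¹) ^ d = 1 := by
    rw [mul_pow, inv_pow, mul_inv_eq_one]
    exact Units.ext (by simpa using h g)
  have h2 : (μ g * (μ' g)⁻¹) ^ Nat.card G = 1 := by
    rw [mul_pow, inv_pow, ← map_pow, ← map_pow, pow_card_eq_one', map_one, map_one, inv_one,
      mul_one]
  exact mul_inv_eq_one.mp (orderOf_eq_one_iff.mp (Nat.eq_one_of_dvd_coprimes hd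
    (orderOf_dvd_of_pow_eq_one h1) (orderOf_dvd_of_pow_eq_one h2)))

end Tools

variable {Γ : Type*} [Group Γ] [Finite Γ] {p : ℕ}

/-- `μ` is the normalised determinant of `ψ` on `S`. -/
def Tag {V : Subgroup Γ} (S : Subgroup Γ) (ψ : Cfsg.IrrCharacter V) (μ : S →* ℂˣ) : Prop :=
  ∀ (s : S) (v : V), (v : Γ) = s →
    Cfsg.detChar (ψ : V → ℂ) v = (μ s : ℂ) ^ Cfsg.charDegree (ψ : V → ℂ)

theorem tag_unique {V S : Subgroup Γ} (hSV : S ≤ V) (hp : p.Prime) (hS : IsPGroup p S)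
    {ψ : Cfsg.IrrCharacter V} (hψ : ¬ p ∣ Cfsg.charDegree (ψ : V → ℂ)) {μ μ' : S →* ℂˣ}
    (h : Tag S ψ μ) (h' : Tag S ψ μ') : μ = μ' := by
  have := Fact.mk hp
  obtain ⟨k, hk⟩ := hS.exists_card_eq
  refine pow_hom_injective (d := Cfsg.charDegree (ψ : V → ℂ)) ?_
    fun s => (h s ⟨s, hSV s.2⟩ rfl).symm.trans (h' s ⟨s, hSV s.2⟩ rfl)
  rw [hk]
  exact ((hp.coprime_iff_not_dvd).mpr hψ).symm.pow_right k

theorem exists_tag {V S : Subgroup Γ} (hSV : S ≤ V) (hp : p.Prime) (hS : IsPGroup p S)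
    (ψ : Cfsg.IrrCharacter V) (hψ : ¬ p ∣ Cfsg.charDegree (ψ : V → ℂ)) :
    ∃ μ : S →* ℂˣ, Tag S ψ μ := by
  have := Fact.mk hp
  obtain ⟨k, hk⟩ := hS.exists_card_eq
  obtain ⟨D, hD⟩ := exists_det_hom ψ.2
  obtain ⟨μ, hμ⟩ := pow_hom_surjective (G := S) (d := Cfsg.charDegree (ψ : V → ℂ))
    (by rw [hk]; exact ((hp.coprime_iff_not_dvd).mpr hψ).symm.pow_right k)
    (D.comp (Subgroup.inclusion hSV))
  refine ⟨μ, fun s v e => ?_⟩
  rw [hD, ← Units.val_pow_eq_pow_val, hμ, show v = Subgroup.inclusion hSV s from Subtype.ext e]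
  rfl

theorem tag_scalar {V S : Subgroup Γ} (hp : p.Prime) (hS : IsPGroup p S)
    {ψ : Cfsg.IrrCharacter V} (hψ : ¬ p ∣ Cfsg.charDegree (ψ : V → ℂ)) {μ : S →* ℂˣ}
    (h : Tag S ψ μ) {s : S} {v : V} (e : (v : Γ) = s) (hc : ∀ g : V, g * v = v * g) :
    (ψ : V → ℂ) v = (ψ : V → ℂ) 1 * (μ s : ℂ) := by
  have := Fact.mk hp
  obtain ⟨c, h1, h2, h3⟩ := central_scalar ψ hc
  rw [h1]
  congr 1
  obtain ⟨k, hk⟩ := hS.exists_card_eq
  have hord : orderOf v = orderOf s := by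
    rw [← Subgroup.orderOf_coe v, e, Subgroup.orderOf_coe]
  have h4 := (h2.symm.trans (h s v e))
  have hc0 : c ≠ 0 := fun h0 => by
    rw [h0, zero_pow (orderOf_pos v).ne'] at h3
    exact zero_ne_one h3
  have h5 : (Units.mk0 c hc0 * (μ s)⁻¹) ^ Cfsg.charDegree (ψ : V → ℂ) = 1 := by
    rw [mul_pow, inv_pow, mul_inv_eq_one]
    exact Units.ext (by simpa using h4)
  have h6 : (Units.mk0 c hc0 * (μ s)⁻¹) ^ orderOf s = 1 := by
    rw [mul_pow, inv_pow, ← map_pow, pow_orderOf_eq_one, map_one, inv_one, mul_one]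
    exact Units.ext (by rw [Units.val_pow_eq_pow_val, Units.val_mk0, ← hord, h3, Units.val_one])
  have hcop : (Cfsg.charDegree (ψ : V → ℂ)).Coprime (orderOf s) := by
    refine Nat.Coprime.coprime_dvd_right (orderOf_dvd_natCard s) ?_
    rw [hk]
    exact ((hp.coprime_iff_not_dvd).mpr hψ).symm.pow_right k
  exact congrArg Units.val (mul_inv_eq_one.mp (orderOf_eq_one_iff.mp (Nat.eq_one_of_dvd_coprimes
    hcop (orderOf_dvd_of_pow_eq_one h5) (orderOf_dvd_of_pow_eq_one h6))))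

variable {K S C : Subgroup Γ}

theorem GConf.fixed (h : GConf p K S C) : GConf p C S C where
  prime := h.prime
  norm s hs k hk := by
    rw [((h.fix k).mp hk).2 s hs, mul_inv_cancel_right]
    exact hk
  pgroup := h.pgroup
  nd := fun hd => h.nd (hd.trans (Subgroup.card_dvd_of_le h.le))
  fix g := ⟨fun hg => ⟨hg, ((h.fix g).mp hg).2⟩, fun hg => hg.1⟩

theorem GConf.fixed_fixer (h : GConf p K S C) (φ : C → ℂ) : S ≤ fixer C φ := fun s hs =>
  ⟨Subgroup.le_normalizer_iff.2 h.fixed.norm hs, fun k k' e => by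
    rw [((h.fix k).mp k.2).2 s hs, mul_inv_cancel_right] at e
    rw [Subtype.ext e]⟩

theorem GConf.index_data (h : GConf p K S C) :
    ((K ⊔ S) ≤ Subgroup.normalizer (K : Set Γ)) ∧
      (K.subgroupOf (K ⊔ S)).index = Nat.card S ∧
      ∃ f : ↥(K ⊔ S) →* S, (∀ v : ↥(K ⊔ S), (v : Γ) ∈ K → f v = 1) ∧
        ∀ (s : S) (v : ↥(K ⊔ S)), (v : Γ) = s → f v = s := by
  have hn : K ⊔ S ≤ Subgroup.normalizer (K : Set Γ) :=
    sup_le Subgroup.le_normalizer (Subgroup.le_normalizer_iff.2 h.norm)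
  refine ⟨hn, ?_⟩
  have : (K.subgroupOf (K ⊔ S)).Normal := Subgroup.normal_subgroupOf_of_le_normalizer hn
  let g : S →* (↥(K ⊔ S) ⧸ K.subgroupOf (K ⊔ S)) :=
    (QuotientGroup.mk' _).comp (Subgroup.inclusion le_sup_right)
  have hg : Function.Bijective g := by
    refine ⟨?_, ?_⟩
    · intro a b hab
      have h1 := Subgroup.mem_subgroupOf.mp (QuotientGroup.eq.mp hab)
      have h2 : ((a⁻¹ * b : S) : Γ) ∈ K := by simpa using h1
      have := Fact.mk h.prime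
      obtain ⟨k, hk⟩ := h.pgroup.exists_card_eq
      have hcop : (Nat.card K).Coprime (Nat.card S) := by
        rw [hk]
        exact ((h.prime.coprime_iff_not_dvd).mpr h.nd).symm.pow_right k
      have h3 : ((a⁻¹ * b : S) : Γ) ∈ K ⊓ S := ⟨h2, (a⁻¹ * b).2⟩
      rw [(Subgroup.disjoint_of_coprime_natCard hcop).eq_bot, Subgroup.mem_bot] at h3
      exact inv_mul_eq_one.mp (Subtype.ext h3)
    · intro q
      obtain ⟨v, rfl⟩ := QuotientGroup.mk_surjective q
      have hv : (v : Γ) ∈ ((K ⊔ S : Subgroup Γ) : Set Γ) := v.2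
      rw [Subgroup.coe_mul_of_right_le_normalizer_left K S
        (Subgroup.le_normalizer_iff.2 h.norm)] at hv
      obtain ⟨k, hk, s, hs, e⟩ := hv
      refine ⟨⟨s, hs⟩, QuotientGroup.eq.mpr (Subgroup.mem_subgroupOf.mpr ?_)⟩
      show s⁻¹ * (v : Γ) ∈ K
      rw [show (v : Γ) = k * s from e.symm, ← mul_assoc]
      simpa using h.norm s⁻¹ (inv_mem hs) k hk
  let e := MulEquiv.ofBijective g hg
  refine ⟨(Nat.card_congr e.toEquiv).symm, e.symm.toMonoidHom.comp (QuotientGroup.mk' _),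
    fun v hv => ?_, fun s v ev => ?_⟩
  · show e.symm (QuotientGroup.mk v) = 1
    rw [(QuotientGroup.eq_one_iff v).mpr (Subgroup.mem_subgroupOf.mpr hv), map_one]
  · show e.symm (QuotientGroup.mk v) = s
    rw [MulEquiv.symm_apply_eq]
    exact congrArg QuotientGroup.mk (Subtype.ext ev : v = Subgroup.inclusion le_sup_right s)

variable {V : Subgroup Γ}

theorem GConf.card_coprime (h : GConf p K S C) (hV : V = K ⊔ S) :
    (Nat.card (K.subgroupOf V)).Coprime (K.subgroupOf V).index := by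
  subst hV
  have := Fact.mk h.prime
  obtain ⟨-, hidx, -⟩ := h.index_data
  obtain ⟨k, hk⟩ := h.pgroup.exists_card_eq
  rw [hidx, hk,
    Nat.card_congr (Subgroup.subgroupOfEquivOfLe (le_sup_left : K ≤ K ⊔ S)).toEquiv]
  exact ((h.prime.coprime_iff_not_dvd).mpr h.nd).symm.pow_right k

/-- A character of degree prime to `p` restricts to an invariant irreducible character. -/
theorem GConf.exists_theta (h : GConf p K S C) (hV : V = K ⊔ S) (ψ : Cfsg.IrrCharacter V)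
    (hψ : ¬ p ∣ Cfsg.charDegree (ψ : V → ℂ)) :
    ∃ θ : Cfsg.IrrCharacter K, S ≤ fixer K (θ : K → ℂ) ∧
      ∀ (k : K) (v : V), (v : Γ) = k → (ψ : V → ℂ) v = (θ : K → ℂ) k := by
  have := Fact.mk h.prime
  subst hV
  obtain ⟨hn, hidx, -⟩ := h.index_data
  have : (K.subgroupOf (K ⊔ S)).Normal := Subgroup.normal_subgroupOf_of_le_normalizer hn
  cases nonempty_fintype (K.subgroupOf (K ⊔ S))
  obtain ⟨k, hk⟩ := h.pgroup.exists_card_eq
  obtain ⟨θ', hθ'⟩ := Glauberman.exists_restrict_eq (K := K.subgroupOf (K ⊔ S)) ψ (by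
    rw [hidx, hk]
    exact ((h.prime.coprime_iff_not_dvd).mpr hψ).symm.pow_right k)
  let ι := Subgroup.subgroupOfEquivOfLe (le_sup_left : K ≤ K ⊔ S)
  refine ⟨irrEquiv ι.symm θ', fun s hs => ⟨hn (Subgroup.mem_sup_right hs), fun a b hab => ?_⟩,
    fun k v e => ?_⟩
  · show (θ' : K.subgroupOf (K ⊔ S) → ℂ) (ι.symm b) = (θ' : K.subgroupOf (K ⊔ S) → ℂ) (ι.symm a)
    rw [← hθ', ← hθ']
    rw [show ((ι.symm b : K.subgroupOf (K ⊔ S)) : ↥(K ⊔ S)) =
      (⟨s, Subgroup.mem_sup_right hs⟩ : ↥(K ⊔ S)) * (ι.symm a : K.subgroupOf (K ⊔ S)) *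
        (⟨s, Subgroup.mem_sup_right hs⟩ : ↥(K ⊔ S))⁻¹ from Subtype.ext hab]
    exact Char.IsIrrCharacter.isClassFunction ψ.2 _ _
  · show _ = (θ' : K.subgroupOf (K ⊔ S) → ℂ) (ι.symm k)
    rw [← hθ']
    exact congrArg _ (Subtype.ext e)

/-- Every pair occurs. -/
theorem GConf.exists_psi (h : GConf p K S C) (hV : V = K ⊔ S) (θ : Cfsg.IrrCharacter K)
    (hθ : S ≤ fixer K (θ : K → ℂ)) (μ : S →* ℂˣ) :
    ∃ ψ : Cfsg.IrrCharacter V,
      (∀ (k : K) (v : V), (v : Γ) = k → (ψ : V → ℂ) v = (θ : K → ℂ) k) ∧ Tag S ψ μ ∧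
      ¬ p ∣ Cfsg.charDegree (ψ : V → ℂ) := by
  have := Fact.mk h.prime
  have hKV : K ≤ V := hV ▸ le_sup_left
  have hSV : S ≤ V := hV ▸ le_sup_right
  have hVfix : V ≤ fixer K (θ : K → ℂ) :=
    hV ▸ sup_le (le_fixer (Char.IsIrrCharacter.isClassFunction θ.2)) hθ
  have : (K.subgroupOf V).Normal :=
    Subgroup.normal_subgroupOf_of_le_normalizer fun g hg => (hVfix hg).1
  have hcK := h.card_coprime hV
  obtain ⟨d, ρ, hρ, hρc⟩ := id (subIrr hKV θ).2
  haveI := hρ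
  have hdeg : Cfsg.charDegree (θ : K → ℂ) = d := by
    rw [← deg_subIrr hKV θ, ← hρc]
    simp [Cfsg.charDegree, Representation.char_one]
  have hd : ¬ p ∣ d := fun hh => h.nd (hh.trans (hdeg ▸ DegreeTools.deg_dvd_card θ))
  have hinv : ProjExt.Invariant ρ := fun g n => by
    rw [hρc, show MulAut.conjNormal g n = (⟨g * n * g⁻¹, by
      simpa using (MulAut.conjNormal g n).2⟩ : K.subgroupOf V) from Subtype.ext (by simp)]
    exact congrFun (conjG_subIrr hKV θ hVfix g) n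
  obtain ⟨F, hF⟩ := Glauberman.exists_hom_extension hcK (DetExt.detHom ρ) fun g n => by
    haveI := ProjExt.twist_isIrreducible ρ g
    obtain ⟨φ⟩ := IrrTools.nonempty_equiv_of_character_eq ρ (ProjExt.twist ρ g) (funext (hinv g))
    have h1 : (φ.toLinearEquiv : (Fin d → ℂ) →ₗ[ℂ] _) ∘ₗ ρ n ∘ₗ
        (φ.toLinearEquiv.symm : (Fin d → ℂ) →ₗ[ℂ] _) = ρ (MulAut.conjNormal g n) :=
      LinearMap.ext fun v => by
        have h2 := LinearMap.congr_fun (φ.toIntertwiningMap.isIntertwining' n)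
          (φ.toLinearEquiv.symm v)
        exact h2.trans (congrArg (ρ _) (φ.toLinearEquiv.apply_symm_apply v))
    refine Units.ext ?_
    rw [DetExt.coe_detHom, DetExt.coe_detHom, ← LinearMap.det_conj (ρ n) φ.toLinearEquiv, h1]
    exact congrArg (fun z => LinearMap.det (ρ z)) (Subtype.ext rfl)
  subst hV
  obtain ⟨-, hidx, f, hfK, hfS⟩ := h.index_data
  let δ : S →* ℂˣ := (powMonoidHom d).comp μ * (F.comp (Subgroup.inclusion hSV))⁻¹
  let ν : ↥(K ⊔ S) →* ℂˣ := F * δ.comp f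
  have hνK : ∀ n : K.subgroupOf (K ⊔ S), ν n = DetExt.detHom ρ n := fun n => by
    show F n * δ (f (n : ↥(K ⊔ S))) = _
    rw [hfK _ (Subgroup.mem_subgroupOf.mp n.2), map_one, mul_one, hF]
  obtain ⟨σ, hσ, hdet⟩ := DetExt.exists_extension_det ρ hinv (by
    rw [Module.finrank_fin_fun]
    obtain ⟨k, hk⟩ := h.pgroup.exists_card_eq
    rw [hidx, hk]
    exact ((h.prime.coprime_iff_not_dvd).mpr hd).pow_left k) ν hνK
  haveI := DetExt.isIrreducible_of_extends ρ σ hσ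
  have hdσ : Cfsg.charDegree σ.character = d := by
    simp [Cfsg.charDegree, Representation.char_one]
  refine ⟨⟨σ.character, Char.isIrrCharacter_of_rep σ⟩, fun k v ev => ?_, fun s v ev => ?_,
    show ¬ p ∣ Cfsg.charDegree σ.character by rw [hdσ]; exact hd⟩
  · show LinearMap.trace ℂ _ (σ v) = _
    have hv : v ∈ K.subgroupOf (K ⊔ S) := Subgroup.mem_subgroupOf.mpr (ev ▸ k.2)
    rw [show σ v = ρ ⟨v, hv⟩ from hσ ⟨v, hv⟩]
    refine (congrFun hρc ⟨v, hv⟩).trans ?_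
    exact congrArg (θ : K → ℂ) (Subtype.ext ev)
  · show Cfsg.detChar σ.character v = (μ s : ℂ) ^ Cfsg.charDegree σ.character
    rw [DetExt.detChar_character σ, hdσ]
    show LinearMap.det (σ v) = _
    rw [← DetExt.coe_detHom, hdet, ← Units.val_pow_eq_pow_val]
    refine congrArg Units.val ?_
    show F v * δ (f v) = μ s ^ d
    rw [hfS s v ev, show v = Subgroup.inclusion hSV s from Subtype.ext ev]
    show F _ * (μ s ^ d * (F _)⁻¹) = μ s ^ d
    rw [mul_comm (μ s ^ d), mul_inv_cancel_left]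

/-- The pair determines the character. -/
theorem GConf.psi_unique (h : GConf p K S C) (hV : V = K ⊔ S) {ψ ψ' : Cfsg.IrrCharacter V}
    (θ : Cfsg.IrrCharacter K)
    (h1 : ∀ (k : K) (v : V), (v : Γ) = k → (ψ : V → ℂ) v = (θ : K → ℂ) k)
    (h2 : ∀ (k : K) (v : V), (v : Γ) = k → (ψ' : V → ℂ) v = (θ : K → ℂ) k)
    {μ : S →* ℂˣ} (t1 : Tag S ψ μ) (t2 : Tag S ψ' μ) : ψ = ψ' := by
  have := Fact.mk h.prime
  subst hV
  obtain ⟨hn, hidx, -⟩ := h.index_data
  have : (K.subgroupOf (K ⊔ S)).Normal := Subgroup.normal_subgroupOf_of_le_normalizer hn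
  obtain ⟨d, σ, hσi, hσ⟩ := id ψ.2
  obtain ⟨d', σ', hσi', hσ'⟩ := id ψ'.2
  haveI := hσi
  haveI := hσi'
  let N := K.subgroupOf (K ⊔ S)
  have hk : ∀ n : N, (θ : K → ℂ) ⟨((n : ↥(K ⊔ S)) : Γ), Subgroup.mem_subgroupOf.mp n.2⟩ =
      (subIrr (le_sup_left : K ≤ K ⊔ S) θ : N → ℂ) n := fun n => rfl
  have hρirr : Representation.IsIrreducible (σ.comp N.subtype) := by
    obtain ⟨m, τ, hτ, hτc⟩ := (subIrr (le_sup_left : K ≤ K ⊔ S) θ).2
    haveI := hτ
    have hc : τ.character = Representation.character (σ.comp N.subtype : Representation ℂ N _) := by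
      funext n
      rw [hτc]
      show _ = σ.character (n : ↥(K ⊔ S))
      rw [hσ, ← hk]
      exact (h1 ⟨_, Subgroup.mem_subgroupOf.mp n.2⟩ (n : ↥(K ⊔ S)) rfl).symm
    cases nonempty_fintype N
    obtain ⟨φ⟩ := IrrTools.nonempty_equiv_of_character_eq τ (σ.comp N.subtype) hc.symm
    exact Char.isIrreducible_of_equiv φ
  have hdeg : Cfsg.charDegree (ψ : ↥(K ⊔ S) → ℂ) = Cfsg.charDegree (θ : K → ℂ) := by
    unfold Cfsg.charDegree
    rw [h1 1 1 rfl]
  have hdeg' : Cfsg.charDegree (ψ' : ↥(K ⊔ S) → ℂ) = Cfsg.charDegree (θ : K → ℂ) := by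
    unfold Cfsg.charDegree
    rw [h2 1 1 rfl]
  have hdd : Cfsg.charDegree (θ : K → ℂ) = d := by
    rw [← hdeg, ← hσ]
    simp [Cfsg.charDegree, Representation.char_one]
  have hd : ¬ p ∣ d := fun hh => h.nd (hh.trans (hdd ▸ DegreeTools.deg_dvd_card θ))
  have hdet : DetExt.detHom σ' = DetExt.detHom σ := by
    have hval : ∀ {m : ℕ} (τ : Representation ℂ ↥(K ⊔ S) (Fin m → ℂ)) [τ.IsIrreducible]
        (g : ↥(K ⊔ S)), (DetExt.detHom τ g : ℂ) = Cfsg.detChar τ.character g := fun τ _ g => by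
      rw [DetExt.coe_detHom, DetExt.detChar_character τ]
    have hle : (⊤ : Subgroup ↥(K ⊔ S)) ≤ (DetExt.detHom σ').eqLocus (DetExt.detHom σ) := by
      rw [← Subgroup.subgroupOf_self, Subgroup.subgroupOf_sup (A := K) (A' := S) le_sup_left
        le_sup_right]
      refine sup_le (fun n hn' => ?_) fun v hv => ?_
      · obtain ⟨φ⟩ := IrrTools.nonempty_equiv_of_character_eq
          (σ.comp N.subtype : Representation ℂ N _) (σ'.comp N.subtype) (by
          funext m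
          show σ'.character (m : ↥(K ⊔ S)) = σ.character (m : ↥(K ⊔ S))
          rw [hσ, hσ']
          symm
          exact (h1 ⟨_, Subgroup.mem_subgroupOf.mp m.2⟩ m rfl).trans
            (h2 ⟨_, Subgroup.mem_subgroupOf.mp m.2⟩ m rfl).symm)
        refine Units.ext ?_
        rw [DetExt.coe_detHom, DetExt.coe_detHom, ← LinearMap.det_conj (σ n) φ.toLinearEquiv]
        congr 1
        refine LinearMap.ext fun w => ?_
        have h3 := LinearMap.congr_fun (φ.toIntertwiningMap.isIntertwining' ⟨n, hn'⟩)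
          (φ.toLinearEquiv.symm w)
        exact (congrArg (σ' n) (φ.toLinearEquiv.apply_symm_apply w)).symm.trans h3.symm
      · refine Units.ext ?_
        rw [hval σ' v, hval σ v, hσ, hσ',
          t2 ⟨(v : Γ), Subgroup.mem_subgroupOf.mp hv⟩ v rfl,
          t1 ⟨(v : Γ), Subgroup.mem_subgroupOf.mp hv⟩ v rfl, hdeg, hdeg']
    exact MonoidHom.ext fun g => hle (Subgroup.mem_top g)
  haveI := hρirr
  refine Subtype.ext ?_
  rw [← hσ, ← hσ']
  refine (DetExt.character_eq_of_det_eq (N := N) (σ.comp N.subtype) ?_ σ (fun _ => rfl) σ'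
    (fun n => ?_) hdet).symm
  · rw [Module.finrank_fin_fun]
    obtain ⟨k, hk'⟩ := h.pgroup.exists_card_eq
    rw [hidx, hk']
    exact ((h.prime.coprime_iff_not_dvd).mpr hd).pow_left k
  · show σ'.character (n : ↥(K ⊔ S)) = σ.character (n : ↥(K ⊔ S))
    rw [hσ, hσ']
    exact (h2 ⟨_, Subgroup.mem_subgroupOf.mp n.2⟩ n rfl).trans
      (h1 ⟨_, Subgroup.mem_subgroupOf.mp n.2⟩ n rfl).symm

end CfsgLib.CharDeep.RelMcKay
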